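import Cfsg.Agent.XS.Bas

/-! Automorphisms of `S` act on the coordinates. -/

set_option autoImplicit false

universe u

namespace Cfsg.Lib.XS

open Cfsg Cfsg.FusionSystem Cfsg.Lib.Fus Module Subgroup Equiv

variable {p : ℕ} [hp : Fact p.Prime] {Ω : Type u} [Group Ω] {S Q : Subgroup Ω} {W : Type}
  [AddCommGroup W] [Module (ZMod p) W] (C : Co p S Q W) {F : FusionSystem S}

theorem Co.exists_mu {g : Perm Ω} (hg : PIso F g S S) : ∃ μ, μ ≠ 0 ∧ ∀ t, g (C.ζ t) = C.ζ (μ * t) := by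
  obtain ⟨μ, e⟩ := C.central (hg.maps (C.ζ_memS 1)) fun a ha => by
    have h1 := hg.inv_maps (C.le ha)
    rw [← perm_apply_inv g a, ← hg.map_mul h1 (C.ζ_memS 1), C.ζ_cen _ h1, hg.map_mul (C.ζ_memS 1) h1]
  refine ⟨μ, fun h => one_ne_zero (C.ζ_inj 1 ((hg.mor.eq_one_iff (C.ζ_memS 1)).1 (by rw [e, h, C.ζ_zero]))),
    fun t => ?_⟩
  rw [C.ζ_eq_pow t, hg.mor.map_pow (C.ζ_memS 1), e, C.ζ_pow, ZMod.natCast_zmod_val, mul_comm]

theorem Co.wChar [Finite S] [Finite W] : C.WChar F := by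
  intro e he hq hr g hg
  obtain ⟨μ, μ0, hμ⟩ := C.exists_mu hg
  have mem : ∀ a ∈ Q, g a ∈ Q := fun a ha => by
    by_contra h1
    refine h1 ((((hg.symm.mor.restrict C.le).piso_of_maps fun b hb => ?_).mem (g a)).1 (by simpa using ha))
    by_contra h2
    have aS := C.le ha
    rw [C.range_eq he hq (hg.maps aS) h1] at hr
    have h3 : LinearMap.range (C.u (g a) - 1) ≤ Submodule.span (ZMod p) {(C.u (g a) - 1) (C.ν b)} := by
      rintro _ ⟨w, rfl⟩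
      obtain ⟨x, hx, rfl⟩ := C.ν_surj w
      have bS := hg.inv_maps (C.le hb)
      obtain ⟨c, hc, i, -, e1⟩ := C.gen bS h2 (hg.inv_maps (C.le hx))
      have cS := C.le hc
      rw [Perm.inv_eq_iff_eq, hg.map_mul cS (S.pow_mem bS i), hg.mor.map_pow bS, perm_apply_inv] at e1
      have h4 : g c ∈ Q := (Q.mul_mem_cancel_right (Q.pow_mem hb i)).1 (e1 ▸ hx)
      have h5 : (C.u (g a) - 1) (C.ν (g c)) = 0 := by
        rw [← C.ν_comm (hg.maps aS) h4, ← hg.map_conj aS cS, ← hg.mor.map_inv cS,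
          ← hg.map_mul (C.le (C.nrm a aS c hc)) (inv_mem cS), C.comm_Q ha hc, hμ, C.ν_ζ]
      rw [e1, C.ν_mul _ h4 _ (Q.pow_mem hb i), map_add, h5, zero_add, C.ν_pow hb, map_smul]
      exact Submodule.smul_mem _ _ (Submodule.mem_span_singleton_self _)
    have := (Submodule.finrank_mono h3).trans (finrank_span_le_card _)
    simp only [Set.toFinset_singleton, Finset.card_singleton] at this
    omega
  choose σ hσ hν using C.ν_surj
  have h0 : ∀ a ∈ Q, C.ν (g a) = C.ν (g (σ (C.ν a))) := fun a ha => by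
    obtain ⟨r, e1⟩ := C.ν_eq ha (hσ _) (hν _).symm
    conv_lhs => rw [e1, hg.map_mul (C.le (hσ _)) (C.ζ_memS r), hμ, C.ν_mul_ζ (mem _ (hσ _))]
  let k : W →ₗ[ZMod p] W := (AddMonoidHom.mk' (fun w => C.ν (g (σ w))) fun v w => by
    rw [← C.ν_mul _ (mem _ (hσ v)) _ (mem _ (hσ w)), ← hg.map_mul (C.le (hσ v)) (C.le (hσ w)),
      h0 _ (mul_mem (hσ v) (hσ w)), C.ν_mul _ (hσ v) _ (hσ w), hν, hν]).toZModLinearMap p
  have hk : Function.Injective k := (injective_iff_map_eq_zero k).2 fun w e1 => by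
    obtain ⟨t, e2⟩ := C.ν_ker _ (mem _ (hσ w)) e1
    rw [← mul_div_cancel₀ t μ0, ← hμ] at e2
    rw [← hν w, g.injective e2, C.ν_ζ]
  have h1 : ∀ a ∈ Q, C.ν (g a) = LinearEquiv.ofInjectiveEndo k hk (C.ν a) := h0
  refine ⟨_, μ, mem, h1, μ0, hμ, fun v w => ?_, fun w => ?_, fun s hs w => ?_⟩
  · obtain ⟨a, ha, rfl⟩ := C.ν_surj v
    obtain ⟨b, hb, rfl⟩ := C.ν_surj w
    apply C.ζ_injective
    rw [← h1 a ha, ← h1 b hb, ← hμ, ← C.comm_Q (mem a ha) (mem b hb), ← C.comm_Q ha hb,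
      hg.map_mul (C.le (C.nrm a (C.le ha) b hb)) (inv_mem (C.le hb)), hg.map_conj (C.le ha) (C.le hb),
      hg.mor.map_inv (C.le hb)]
  · obtain ⟨a, ha, rfl⟩ := C.ν_surj w
    apply C.ζ_injective
    rw [← h1 a ha, ← hμ, ← C.pow _ (mem a ha), ← C.pow a ha, hg.mor.map_pow (C.le ha)]
  · obtain ⟨a, ha, rfl⟩ := C.ν_surj w
    rw [← C.conj s hs a ha, ← h1 _ (C.nrm s hs a ha), ← h1 a ha, ← C.conj _ (hg.maps hs) _ (mem a ha),
      hg.map_conj hs (C.le ha)]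

end Cfsg.Lib.XS
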