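import Cfsg.Agent.XS.Defs
import Cfsg.Agent.Solv.FrattiniP
import Cfsg.Agent.Trans.ClassTwo
import Mathlib.GroupTheory.IndexNormal

/-! Coordinates on an extraspecial subgroup of index `p`. -/

set_option autoImplicit false
set_option linter.unusedSectionVars false

universe u

namespace Cfsg.Lib.XS

open Module Subgroup Cfsg.Lib.Solv

namespace Coh

variable {p : ℕ} [hp : Fact p.Prime] {Ω : Type u} [Group Ω] {S Q : Subgroup Ω}

/-- The central quotient and the centre. -/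
structure Pre (Q : Subgroup Ω) {W : Type} [AddCommGroup W] (ν : Ω → W) (ζ : ZMod p → Ω) : Prop where
  mul : ∀ a ∈ Q, ∀ b ∈ Q, ν (a * b) = ν a + ν b
  surj : ∀ w, ∃ a ∈ Q, ν a = w
  ker : ∀ a ∈ Q, ν a = 0 ↔ ∀ b ∈ Q, b * a = a * b
  cen : ∀ a, (a ∈ Q ∧ ∀ b ∈ Q, b * a = a * b) ↔ ∃ t, a = ζ t
  add : ∀ s t, ζ (s + t) = ζ s * ζ t
  inj : Function.Injective ζ
  pow : ∀ a ∈ Q, ν (a ^ p) = 0

theorem exists_pre [Finite Q] (hQ : IsExtraspecial p Q) :
    ∃ (m : ℕ) (ν : Ω → Fin m → ZMod p) (ζ : ZMod p → Ω), Nat.card Q = p ^ (m + 1) ∧ Pre Q ν ζ := by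
  classical
  obtain ⟨⟨hP, hF, hC⟩, hZ⟩ := hQ
  have : ElemAb p (Q ⧸ center Q) := (ElemAb.quotient_iff _).2 ⟨hC.le, fun x => hF ▸ pow_mem_frattini hP x⟩
  obtain ⟨m, hm⟩ := IsPGroup.iff_card.1 (hP.to_quotient (center Q))
  obtain ⟨φ⟩ := Vec.nonempty_mulEquiv_pi (p := p) hm
  have : IsCyclic (center Q) := isCyclic_of_prime_card hZ
  let ψ : Multiplicative (ZMod p) ≃* center Q := mulEquivOfCyclicCardEq (by simp [hZ])
  have mul : ∀ a ∈ Q, ∀ b ∈ Q, (if h : a * b ∈ Q then (φ (⟨a * b, h⟩ : Q)).toAdd else 0) =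
      (if h : a ∈ Q then (φ (⟨a, h⟩ : Q)).toAdd else 0) + if h : b ∈ Q then (φ (⟨b, h⟩ : Q)).toAdd else 0 :=
    fun a ha b hb => by
      rw [dif_pos (mul_mem ha hb), dif_pos ha, dif_pos hb, ← toAdd_mul, ← map_mul, ← QuotientGroup.mk_mul]
      rfl
  have ker : ∀ a (ha : a ∈ Q), (if h : a ∈ Q then (φ (⟨a, h⟩ : Q)).toAdd else 0) = 0 ↔ (⟨a, ha⟩ : Q) ∈ center Q :=
    fun a ha => by rw [dif_pos ha, toAdd_eq_zero, map_eq_one_iff _ φ.injective, QuotientGroup.eq_one_iff]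
  have mc : ∀ a (ha : a ∈ Q), (⟨a, ha⟩ : Q) ∈ center Q ↔ ∀ b ∈ Q, b * a = a * b := fun a ha =>
    mem_center_iff.trans ⟨fun h b hb => congrArg Subtype.val (h ⟨b, hb⟩), fun h b => Subtype.ext (h b b.2)⟩
  refine ⟨m, fun a => if h : a ∈ Q then (φ (⟨a, h⟩ : Q)).toAdd else 0, fun t => (ψ (Multiplicative.ofAdd t) : Q),
    by rw [card_eq_card_quotient_mul_card_subgroup (center Q), hm, hZ, pow_succ], mul, fun w => ?_,
    fun a ha => (ker a ha).trans (mc a ha), fun a => ⟨fun ⟨ha, h⟩ => ?_, ?_⟩, fun s t => by simp [ofAdd_add],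
    fun s t e => by simpa using e, fun a ha => (ker _ (pow_mem ha p)).2 (hF ▸ pow_mem_frattini hP ⟨a, ha⟩)⟩
  · obtain ⟨x, hx⟩ := φ.surjective (Multiplicative.ofAdd w)
    obtain ⟨a, rfl⟩ := QuotientGroup.mk_surjective x
    exact ⟨a, a.2, by rw [dif_pos a.2, hx]; rfl⟩
  · obtain ⟨t, ht⟩ := ψ.surjective ⟨⟨a, ha⟩, (mc a ha).2 h⟩
    exact ⟨t.toAdd, by simp [ht]⟩
  · rintro ⟨t, rfl⟩
    exact ⟨SetLike.coe_mem _, (mc _ (SetLike.coe_mem _)).1 (SetLike.coe_mem _)⟩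

namespace Pre

variable {W : Type} [AddCommGroup W] [Module (ZMod p) W] {ν : Ω → W} {ζ : ZMod p → Ω} (h : Pre Q ν ζ)
include h

theorem mem (t : ZMod p) : ζ t ∈ Q := ((h.cen _).2 ⟨t, rfl⟩).1

theorem comm (t : ZMod p) {b : Ω} (hb : b ∈ Q) : b * ζ t = ζ t * b := ((h.cen _).2 ⟨t, rfl⟩).2 b hb

theorem zero : ζ 0 = 1 := by simpa using h.add 0 0

theorem ν_ζ (t : ZMod p) : ν (ζ t) = 0 := (h.ker _ (h.mem t)).2 fun _ => h.comm t

theorem exists_ζ {a : Ω} (ha : a ∈ Q) (e : ν a = 0) : ∃ t, a = ζ t := (h.cen a).1 ⟨ha, (h.ker a ha).1 e⟩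

theorem exists_eq {a b : Ω} (ha : a ∈ Q) (hb : b ∈ Q) (e : ν a = ν b) : ∃ t, a = ζ t * b := by
  obtain ⟨t, ht⟩ := h.exists_ζ (mul_mem ha (inv_mem hb)) (by
    have := h.mul _ (mul_mem ha (inv_mem hb)) b hb
    rwa [inv_mul_cancel_right, e, right_eq_add] at this)
  exact ⟨t, by rw [← ht, inv_mul_cancel_right]⟩

theorem ζ_pow (t : ZMod p) (n : ℕ) : ζ t ^ n = ζ (n * t) := by
  induction n with
  | zero => simp [h.zero]
  | succ n ih => rw [pow_succ, ih, ← h.add, Nat.cast_succ, add_mul, one_mul]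

theorem desc {M : Type} [AddCommGroup M] [Module (ZMod p) M] (f : Ω → M)
    (hf : ∀ a ∈ Q, ∀ b ∈ Q, f (a * b) = f a + f b) (hz : ∀ t, f (ζ t) = 0) :
    ∃ L : W →ₗ[ZMod p] M, ∀ a ∈ Q, L (ν a) = f a := by
  choose σ hσ e using h.surj
  have wd : ∀ a ∈ Q, f (σ (ν a)) = f a := fun a ha => by
    obtain ⟨t, ht⟩ := h.exists_eq (hσ _) ha (e _)
    rw [ht, hf _ (h.mem t) a ha, hz, zero_add]
  exact ⟨(AddMonoidHom.mk' (fun w => f (σ w)) fun v w => by
    rw [← hf _ (hσ v) _ (hσ w), ← wd _ (mul_mem (hσ v) (hσ w)), h.mul _ (hσ v) _ (hσ w), e, e]).toZModLinearMap p, wd⟩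

/-- An endomorphism of `Q` acting trivially on the centre and the central quotient. -/
theorem exists_fun (f : Ω → Ω) (hm : ∀ a ∈ Q, f a ∈ Q) (hf : ∀ a ∈ Q, ∀ b ∈ Q, f (a * b) = f a * f b)
    (hz : ∀ t, f (ζ t) = ζ t) (hν : ∀ a ∈ Q, ν (f a) = ν a) :
    ∃ L : W →ₗ[ZMod p] ZMod p, ∀ a ∈ Q, f a = ζ (L (ν a)) * a := by
  choose! l hl using fun a (ha : a ∈ Q) => h.exists_eq (hm a ha) ha (hν a ha)
  obtain ⟨L, hL⟩ := h.desc l (fun a ha b hb => h.inj (mul_right_cancel (b := a * b) (by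
    rw [← hl _ (mul_mem ha hb), hf a ha b hb, hl a ha, hl b hb, h.add, mul_assoc, ← mul_assoc a, h.comm _ ha]
    group))) fun t => h.inj (mul_right_cancel (b := ζ t) (by rw [← hl _ (h.mem t), hz, h.zero, one_mul]))
  exact ⟨L, fun a ha => by rw [hL a ha, hl a ha]⟩

theorem exists_ω : ∃ ω : BF p W, ∀ a ∈ Q, ∀ b ∈ Q, a * b * a⁻¹ = ζ (ω (ν a) (ν b)) * b := by
  choose! L hL using fun a (ha : a ∈ Q) => h.exists_fun (fun b => a * b * a⁻¹)
    (fun b hb => mul_mem (mul_mem ha hb) (inv_mem ha)) (fun _ _ _ _ => by group)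
    (fun t => by rw [h.comm t ha, mul_inv_cancel_right]) fun b hb => by
      have := h.mul _ (mul_mem (mul_mem ha hb) (inv_mem ha)) a ha
      rw [inv_mul_cancel_right, h.mul a ha b hb, add_comm, add_left_inj] at this
      exact this.symm
  obtain ⟨ω, hω⟩ := h.desc L (fun a ha b hb => LinearMap.ext fun w => by
    obtain ⟨c, hc, rfl⟩ := h.surj w
    refine h.inj (mul_right_cancel (b := c) ?_)
    rw [← hL _ (mul_mem ha hb) c hc, LinearMap.add_apply, add_comm, h.add, mul_assoc (ζ _), ← hL a ha c hc,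
      ← mul_assoc (ζ _), ← mul_assoc (ζ _), ← h.comm _ ha, mul_assoc a (ζ _), ← hL b hb c hc]
    group) fun t => LinearMap.ext fun w => by
      obtain ⟨c, hc, rfl⟩ := h.surj w
      refine h.inj (mul_right_cancel (b := c) ?_)
      rw [← hL _ (h.mem t) c hc, ← h.comm t hc, LinearMap.zero_apply, h.zero]
      group
  exact ⟨ω, fun a ha b hb => by rw [hω a ha, hL a ha b hb]⟩

theorem exists_π (h2 : p ≠ 2) : ∃ π : W →ₗ[ZMod p] ZMod p, ∀ a ∈ Q, a ^ p = ζ (π (ν a)) := by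
  obtain ⟨ω, hω⟩ := h.exists_ω
  choose! l hl using fun a (ha : a ∈ Q) => h.exists_ζ (pow_mem ha p) (h.pow a ha)
  obtain ⟨π, hπ⟩ := h.desc l (fun a ha b hb => h.inj (by
    rw [← hl _ (mul_mem ha hb), h.add, ← hl a ha, ← hl b hb, Trans.mul_pow_eq_of_comm (c := ζ (ω (ν b) (ν a)))
      (by rw [← hω b hb a ha, inv_mul_cancel_right]) (h.comm _ ha).symm (h.comm _ hb).symm, h.ζ_pow,
      (ZMod.natCast_eq_zero_iff _ p).2 (hp.out.dvd_choose_self two_ne_zero (lt_of_le_of_ne hp.out.two_le h2.symm)),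
      zero_mul, h.zero, mul_one])) fun t => h.inj (by
        rw [← hl _ (h.mem t), h.ζ_pow, ZMod.natCast_self, zero_mul])
  exact ⟨π, fun a ha => by rw [hπ a ha, hl a ha]⟩

end Pre

theorem nrm [Finite S] (hS : IsPGroup p S) (hi : Q.relIndex S = p) {s a : Ω} (hs : s ∈ S) (ha : a ∈ Q)
    (le : Q ≤ S) : s * a * s⁻¹ ∈ Q := by
  obtain ⟨n, hn⟩ := IsPGroup.iff_card.1 hS
  have n0 : n ≠ 0 := by
    rintro rfl
    have := (Q.subgroupOf S).index_dvd_card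
    rw [hn, pow_zero, Nat.dvd_one] at this
    exact hp.out.ne_one (hi.symm.trans this)
  have : (Q.subgroupOf S).Normal := normal_of_index_eq_minFac_card (by rw [hn, hp.out.pow_minFac n0]; exact hi)
  exact this.conj_mem ⟨a, le ha⟩ ha ⟨s, hs⟩

theorem le_of_not_le {H : Subgroup Ω} (hi : Q.relIndex S = p) (h1 : Q ≤ H) (h2 : H ≤ S) (h3 : ¬ H ≤ Q) : S ≤ H := by
  have := relIndex_mul_relIndex Q H S h1 h2
  rw [hi] at this
  rcases hp.out.eq_one_or_self_of_dvd _ (Dvd.intro _ this) with e | e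
  · exact absurd (relIndex_eq_one.1 e) h3
  · rw [e] at this
    exact relIndex_eq_one.1 (by simpa [hp.out.ne_zero] using this)

end Coh

open Coh

theorem wCo : WCo.{u} := by
  intro Ω _ S _ p hp h2 hS Q le hQ hi h6 hZ
  have : Finite Q := Finite.of_injective _ (inclusion_injective le)
  obtain ⟨m, ν, ζ, hc, h⟩ := exists_pre hQ
  obtain ⟨ω, hω⟩ := h.exists_ω
  obtain ⟨π, hπ⟩ := h.exists_π h2
  have cen : ∀ s ∈ S, ∀ t, s * ζ t = ζ t * s := fun s hs t =>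
    (hZ.ge ⟨h.mem t, fun _ hb => h.comm t hb⟩).2 s hs
  choose! u hu using fun s (hs : s ∈ S) => h.desc (fun a => ν (s * a * s⁻¹)) (fun a ha b hb => by
    rw [← h.mul _ (nrm hS hi hs ha le) _ (nrm hS hi hs hb le)]
    congr 1
    group) fun t => by rw [cen s hs, mul_inv_cancel_right, h.ν_ζ]
  have nd : ∀ w, (∀ v, ω w v = 0) → w = 0 := fun w e => by
    obtain ⟨a, ha, rfl⟩ := h.surj w
    refine (h.ker a ha).2 fun b hb => ?_
    have := hω a ha b hb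
    rw [e, h.zero, one_mul, mul_inv_eq_iff_eq_mul] at this
    exact this.symm
  refine ⟨m, ⟨⟨ν, ζ, ω, π, u, h2, hS, le, hi, ?_, h.mul, h.surj, fun a ha => h.exists_ζ ha, h.ν_ζ, h.add,
    fun t e => h.inj (e.trans h.zero.symm), h.mem, cen, fun a ha b hb => ?_, fun w => ?_, nd, hπ,
    fun s hs a ha => nrm hS hi hs ha le, fun s hs a ha => (hu s hs a ha).symm, fun e he eQ e1 => ?_⟩⟩⟩
  · rw [← (Q.subgroupOf S).card_mul_index, Nat.card_congr (subgroupOfEquivOfLe le).toEquiv, hc,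
      show (Q.subgroupOf S).index = p from hi, ← pow_succ, Nat.pow_le_pow_iff_right hp.out.one_lt] at h6
    simpa using h6
  · rw [← mul_assoc, ← hω a ha b hb, inv_mul_cancel_right]
  · obtain ⟨a, ha, rfl⟩ := h.surj w
    exact h.inj (mul_right_cancel (b := a) (by rw [← hω a ha a ha, h.zero]; group))
  · obtain ⟨L, hL⟩ := h.exists_fun (fun a => e * a * e⁻¹) (fun a ha => nrm hS hi he ha le) (fun _ _ _ _ => by group)
      (fun t => by rw [cen e he, mul_inv_cancel_right]) fun a ha => by rw [← hu e he a ha, e1]; rfl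
    obtain ⟨w, hw⟩ := (LinearMap.injective_iff_surjective_of_finrank_eq_finrank (f := ω)
      Subspace.dual_finrank_eq.symm).1 ((injective_iff_map_eq_zero ω).2 fun w e => nd w fun v => by rw [e]; rfl) L
    obtain ⟨b, hb, rfl⟩ := h.surj w
    have hc : b⁻¹ * e ∈ S := mul_mem (inv_mem (le hb)) he
    have cQ : b⁻¹ * e ∉ Q := fun hm => eQ (by simpa using mul_mem hb hm)
    have := le_of_not_le (H := S ⊓ centralizer {b⁻¹ * e}) hi (fun a ha => ⟨le ha, mem_centralizer_singleton_iff.2 (by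
      have e2 := (hL a ha).trans (hw ▸ hω b hb a ha).symm
      calc a * (b⁻¹ * e) = b⁻¹ * (b * a * b⁻¹) * e := by group
        _ = _ := by rw [← e2]; group)⟩) inf_le_left fun hl => cQ (hl ⟨hc, mem_centralizer_singleton_iff.2 rfl⟩)
    exact cQ (hZ.le ⟨hc, fun s hs => mem_centralizer_singleton_iff.1 (this hs).2⟩).1

end Cfsg.Lib.XS
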