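import Cfsg.Agent.XS.Bas
import Mathlib.Algebra.Module.ZMod

/-! Linear coordinates on the elementary abelian essential subgroup. -/

set_option autoImplicit false

universe u

namespace Cfsg.Lib.XS

open Cfsg Cfsg.FusionSystem Cfsg.Lib.Fus Module Subgroup Equiv

variable {p : ℕ} [hp : Fact p.Prime] {Ω : Type u} [Group Ω] {S Q : Subgroup Ω} {W : Type}
  [AddCommGroup W] [Module (ZMod p) W] [Finite W]

theorem ECa.pow_val_add {e : Ω} (he : e ^ p = 1) (r r' : ZMod p) :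
    e ^ (r + r').val = e ^ r.val * e ^ r'.val := by
  rw [← pow_add, ZMod.val_add, ← pow_eq_pow_mod _ he]

theorem wEC (C : Co p S Q W) {F : FusionSystem S} : C.WEC F := by
  intro hq e g hn
  have hz := C.ζ_mem_CS hn.mem
  have heE : e ∈ CS S e := self_mem_CS hn.mem
  have hi := hn.iso.symm
  have ep := hn.pow e heE
  have gie : g⁻¹ e = C.ζ 1 := by rw [Perm.inv_eq_iff_eq, hn.gz]
  let A : Submodule (ZMod p) W := C.im (CS S e ⊓ Q) inf_le_right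
  have memA : ∀ a ∈ Q, C.ν a ∈ A ↔ e * a = a * e := fun a ha => by
    refine ⟨?_, fun h => ⟨a, ⟨mem_CS.2 ⟨C.le ha, h.symm⟩, ha⟩, rfl⟩⟩
    rintro ⟨b, hb, h⟩
    obtain ⟨r, rfl⟩ := C.ν_eq ha hb.2 h.symm
    exact hn.comm _ heE _ (mul_mem hb.1 (hz r))
  have f1 : ∀ r, g⁻¹ (C.ζ r) ∈ Q → r = 0 := fun r h => by
    obtain ⟨s, hs⟩ := C.ν_ker _ h (hq _ h ((Co.zc_iff hi.mor (hz r)).2 (Co.zc_ζ r)))
    rw [Perm.inv_eq_iff_eq, C.ζ_eq_pow s, hn.iso.mor.map_pow (hz 1), hn.gz] at hs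
    have h2 := (C.pow_mem_iff hn.mem hn.out).1 (hs ▸ C.ζ_mem r)
    rw [Nat.eq_zero_of_dvd_of_lt h2 (ZMod.val_lt s), pow_zero] at hs
    exact C.ζ_inj r hs
  have f2 : ∀ d : A, ∃ a ∈ CS S e, a ∈ Q ∧ C.ν a = d ∧ g⁻¹ a ∈ Q := by
    rintro ⟨_, x, hx, rfl⟩
    obtain ⟨a, ha, i, -, h⟩ := C.gen (hi.mor.maps (hz 1)) (fun h => one_ne_zero (f1 1 h))
      (hi.mor.maps hx.1)
    refine ⟨x * C.ζ (-(i * 1)), mul_mem hx.1 (hz _), mul_mem hx.2 (C.ζ_mem _), C.ν_mul_ζ hx.2 _, ?_⟩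
    rwa [hi.map_mul hx.1 (hz _), C.ζ_neg, ← C.ζ_pow, hi.mor.map_inv (pow_mem (hz 1) i),
      hi.mor.map_pow (hz 1), h, mul_inv_cancel_right]
  choose δ dE dQ dν dg using f2
  have uniq : ∀ (d : A), ∀ a ∈ CS S e, a ∈ Q → C.ν a = d → g⁻¹ a ∈ Q → a = δ d :=
    fun d a ha haq h1 h2 => by
      obtain ⟨r, rfl⟩ := C.ν_eq haq (dQ d) (h1.trans (dν d).symm)
      rw [hi.map_mul (dE d) (hz r), Q.mul_mem_cancel_left (dg d)] at h2
      rw [f1 r h2, C.ζ_zero, mul_one]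
  have d0 : δ 0 = 1 := (uniq 0 1 (one_mem _) (one_mem _) C.ν_one
    (by rw [hi.mor.map_one]; exact one_mem _)).symm
  have dadd : ∀ d d', δ (d + d') = δ d * δ d' := fun d d' =>
    (uniq _ _ (mul_mem (dE d) (dE d')) (mul_mem (dQ d) (dQ d'))
      (by rw [C.ν_mul _ (dQ d) _ (dQ d'), dν, dν]; rfl)
      (by rw [hi.map_mul (dE d) (dE d')]; exact mul_mem (dg d) (dg d'))).symm
  obtain ⟨el, hel⟩ : ∃ el : VV p A → Ω, ∀ s d r, el (s, d, r) = C.ζ s * δ d * e ^ r.val :=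
    ⟨fun v => C.ζ v.1 * δ v.2.1 * e ^ v.2.2.val, fun _ _ _ => rfl⟩
  have elE : ∀ v, el v ∈ CS S e := fun ⟨s, d, r⟩ =>
    hel s d r ▸ mul_mem (mul_mem (hz s) (dE d)) (pow_mem heE _)
  have el_add : ∀ v w, el (v + w) = el v * el w := by
    rintro ⟨s, d, r⟩ ⟨s', d', r'⟩
    rw [Prod.mk_add_mk, Prod.mk_add_mk, hel, hel, hel, C.ζ_add, dadd, ECa.pow_val_add ep]
    have h1 := hn.comm _ (hz s') _ (dE d)
    have h2 := hn.comm _ (pow_mem heE r.val) _ (mul_mem (hz s') (dE d'))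
    calc _ = C.ζ s * (C.ζ s' * δ d) * δ d' * e ^ r.val * e ^ r'.val := by group
      _ = C.ζ s * δ d * (C.ζ s' * δ d' * e ^ r.val) * e ^ r'.val := by rw [h1]; group
      _ = _ := by rw [← h2]; group
  have el0 : ∀ s d, el (s, d, 0) = C.ζ s * δ d := fun s d => by
    rw [hel, ZMod.val_zero, pow_zero, mul_one]
  have el_z : ∀ s, el (s, 0, 0) = C.ζ s := fun s => by rw [el0, d0, mul_one]
  have el_e : ∀ r : ZMod p, el (0, 0, r) = e ^ r.val := fun r => by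
    rw [hel, d0, C.ζ_zero, one_mul, one_mul]
  have el_e1 : el (0, 0, 1) = e := by rw [el_e, ZMod.val_one, pow_one]
  have el_Q : ∀ v, el v ∈ Q ↔ v.2.2 = 0 := by
    rintro ⟨s, d, r⟩
    rw [hel, Q.mul_mem_cancel_left (mul_mem (C.ζ_mem s) (dQ d)), C.pow_mem_iff hn.mem hn.out,
      ← ZMod.natCast_eq_zero_iff, ZMod.natCast_zmod_val]
  have el_ν : ∀ s d, C.ν (el (s, d, 0)) = d := fun s d => by rw [el0, C.ν_ζ_mul (dQ d), dν]
  have el_zero : el 0 = 1 := (el_z 0).trans C.ζ_zero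
  have el_inj : Function.Injective el := fun v w h => by
    have h1 : el (v - w) = 1 := mul_right_cancel (b := el w) (by rw [← el_add, sub_add_cancel, h, one_mul])
    rw [← sub_eq_zero]
    generalize v - w = x at h1
    obtain ⟨s, d, r⟩ := x
    obtain rfl : r = 0 := (el_Q _).1 (h1 ▸ one_mem _)
    obtain rfl : d = 0 := Subtype.ext (by rw [← el_ν s d, h1, C.ν_one]; rfl)
    rw [C.ζ_inj s (el_z s ▸ h1)]
    rfl
  have el_A : ∀ a ∈ Q, ∀ d : A, C.ν a = d → ∃ s, a = el (s, d, 0) := fun a ha d h => by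
    obtain ⟨r, rfl⟩ := C.ν_eq ha (dQ d) (h.trans (dν d).symm)
    exact ⟨r, by rw [el0, C.ζ_cen _ (C.le (dQ d))]⟩
  have el_pow : ∀ v (n : ℕ), el v ^ n = el ((n : ZMod p) • v) := fun v n => by
    induction n with
    | zero => simp [el_zero]
    | succ n ih => rw [pow_succ, ih, ← el_add, Nat.cast_succ, add_smul, one_smul]
  have el_mem : ∀ x, x ∈ CS S e ↔ ∃ v, el v = x := fun x => by
    refine ⟨fun hx => ?_, by rintro ⟨v, rfl⟩; exact elE v⟩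
    obtain ⟨a, ha, i, -, rfl⟩ := C.gen hn.mem hn.out (CS_le hx)
    obtain ⟨s, hs⟩ := el_A a ha ⟨_, a, ⟨(mul_mem_cancel_right (pow_mem heE i)).1 hx, ha⟩, rfl⟩ rfl
    exact ⟨_ + (i : ZMod p) • (0, 0, 1), by rw [el_add, ← hs, ← el_pow, el_e1]⟩
  have lin : ∀ k : Perm Ω, PIso F k (CS S e) (CS S e) →
      ∃ γ : VV p A ≃ₗ[ZMod p] VV p A, ∀ v, k (el v) = el (γ v) := fun k hk => by
    choose φ hφ using fun v => (el_mem _).1 (hk.maps (elE v))
    have hadd : ∀ v w, φ (v + w) = φ v + φ w := fun v w => el_inj (by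
      rw [el_add, hφ, hφ, hφ, el_add, hk.map_mul (elE v) (elE w)])
    have hinj : Function.Injective φ := fun v w h => el_inj (k.injective (by rw [← hφ, ← hφ, h]))
    exact ⟨LinearEquiv.ofBijective ((AddMonoidHom.mk' φ hadd).toZModLinearMap p)
      (Finite.injective_iff_bijective.1 hinj), fun v => (hφ v).symm⟩
  choose σ hσ hν using C.ν_surj
  refine ⟨A, ⟨⟨el, fun w => (Function.invFun el (σ w * e * (σ w)⁻¹)).1, memA, el_add, el_inj, el_mem,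
    el_z, el_e, el_Q, el_ν, lin, ?_, fun y hy h s d r => ?_⟩⟩⟩
  · obtain ⟨γ, hγ⟩ := lin g hn.iso
    refine ⟨g, γ, hn.iso, hγ, el_inj (by rw [← hγ, el_z, hn.gz, el_e1]), fun s d => ?_⟩
    have h1 : g⁻¹ (el (γ (s, d, 0))) ∈ Q := by
      rw [← hγ]; simpa using (el_Q (s, d, 0)).2 rfl
    generalize γ (s, d, 0) = x at h1
    obtain ⟨s', d', r'⟩ := x
    rw [hel, hi.map_mul (mul_mem (hz _) (dE _)) (pow_mem heE _), hi.map_mul (hz _) (dE _),
      hi.mor.map_pow heE, gie, Q.mul_mem_cancel_right (pow_mem (C.ζ_mem 1) _),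
      Q.mul_mem_cancel_right (dg _)] at h1
    exact f1 _ h1
  · obtain ⟨k, hk⟩ := el_A _ (C.comm_mem' hn.mem hy) (-⟨_, h⟩) (C.ν_comm' hn.mem hy)
    have h1 : y * e * y⁻¹ = el (k, -⟨_, h⟩, 1) := by
      have h3 := el_add (k, -⟨_, h⟩, 0) (0, 0, 1)
      rw [el_e1, ← hk, inv_mul_cancel_right] at h3
      simpa using h3.symm
    have h2 : σ (C.ν y) * e * (σ (C.ν y))⁻¹ = y * e * y⁻¹ := by
      obtain ⟨r, hr⟩ := C.ν_eq (hσ (C.ν y)) hy (hν _)
      rw [hr, mul_assoc y, ← C.ζ_cen e hn.mem]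
      group
    rw [h2, h1, Function.leftInverse_invFun el_inj, hel, ← conj_mul, ← conj_mul, C.conj_ζ (C.le hy),
      C.conj_Q hy (dQ d), dν, ← conj_pow, h1, el_pow, ← mul_assoc, ← C.ζ_add, ← el0, ← el_add,
      ZMod.natCast_zmod_val]
    simp [sub_eq_add_neg]

end Cfsg.Lib.XS
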