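import Cfsg.Agent.XS.Bas
import Mathlib.Algebra.Group.MinimalAxioms

/-! The equivariant section and the embedding into a model. -/

set_option autoImplicit false

universe u

namespace Cfsg.Lib.XS

open Cfsg Cfsg.FusionSystem Cfsg.Lib.Fus Module Subgroup Equiv

variable {p : ℕ} [hp : Fact p.Prime] {Ω : Type u} [Group Ω] {S Q : Subgroup Ω} {W : Type}
  [AddCommGroup W] [Module (ZMod p) W]

namespace Emb

/-- The elements of `Q` with the twisted product. -/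
@[ext] structure Ad (C : Co p S Q W) where
  /-- the element -/
  val : Ω
  mem : val ∈ Q

variable {C : Co p S Q W}

theorem ζ_mul {a : Ω} (ha : a ∈ S) (t : ZMod p) : C.ζ t * a = a * C.ζ t := (C.ζ_cen a ha t).symm

theorem ζ_mul' {a : Ω} (ha : a ∈ S) (t : ZMod p) (x : Ω) : C.ζ t * (a * x) = a * (C.ζ t * x) := by
  rw [← mul_assoc, ζ_mul ha, mul_assoc]

instance instAdd : Add (Ad C) := ⟨fun a b => ⟨a.1 * b.1 * C.ζ (-(C.ω (C.ν a.1) (C.ν b.1) / 2)),
  mul_mem (mul_mem a.2 b.2) (C.ζ_mem _)⟩⟩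
instance instZero : Zero (Ad C) := ⟨⟨1, one_mem _⟩⟩
instance instNeg : Neg (Ad C) := ⟨fun a => ⟨a.1⁻¹, inv_mem a.2⟩⟩

theorem add_val (a b : Ad C) : (a + b).1 = a.1 * b.1 * C.ζ (-(C.ω (C.ν a.1) (C.ν b.1) / 2)) := rfl

theorem ν_add (a b : Ad C) : C.ν (a + b).1 = C.ν a.1 + C.ν b.1 := by
  rw [add_val, C.ν_mul_ζ (mul_mem a.2 b.2), C.ν_mul _ a.2 _ b.2]

/-- The additive group. -/
@[reducible] def grp : AddGroup (Ad C) := AddGroup.ofLeftAxioms
  (fun a b c => Ad.ext (by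
    rw [add_val, add_val a (b + c), ν_add, ν_add, add_val, add_val]
    simp only [mul_assoc, ζ_mul' (C.le c.2), ← C.ζ_add, map_add, LinearMap.add_apply]
    congr 4
    ring))
  (fun a => Ad.ext (by
    change 1 * a.1 * C.ζ (-(C.ω (C.ν 1) _ / 2)) = _
    simp [C.ν_one, C.ζ_zero]))
  fun a => Ad.ext (by
    change a.1⁻¹ * a.1 * C.ζ (-(C.ω (C.ν a.1⁻¹) _ / 2)) = 1
    simp [C.ν_inv a.2, C.alt, C.ζ_zero])

instance instAddCommGroup : AddCommGroup (Ad C) where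
  __ := grp
  add_comm a b := Ad.ext (by
    rw [add_val, add_val, C.comm _ a.2 _ b.2, ζ_mul (C.le (mul_mem b.2 a.2)), mul_assoc, ← C.ζ_add,
      C.skew (C.ν b.1)]
    have := C.two
    congr 2
    field_simp
    ring)

theorem nsmul_val (n : ℕ) (a : Ad C) : (n • a).1 = a.1 ^ n := by
  induction n with
  | zero => rw [zero_nsmul, pow_zero]; rfl
  | succ n ih =>
    rw [succ_nsmul, add_val, ih, C.ν_pow a.2]
    simp [C.alt, C.ζ_zero, pow_succ]

theorem exists_sec (h : C.π = 0) : ∃ σ : W → Ω, (∀ w, σ w ∈ Q) ∧ (∀ w, C.ν (σ w) = w) ∧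
    ∀ v w, σ v * σ w = σ (v + w) * C.ζ (C.ω v w / 2) := by
  let _ : Module (ZMod p) (Ad C) := AddCommGroup.zmodModule fun a => Ad.ext (by
    rw [nsmul_val, C.pow _ a.2, h]; exact C.ζ_zero)
  let ν : Ad C →ₗ[ZMod p] W := (AddMonoidHom.mk' (fun a : Ad C => C.ν a.1) ν_add).toZModLinearMap p
  obtain ⟨s, h1⟩ : ∃ s : W →+ Ad C, ∀ w, C.ν (s w).1 = w :=
    (ν.exists_rightInverse_of_surjective (LinearMap.range_eq_top.2 fun w => by
      obtain ⟨a, ha, e⟩ := C.ν_surj w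
      exact ⟨⟨a, ha⟩, e⟩)).elim fun s hs => ⟨s.toAddMonoidHom, fun w => LinearMap.congr_fun hs w⟩
  refine ⟨fun w => (s w).1, fun w => (s w).2, h1, fun v w => ?_⟩
  simp only [map_add, add_val, h1]
  rw [mul_assoc, ← C.ζ_add, neg_add_cancel, C.ζ_zero, mul_one]

/-- The relations of the split extension. -/
structure Rel {H : Type*} [Group H] (ω : BF p W) (v : End (ZMod p) W) (σ : W → H) (ζ : ZMod p → H)
    (e : H) : Prop where
  ζ_add : ∀ s t, ζ (s + t) = ζ s * ζ t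
  mul : ∀ a b, σ a * σ b = σ (a + b) * ζ (ω a b / 2)
  ζσ : ∀ t w, ζ t * σ w = σ w * ζ t
  ζe : ∀ t, e * ζ t = ζ t * e
  conj : ∀ w, e * σ w = σ (v w) * e
  pow : e ^ p = 1

/-- The normal form. -/
def el {H : Type*} [Group H] (σ : W → H) (ζ : ZMod p → H) (e : H) (x : W × ZMod p × ZMod p) : H :=
  σ x.1 * ζ x.2.1 * e ^ x.2.2.val

/-- The product of normal forms. -/
def op (ω : BF p W) (v : End (ZMod p) W) (x y : W × ZMod p × ZMod p) : W × ZMod p × ZMod p :=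
  (x.1 + (v ^ x.2.2.val) y.1, ω x.1 ((v ^ x.2.2.val) y.1) / 2 + x.2.1 + y.2.1, x.2.2 + y.2.2)

namespace Rel

variable {H : Type*} [Group H] {ω : BF p W} {v : End (ZMod p) W} {σ : W → H} {ζ : ZMod p → H} {e : H}
  (h : Rel ω v σ ζ e)
include h

theorem pow_conj (n : ℕ) (w : W) : e ^ n * σ w = σ ((v ^ n) w) * e ^ n := by
  induction n with
  | zero => simp
  | succ n ih => rw [pow_succ', mul_assoc, ih, ← mul_assoc, h.conj, mul_assoc, pow_succ' v]; rfl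

theorem el_op (x y : W × ZMod p × ZMod p) : el σ ζ e (op ω v x y) = el σ ζ e x * el σ ζ e y := by
  have h1 : e ^ x.2.2.val * ζ y.2.1 = ζ y.2.1 * e ^ x.2.2.val :=
    ((show Commute e (ζ y.2.1) from h.ζe _).pow_left _).eq
  simp only [el, op]
  rw [ZMod.val_add, ← pow_eq_pow_mod _ h.pow, pow_add, h.ζ_add, h.ζ_add, ← mul_assoc (σ _), ← mul_assoc (σ _),
    ← h.mul, mul_assoc (σ x.1), ← h.ζσ]
  simp only [mul_assoc]
  rw [← mul_assoc (e ^ _) (σ _), h.pow_conj, mul_assoc, ← mul_assoc (e ^ _) (ζ _), h1, mul_assoc]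

theorem el_ζ (t : ZMod p) : el σ ζ e (0, t, 0) = ζ t := by
  have h0 : ζ 0 = 1 := by simpa using h.ζ_add 0 0
  have h1 : σ 0 = 1 := by simpa [h0] using h.mul 0 0
  simp [el, h1]

end Rel

end Emb

open Emb

theorem wSpl [Finite W] (C : Co p S Q W) : C.WSpl := fun e he _ hπ hc => by
  obtain ⟨σ, h1, h2, h3⟩ := exists_sec hπ
  have hs := C.sy he
  choose μ hμ using fun w => C.ν_eq (C.nrm e he _ (h1 w)) (h1 (C.u e w)) (by rw [C.conj e he _ (h1 w), h2, h2])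
  have hadd : ∀ v w, μ (v + w) = μ v + μ w := fun v w => by
    have h4 := congrArg (fun x => e * x * e⁻¹) (h3 v w)
    simp only [← conj_mul, hμ, C.conj_ζ he] at h4
    rw [mul_assoc, ζ_mul' (C.le (h1 _)), ← mul_assoc, h3, ← map_add, hs.iso, mul_assoc, mul_assoc,
      mul_right_inj, ← C.ζ_add, ← C.ζ_add, ← C.ζ_add] at h4
    linear_combination -C.ζ_injective h4
  obtain ⟨a, ha⟩ := hs.rep ((AddMonoidHom.mk' μ hadd).toZModLinearMap p)
  have ha' : ∀ w, C.ω a w = μ w := fun w => LinearMap.congr_fun ha w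
  obtain ⟨x, rfl⟩ := hs.mem_range (v := a) fun w hw => by
    have h4 := hμ w
    rw [hc _ (h1 w) (by rw [h2, hw]), mul_inv_cancel_right, show C.u e w = w from sub_eq_zero.1 hw,
      left_eq_mul] at h4
    rw [ha', C.ζ_inj _ h4]
  refine ⟨fun w => σ w * C.ζ (-C.ω (C.u e x) w), fun w => mul_mem (h1 w) (C.ζ_mem _),
    fun w => by rw [C.ν_mul_ζ (h1 w), h2], fun v w => ?_, fun w => ?_⟩
  · rw [mul_assoc, ζ_mul' (C.le (h1 _)), ← mul_assoc, h3, mul_assoc, mul_assoc, ← C.ζ_add, ← C.ζ_add,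
      ← C.ζ_add, map_add]
    congr 2
    ring
  · beta_reduce
    rw [← mul_inv_eq_iff_eq_mul, ← conj_mul, hμ, C.conj_ζ he, mul_assoc, ← C.ζ_add, ← ha', hs.iso,
      sub_one_apply, map_sub, LinearMap.sub_apply]
    congr 2
    ring

theorem wEmb [Finite W] (C : Co p S Q W) : C.WEmb := by
  rintro e he hq hp ⟨σ, h1, h2, h3, h4⟩ W' _ _ ω' u' G _ ⟨φ, c, hc, e1, e2⟩ ⟨M⟩
  have R : Rel C.ω (C.u e) σ C.ζ e :=
    ⟨C.ζ_add, h3, fun t w => ζ_mul (C.le (h1 w)) t, C.ζ_cen e he, h4, hp⟩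
  have R' : Rel C.ω (C.u e) (fun w => M.σ (φ w)) (fun t => M.ζ (c * t)) M.e :=
    ⟨fun s t => by rw [mul_add, M.ζ_add], fun a b => by rw [M.mul, map_add, e2, mul_div_assoc],
      fun _ _ => M.ζσ _ _, fun _ => M.ζe _, fun w => by rw [M.conj, e1], M.pow⟩
  let β : W × ZMod p × ZMod p → S := fun x => ⟨el σ C.ζ e x,
    mul_mem (mul_mem (C.le (h1 _)) (C.ζ_memS _)) (pow_mem he _)⟩
  have hs : Function.Surjective β := fun s => by
    obtain ⟨a, ha, i, hi, e3⟩ := C.gen he hq s.2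
    obtain ⟨r, hr⟩ := C.ν_eq ha (h1 (C.ν a)) (h2 _).symm
    exact ⟨(C.ν a, r, i), Subtype.ext (by
      change σ (C.ν a) * C.ζ r * e ^ (i : ZMod p).val = _
      rw [ZMod.val_cast_of_lt hi, ← hr, e3])⟩
  have hi : Function.Injective β := ((Nat.bijective_iff_surjective_and_card β).2 ⟨hs, by
    rw [C.card_S, Nat.card_prod, Nat.card_prod, Nat.card_zmod, Module.natCard_eq_pow_finrank (K := ZMod p),
      Nat.card_zmod]; ring⟩).1
  choose g hg using hs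
  have hg' : ∀ x, g (β x) = x := fun x => hi (hg _)
  let ψ : S →* G := MonoidHom.mk' (fun s => el (fun w => M.σ (φ w)) (fun t => M.ζ (c * t)) M.e (g s))
    fun s t => by
      rw [← R'.el_op, ← hg' (op _ _ _ _)]
      congr 2
      rw [← hg s, ← hg t, hg', hg']
      exact Subtype.ext (R.el_op _ _).symm
  have k1 : ∀ (s : S) (t : ZMod p), (s : Ω) = C.ζ t → ψ s = 1 → s = 1 := fun s t h5 h6 => by
    have h7 : s = β (0, t, 0) := Subtype.ext (h5.trans (R.el_ζ t).symm)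
    have h8 : ψ s = M.ζ (c * t) := by
      change el (fun w => M.σ (φ w)) (fun t => M.ζ (c * t)) M.e (g s) = _
      rw [h7, hg', R'.el_ζ]
    rw [(mul_eq_zero.1 (M.ζ_inj _ (h8.symm.trans h6))).resolve_left hc, C.ζ_zero] at h5
    exact Subtype.ext h5
  have k2 : ∀ s : S, (∀ a : S, (a : Ω) ∈ Q → s * a * s⁻¹ * a⁻¹ = 1) → ψ s = 1 → s = 1 := fun s h5 h6 => by
    obtain ⟨r, hr⟩ := C.central s.2 fun a ha => by
      have := congrArg Subtype.val (h5 ⟨a, C.le ha⟩ ha)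
      exact mul_inv_eq_iff_eq_mul.1 (mul_inv_eq_one.1 this)
    exact k1 s r hr h6
  have k3 : ∀ s a : S, ψ s = 1 → ψ (s * a * s⁻¹ * a⁻¹) = 1 := fun s a h5 => by simp [h5]
  have k4 : ∀ s : S, (s : Ω) ∈ Q → ψ s = 1 → s = 1 := fun s h5 h6 =>
    k2 s (fun a ha => k1 _ _ (C.comm_Q h5 ha) (k3 s a h6)) h6
  exact ⟨ψ, (injective_iff_map_eq_one ψ).2 fun s h5 =>
    k2 s (fun a _ => k4 _ (C.comm_mem s.2 a.2) (k3 s a h5)) h5⟩

end Cfsg.Lib.XS
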