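import Cfsg.Agent.XS.Bas
import Cfsg.Agent.Fus.Alperin

/-! The central involution of the rank one group extends. -/

set_option autoImplicit false
set_option linter.unusedSectionVars false

universe u

namespace Cfsg.Lib.XS

open Cfsg Cfsg.FusionSystem Cfsg.Lib.Fus Module Subgroup Equiv

variable {p : ℕ} [hp : Fact p.Prime] {Ω : Type u} [Group Ω] {S Q : Subgroup Ω} {W : Type}
  [AddCommGroup W] [Module (ZMod p) W] (C : Co p S Q W) {F : FusionSystem S}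

namespace Exp

theorem exists_conj {a : Ω} (ha : a ∈ Q) (h : C.ν a ≠ 0) (r : ZMod p) : ∃ x ∈ Q, x * a * x⁻¹ = C.ζ r * a := by
  obtain ⟨v, hv⟩ := not_forall.1 (mt (C.nd _) h)
  obtain ⟨x, hx, e⟩ := C.ν_surj (-(r / C.ω (C.ν a) v) • v)
  refine ⟨x, hx, ?_⟩
  rw [C.conj_Q hx ha, e, map_smul, LinearMap.smul_apply, C.skew v, smul_eq_mul, neg_mul_neg, div_mul_cancel₀ _ hv]

theorem exists_root {l : Ω} (hl : l ^ p = 1) {i : ℕ} (hi : (i : ZMod p) ≠ 0) : ∃ j, (l ^ i) ^ j = l := by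
  obtain ⟨m, hm⟩ := Nat.exists_mul_mod_eq_one_of_coprime
    ((hp.out.coprime_iff_not_dvd.2 (mt (ZMod.natCast_eq_zero_iff i p).2 hi)).symm) hp.out.one_lt
  exact ⟨m, by rw [← pow_mul, ← Nat.mod_add_div (i * m) p, hm.2, pow_add, pow_mul, hl, one_pow, pow_one, mul_one]⟩

theorem exists_inv [Finite S] {l : Ω} {ψ : Perm Ω} {t s : ZMod p} {i : ℕ} (hl : l ∈ Q) (h0 : C.ν l ≠ 0)
    (hN : S ≤ normalizerIn S (CS S l)) (hψ : Mor F (CS S l) ψ) (e1 : ψ l = C.ζ t)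
    (e2 : ψ (C.ζ 1) = l ^ i * C.ζ s) :
    ∃ h, PIso F h (CS S l) (CS S l) ∧ h l = l⁻¹ ∧ ∀ r, h (C.ζ r) = C.ζ (-r) := by
  have lS := C.le hl
  have lP := self_mem_CS lS
  have zP := C.ζ_mem_CS lS
  have lp : l ^ p = 1 := (hψ.eq_one_iff (pow_mem lP p)).1 (by rw [hψ.map_pow lP, e1, C.ζ_pow_p])
  have t0 : t ≠ 0 := fun e => h0 (by rw [(hψ.eq_one_iff lP).1 (by rw [e1, e, C.ζ_zero]), C.ν_one])
  have e3 : ψ (l ^ (t⁻¹).val) = C.ζ 1 := by
    rw [hψ.map_pow lP, e1, C.ζ_pow, ZMod.natCast_zmod_val, inv_mul_cancel₀ t0]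
  have i0 : (i : ZMod p) ≠ 0 := fun e => by
    obtain ⟨k, rfl⟩ := (ZMod.natCast_eq_zero_iff i p).1 e
    rw [pow_mul, lp, one_pow, one_mul] at e2
    have e4 : ψ (l ^ (s / t).val) = ψ (C.ζ 1) := by
      rw [hψ.map_pow lP, e1, C.ζ_pow, ZMod.natCast_zmod_val, div_mul_cancel₀ _ t0, e2]
    have e5 := hψ.injOn (pow_mem lP _) (zP 1) e4
    have e6 := congrArg C.ν e5
    rw [C.ν_pow_val hl, C.ν_ζ, smul_eq_zero_iff_left h0] at e6
    rw [e6, ZMod.val_zero, pow_zero] at e5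
    exact one_ne_zero (C.ζ_inj 1 e5.symm)
  obtain ⟨j, hj⟩ := exists_root lp i0
  have hi : PIso F ψ (CS S l) (CS S l) := hψ.piso_of_maps fun x hx => by
    have h1 := hψ.maps hx
    have h2 : Commute (ψ x) (l ^ i * C.ζ s) := by
      rw [← e2, Commute, SemiconjBy, ← hψ.map_mul hx (zP 1), C.ζ_cen x (CS_le hx), hψ.map_mul (zP 1) hx]
    have h3 := h2.mul_right (C.commute_ζ h1 s).inv_right
    rw [mul_inv_cancel_right] at h3
    exact mem_CS.2 ⟨h1, hj ▸ (h3.pow_right j).eq⟩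
  have yQ : ψ (C.ζ 1) ∈ Q := e2 ▸ mul_mem (pow_mem hl i) (C.ζ_mem s)
  obtain ⟨x, hx, c1⟩ := exists_conj C yQ (by
    rw [e2, C.ν_mul_ζ (pow_mem hl i), C.ν_pow hl]; exact smul_ne_zero i0 h0) 1
  obtain ⟨x', hx', c2⟩ := exists_conj C (pow_mem hl (t⁻¹).val) (by
    rw [C.ν_pow_val hl]; exact smul_ne_zero (inv_ne_zero t0) h0) (-1)
  have ht := PIso.cj F CS_le (hN (C.le hx))
  have hs := (hi.symm.trans (PIso.cj F CS_le (hN (C.le hx')))).trans hi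
  have yP := hi.maps (zP 1)
  have t1 : cj x (C.ζ 1) = C.ζ 1 := C.conj_ζ (C.le hx) 1
  have t2 : cj x (ψ (C.ζ 1)) = C.ζ 1 * ψ (C.ζ 1) := c1
  have s1 : (ψ * (cj x' * ψ⁻¹)) (C.ζ 1) = (ψ (C.ζ 1))⁻¹ * C.ζ 1 := by
    conv_lhs => rw [← e3]
    rw [Perm.mul_apply, Perm.mul_apply, perm_inv_apply, cj_apply, c2, hψ.map_mul (zP _) (pow_mem lP _), e3,
      C.ζ_neg, hψ.map_inv (zP 1)]
  have s2 : (ψ * (cj x' * ψ⁻¹)) (ψ (C.ζ 1)) = ψ (C.ζ 1) := by
    rw [Perm.mul_apply, Perm.mul_apply, perm_inv_apply, cj_apply, C.conj_ζ (C.le hx')]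
  have c3 := C.ζ_cen _ (CS_le yP) 1
  generalize ψ * (cj x' * ψ⁻¹) = σ at hs s1 s2
  generalize cj x = τ at ht t1 t2
  generalize ψ (C.ζ 1) = y at *
  have hw := (ht.trans hs).trans ht
  have w1 : (τ * (σ * τ)) (C.ζ 1) = y⁻¹ := by
    rw [Perm.mul_apply, Perm.mul_apply, t1, s1, ht.map_mul (inv_mem yP) (zP 1), ht.mor.map_inv yP, t1, t2,
      mul_inv_rev, inv_mul_cancel_right]
  have w2 : (τ * (σ * τ)) y = C.ζ 1 := by
    rw [Perm.mul_apply, Perm.mul_apply, t2, hs.map_mul (zP 1) yP, s1, s2, mul_assoc, ← c3, inv_mul_cancel_left, t1]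
  generalize τ * (σ * τ) = w at hw w1 w2
  have hh := hw.trans hw
  have h1 : ∀ r, (w * w) (C.ζ r) = C.ζ (-r) := fun r => by
    rw [C.ζ_eq_pow r, hh.mor.map_pow (zP 1), Perm.mul_apply, w1, hw.mor.map_inv yP, w2, inv_pow, ← C.ζ_eq_pow,
      C.ζ_neg]
  have h2 : (w * w) (l ^ i) = (l ^ i)⁻¹ := by
    have h3 : (w * w) y = y⁻¹ := by rw [Perm.mul_apply, w2, w1]
    rw [e2, hh.map_mul (pow_mem lP i) (zP s), h1, C.ζ_neg, C.ζ_cen _ (pow_mem lS i), mul_inv_rev] at h3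
    exact mul_right_cancel h3
  exact ⟨_, hh, by rw [← hj, hh.mor.map_pow (pow_mem lP i), h2, inv_pow], h1⟩

end Exp

open Exp in
theorem Co.wExp [Finite S] [Finite W] (hF : F.IsSaturated p) : C.WExp F := by
  rintro l ψ t hl h0 ⟨e, he, hq, c⟩ hψ e1 ⟨i, s, e2⟩
  have lS := C.le hl
  have lP := self_mem_CS lS
  have zP := C.ζ_mem_CS lS
  have : Finite (CS S l) := finite_of_le CS_le
  have hc : ∀ s ∈ S, ∃ r, s * l * s⁻¹ = l * C.ζ r := fun s hs => C.ν_eq (C.nrm s hs l hl) hl (by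
    rw [C.conj s hs l hl]; exact sub_eq_zero.1 (C.f_eq_zero he hq hs (C.f_of_comm he hl c)))
  have hN : S ≤ normalizerIn S (CS S l) := fun s hs => mem_normalizerIn_of_finite hs fun x hx => by
    obtain ⟨h1, h2⟩ := mem_CS.1 hx
    obtain ⟨r, h3⟩ := hc s⁻¹ (inv_mem hs)
    have h4 := (Commute.mul_right h2 (C.commute_ζ h1 r)).eq
    rw [← h3] at h4
    refine mem_CS.2 ⟨mul_mem (mul_mem hs h1) (inv_mem hs), ?_⟩
    calc _ = s * (x * (s⁻¹ * l * s⁻¹⁻¹)) * s⁻¹ := by group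
      _ = _ := by rw [h4]; group
  have hP := isFullyNormalized_of_le_normalizer (F := F) CS_le fun s hs => (hN hs).2
  obtain ⟨h, hh, h1, h2⟩ := exists_inv C hl h0 hN hψ e1 e2
  let M : Subgroup (MulAut (CS S l)) :=
    { carrier := {γ | (∀ r, pext _ γ (C.ζ r) = C.ζ r) ∧ ∃ r, pext _ γ l = l * C.ζ r}
      one_mem' := ⟨fun _ => by simp, 0, by simp [C.ζ_zero]⟩
      mul_mem' := by
        rintro α β ⟨a1, r, a2⟩ ⟨b1, r', b2⟩
        exact ⟨fun _ => by rw [map_mul, Perm.mul_apply, b1, a1], r + r', by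
          rw [map_mul, Perm.mul_apply, b2, (mulOn_pext α).map_mul lP (zP _), a1, a2, C.ζ_add, mul_assoc]⟩
      inv_mem' := by
        rintro α ⟨a1, r, a2⟩
        exact ⟨fun _ => by rw [map_inv, Perm.inv_eq_iff_eq, a1], -r, by
          rw [map_inv, Perm.inv_eq_iff_eq, (mulOn_pext α).map_mul lP (zP _), a1, a2, C.ζ_neg,
            mul_inv_cancel_right]⟩ }
  have hT := sat_sylIn C.pgrp hF hP
  have hTM : autInducedBy S (CS S l) ≤ M := fun α ha => by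
    obtain ⟨g, hg, e⟩ := mem_autInducedBy_pext.1 ha
    exact ⟨fun r => by rw [e _ (zP r), C.conj_ζ hg], (e l lP).symm ▸ hc g hg⟩
  have a1 := hh.pext_aut lP
  have a2 := fun r => hh.pext_aut (zP r)
  obtain ⟨n, ⟨⟨n1, r, n2⟩, hn⟩, hk⟩ := (hT.mono (le_inf hTM hT.le) inf_le_right).frattini (g := hh.aut)
    (mem_normalizer_fintype (by
      rintro γ ⟨⟨g1, r, g2⟩, hγ⟩
      refine ⟨⟨fun r => ?_, r, ?_⟩, Subgroup.mul_mem _ (mul_mem hh.aut_mem hγ) (Subgroup.inv_mem _ hh.aut_mem)⟩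
      · have := pext_conj_apply hh.aut γ (C.ζ (-r))
        rwa [g1, a2, h2, neg_neg] at this
      · have := pext_conj_apply hh.aut γ l⁻¹
        rwa [(mulOn_pext γ).map_inv lP, g2, (mulOn_pext _).map_inv lP, (mulOn_pext _).map_inv (mul_mem lP (zP r)),
          (mulOn_pext _).map_mul lP (zP r), a1, a2, h1, h2, inv_inv, C.ζ_neg, ← mul_inv_rev, inv_inv,
          ← C.ζ_cen l lS] at this))
  obtain ⟨g, hg, e3⟩ := (piso_pext_of_mem CS_le (mul_mem hn hh.aut_mem)).exists_ext_le (sat_receptive C.pgrp hF hP)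
    (R := S) fun a ha => (mem_extd_pext_iff (hN ha)).2 ((mem_normalizer_iff.1 hk _).1
      (mem_autInducedBy_pext.2 ⟨a, ha, fun x => pext_conjAut (hN ha).2⟩))
  obtain ⟨x, hx, c1⟩ := exists_conj C hl h0 (-r)
  refine ⟨_, hg.piso_top.trans (PIso.cj F le_rfl (s := x) ((normalizerIn_self S).symm ▸ C.le hx)), ?_, fun s => ?_⟩
  · rw [Perm.mul_apply, e3 l lP, map_mul, Perm.mul_apply, a1, h1, (mulOn_pext n).map_inv lP, n2, cj_apply]
    calc _ = (x * l * x⁻¹ * (x * C.ζ r * x⁻¹))⁻¹ := by group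
      _ = _ := by rw [c1, C.conj_ζ (C.le hx), ← C.ζ_cen l lS, C.ζ_neg, inv_mul_cancel_right]
  · rw [Perm.mul_apply, e3 _ (zP s), map_mul, Perm.mul_apply, a2, h2, n1, cj_apply, C.conj_ζ (C.le hx)]

end Cfsg.Lib.XS
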