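import Cfsg.Agent.XS.Bas

/-! Assembly of the steps. -/

set_option autoImplicit false

universe u

namespace Cfsg.Lib.XS

open Cfsg Cfsg.FusionSystem Cfsg.Lib.Fus Module Subgroup Equiv

variable {p : ℕ} [hp : Fact p.Prime] {Ω : Type u} [Group Ω] {S Q : Subgroup Ω} {W : Type}
  [AddCommGroup W] [Module (ZMod p) W] [Finite W] (C : Co p S Q W)

theorem sylow_of_inj {H G : Type*} [Group H] [Group G] [Finite G] (hH : Nat.card H = p ^ 6)
    (hG : ¬ p ^ 7 ∣ Nat.card G) (φ : H →* G) (hφ : Function.Injective φ) :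
    ∃ P : Sylow p G, Nonempty (H ≃* (P : Subgroup G)) := by
  have hc : Nat.card φ.range = p ^ 6 := by
    rw [← hH]; exact (Nat.card_congr (MonoidHom.ofInjective hφ).toEquiv).symm
  obtain ⟨P, hP⟩ := (IsPGroup.of_card hc).exists_le_sylow
  obtain ⟨k, hk⟩ := IsPGroup.iff_card.1 P.isPGroup'
  have h1 : k ≤ 6 := by
    by_contra h
    exact hG ((pow_dvd_pow p (by omega)).trans (hk ▸ (P : Subgroup G).card_subgroup_dvd_card))
  have h2 : φ.range = P := Subgroup.eq_of_le_of_card_ge hP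
    (by rw [hc, hk]; exact Nat.pow_le_pow_right hp.out.pos h1)
  exact ⟨P, ⟨(MonoidHom.ofInjective hφ).trans (MulEquiv.subgroupCongr h2)⟩⟩

theorem Co.sylow_of_mod {e : Ω} (h : C.Good e) (hS : C.WSpl) (hE : C.WEmb) {G : Type} [Group G]
    {T : ∀ (W : Type) [AddCommGroup W] [Module (ZMod p) W], BF p W → End (ZMod p) W → Prop}
    (hM : HasMod p G T)
    (hT : ∀ (W' : Type) [AddCommGroup W'] [Module (ZMod p) W'] [Finite W'] (ω' : BF p W')
      (u' : End (ZMod p) W'), Sy ω' u' → T W' ω' u' → Eqv C.ω (C.u e) ω' u') :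
    ∃ P : Sylow p G, Nonempty (S ≃* (P : Subgroup G)) := by
  obtain ⟨_, h7, W', _, _, _, ω', u', h1, h2, h3⟩ := hM
  obtain ⟨φ, hφ⟩ := hE e h.mem h.out h.pow (hS e h.mem h.out h.pi h.cen) W' ω' u' G
    (hT W' ω' u' h1 h2) h3
  have hd : finrank (ZMod p) W = 4 := h.ty.elim And.left And.left
  exact sylow_of_inj (by rw [C.card_S, hd]) h7 φ hφ

omit [Finite W] in
theorem T4.five_le {ω : BF p W} {v : End (ZMod p) W} (h : Sy ω v) (h4 : T4 v) : 5 ≤ p := by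
  by_contra h5
  have h2 := hp.out.two_le
  have h3 : p ≠ 4 := fun e => absurd (e ▸ hp.out) (by decide)
  exact h4.2 (pow_eq_zero_of_le (by omega) h.nil)

/-- The first three alternatives. -/
def Lie3 (p : ℕ) [Fact p.Prime] (H : Type u) [Group H] : Prop :=
  (∃ P : Sylow p (Matrix.SpecialLinearGroup (Fin 4) (ZMod p)),
      Nonempty (H ≃* ↥(P : Subgroup (Matrix.SpecialLinearGroup (Fin 4) (ZMod p))))) ∨
    (∃ (K : Type) (_ : Field K) (_ : Fintype K), Fintype.card K = p ^ 2 ∧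
      ∃ P : Sylow p ↥(SU 4 K p), Nonempty (H ≃* ↥(P : Subgroup ↥(SU 4 K p)))) ∨
    (5 ≤ p ∧ ∃ P : Sylow p ↥(Lie.G2 (ZMod p)), Nonempty (H ≃* ↥(P : Subgroup ↥(Lie.G2 (ZMod p)))))

theorem Co.lie3 {e : Ω} (h : C.Good e) (hS : C.WSpl) (hE : C.WEmb)
    (h4 : ∀ (W' : Type) [AddCommGroup W'] [Module (ZMod p) W'] [Finite W'] (ω' : BF p W')
      (u' : End (ZMod p) W'), L4 C.ω (C.u e) ω' u')
    (h22 : ∀ (W' : Type) [AddCommGroup W'] [Module (ZMod p) W'] [Finite W'] (ω' : BF p W')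
      (u' : End (ZMod p) W'), L22 C.ω (C.u e) ω' u')
    (m1 : MSL p) (m2 : MSU p) (m3 : MG2 p) : Lie3 p S := by
  have hs := C.sy h.mem
  rcases h.ty with t | t
  · have h5 := t.five_le hs
    exact Or.inr (Or.inr ⟨h5, C.sylow_of_mod h hS hE (m3 h5)
      fun W' _ _ _ ω' u' s' t' => h4 W' ω' u' hs s' t t'⟩)
  · by_cases hi : Iso C.ω (C.u e)
    · exact Or.inl (C.sylow_of_mod h hS hE (m1 C.odd)
        fun W' _ _ _ ω' u' s' t' => h22 W' ω' u' hs s' t t'.1 (iff_of_true hi t'.2))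
    · obtain ⟨K, _, _, hK, hM⟩ := m2 C.odd
      exact Or.inr (Or.inl ⟨K, _, _, hK, C.sylow_of_mod h hS hE hM
        fun W' _ _ _ ω' u' s' t' => h22 W' ω' u' hs s' t t'.1 (iff_of_false hi t'.2)⟩)

theorem Co.good_or [Finite S] [Group.IsNilpotent S] {F : FusionSystem S} (hO : F.core = ⊥)
    (hQ : C.WQ F) (hN : C.WN1 F) (hE : C.WEC F) (hK : C.WKap F)
    (hL : ∀ e A κ, LNb C.ω (C.u e) A κ) (h1 : C.WR1 F) (h2 : C.WR2 F) (p0 : C.WP0 F)
    (p2 : C.WP2 F) (p3 : C.WP3 F) (p4 : C.WP4) :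
    (∃ e, C.Good e) ∨ (11 ≤ p ∧ Nat.card S = p ^ (p - 1) ∧ (∀ x : S, x ^ p = 1) ∧
      Group.nilpotencyClass S = p - 2) := by
  by_cases hq : C.NQ F
  swap
  · exact Or.inl (hQ hq)
  obtain ⟨e, g, hn⟩ := hN hO hq
  obtain ⟨A, ⟨X⟩⟩ := hE hq e g hn
  obtain ⟨kp, ls⟩ := hK hq e g hn A X
  rcases hL e A X.κ (C.sy hn.mem) kp C.dim (C.ctr e hn.mem hn.out) with ⟨rfl, hk⟩ | ⟨hA, hk⟩ |
    ⟨hA, ht, hκ⟩
  · obtain ⟨pl, hτ⟩ := p0 e g hn X kp ls hk
    have hz : C.Zc F e := hn.gz ▸ (Co.zc_iff hn.iso.mor (C.ζ_mem_CS hn.mem 1)).2 (Co.zc_ζ 1)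
    obtain ⟨hd, hπ⟩ := p3 e pl fun l hl => by
      obtain ⟨τ, h3, h4, h5⟩ := hτ l hl
      obtain ⟨k, h6, h7⟩ := p2 hq e pl hz hn.fn τ _ h3 h4
      exact ⟨k, h6, fun s => (h7 _ (C.ζ_mem_CS hn.mem s)).trans (h4 s),
        (h7 _ (self_mem_CS hn.mem)).trans h5⟩
    obtain ⟨hc, hx⟩ := p4 e hn.mem hn.out hk
    have hx := hx hd hπ pl.pow
    have h4 := C.dim
    by_cases h7 : finrank (ZMod p) W = 4
    · obtain ⟨a, ha, hcen⟩ := C.exists_cen hn.mem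
      have hm := S.mul_mem (C.le ha) hn.mem
      refine Or.inl ⟨a * e, hm, fun h => hn.out ((Q.mul_mem_cancel_left ha).1 h), hx _ hm, hπ, hcen,
        Or.inl ⟨h7, fun h3 => ?_⟩⟩
      rw [C.u_Q_mul ha hn.mem] at h3
      have := finrank_ker_pow_le (C.u e - 1) 3
      rw [h3, LinearMap.ker_zero, finrank_top, hk] at this
      omega
    · refine Or.inr ⟨?_, by rw [C.card_S]; congr 1; omega, fun x => Subtype.ext (hx x x.2),
        by omega⟩
      by_contra h11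
      have h8 : p = 8 ∨ p = 9 ∨ p = 10 := by omega
      have := hp.out
      rcases h8 with h | h | h <;> rw [h] at this <;> revert this <;> decide
  · exact absurd hk (h1 e hn.mem hn.out A X kp ls hA)
  · exact Or.inl ⟨e, h2 e g hn A X kp ls hA ht hκ⟩

end Cfsg.Lib.XS
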