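import Cfsg.Agent.XS.Bas

/-! The central coordinate on the essential subgroup, and two of the configurations. -/

set_option autoImplicit false

universe u

namespace Cfsg.Lib.XS

open Cfsg Cfsg.FusionSystem Cfsg.Lib.Fus Module Subgroup Equiv

variable {p : ℕ} [hp : Fact p.Prime] {Ω : Type u} [Group Ω] {S Q : Subgroup Ω} {W : Type}
  [AddCommGroup W] [Module (ZMod p) W]

namespace Kap

theorem exists_top {f : End (ZMod p) W} {n m : ℕ} (h0 : f ^ n = 0) (h : f ^ m ≠ 0) :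
    ∃ w, (f ^ m) w ≠ 0 ∧ f ((f ^ m) w) = 0 := by
  by_contra! hc
  refine h (LinearMap.ext fun x => by_contra fun hx => ?_)
  have key : ∀ k, (f ^ m) ((f ^ k) x) ≠ 0 := fun k => by
    induction k with
    | zero => exact hx
    | succ k ih =>
      have := hc _ ih
      rwa [← End.mul_apply, ← pow_succ', pow_succ, End.mul_apply, ← End.mul_apply f,
        ← pow_succ'] at this
  exact key n (by rw [h0, LinearMap.zero_apply, map_zero])

theorem el_one {C : Co p S Q W} {F : FusionSystem S} {e : Ω} {A : Submodule (ZMod p) W}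
    (X : C.EC F e A) : X.el (0, 0, 1) = e := by rw [X.el_e, ZMod.val_one, pow_one]

end Kap

namespace Co

variable [Finite S] [Finite W] (C : Co p S Q W) {F : FusionSystem S}

theorem wKap : C.WKap F := by
  intro hQ e g N A X
  have hL : LS X.Gam := by
    refine ⟨C.odd, ?_, ?_⟩
    · rintro γ ⟨k, hk, e1⟩ h
      have h1 := hQ _ ((X.el_Q _).2 h) (by
        rw [← e1, X.el_z]
        exact (zc_iff hk.mor (C.ζ_mem_CS N.mem 1)).2 (zc_ζ 1))
      rw [show γ (1, 0, 0) = ((γ (1, 0, 0)).1, (γ (1, 0, 0)).2.1, 0) from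
        Prod.ext rfl (Prod.ext rfl h), X.el_ν] at h1
      exact Subtype.ext h1
    · obtain ⟨k, γ, h1, h2, h3⟩ := X.gg
      exact ⟨γ, ⟨k, h1, h2⟩, h3⟩
  refine ⟨⟨fun w hw => ?_, fun v hv w hw => ?_, ?_, fun v w hv hw => ?_, fun v hv => ?_⟩, hL⟩
  · obtain ⟨a, ha, rfl⟩ := C.ν_surj w
    exact C.f_of_comm N.mem ha ((X.memA a ha).1 hw)
  · obtain ⟨a, ha, rfl⟩ := C.ν_surj v
    obtain ⟨b, hb, rfl⟩ := C.ν_surj w
    exact (C.comm_iff ha hb).1 (N.comm a (mem_CS.2 ⟨C.le ha, ((X.memA a ha).1 hv).symm⟩) b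
      (mem_CS.2 ⟨C.le hb, ((X.memA b hb).1 hw).symm⟩))
  · obtain ⟨a, ha, hc⟩ := C.exists_cen N.mem
    refine ⟨C.ω (C.ν a), fun w h1 h2 => ?_⟩
    obtain ⟨y, hy, rfl⟩ := C.ν_surj w
    have h3 := hc y hy (by rwa [C.u_Q_mul ha N.mem])
    rw [← mul_assoc, ← (C.comm_iff ha hy).2 h2, mul_assoc, mul_assoc] at h3
    exact (X.memA y hy).2 (mul_left_cancel h3)
  · obtain ⟨y, hy, rfl⟩ := C.ν_surj v
    obtain ⟨y', hy', rfl⟩ := C.ν_surj w
    have h1 := X.conj (y * y') (mul_mem hy hy') (by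
      rw [C.ν_mul y hy y' hy', map_add]; exact A.add_mem hv hw) 0 0 1
    rw [show ∀ x, y * y' * x * (y * y')⁻¹ = y * (y' * x * y'⁻¹) * y⁻¹ from fun x => by group,
      X.conj y' hy' hw, X.conj y hy hv] at h1
    have h2 := congrArg Prod.fst (X.el_inj h1)
    simp only [C.ν_mul y hy y' hy', ZeroMemClass.coe_zero, map_zero, one_mul, zero_add, zero_sub,
      one_smul, NegMemClass.coe_neg, map_neg] at h2
    linear_combination -h2
  · obtain ⟨y, hy, rfl⟩ := C.ν_surj v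
    have h1 := X.conj y hy hv 0 0 1
    simp only [Kap.el_one, ZeroMemClass.coe_zero, map_zero, one_mul, zero_add, zero_sub,
      one_smul] at h1
    refine ⟨fun h => (X.memA y hy).2 (mul_inv_eq_iff_eq_mul.1 ?_).symm, fun h => ?_⟩
    · obtain ⟨t, ht, e1⟩ := X.exists_t hv
      obtain ⟨γ, hγ, g1, g2⟩ := hL.gg
      obtain ⟨⟨s, d⟩, e2⟩ := (Finite.injective_iff_surjective_of_equiv
        (f := fun x : ZMod p × A => (γ (x.1, x.2, 0)).2) (Equiv.prodComm _ _)).1 (fun x x' e => by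
          have := γ.injective (Prod.ext ((g2 _ _).trans (g2 _ _).symm) e)
          exact Prod.ext (congrArg (·.1) this) (congrArg (·.2.1) this)) (-⟨_, hv⟩, 1)
      have e3 : (γ⁻¹ * t * γ) (1, 0, 0) = (s, d, 0) := by
        change γ.symm (t (γ _)) = _
        rw [g1, e1, LinearEquiv.symm_apply_eq]
        exact Prod.ext (by simp [h, g2]) (by simpa using e2.symm)
      have e4 := hL.om _ (mul_mem (mul_mem (inv_mem hγ) ht) hγ) (by rw [e3])
      rw [e3] at e4
      change d = 0 at e4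
      change (γ (s, d, 0)).2 = _ at e2
      rw [e4, show ((s, 0, 0) : VV p A) = s • (1, 0, 0) by simp, map_smul, g1] at e2
      rw [h1, h, show -(⟨_, hv⟩ : A) = 0 by simpa using (congrArg Prod.fst e2).symm, Kap.el_one]
    · rw [← (X.memA y hy).1 h, mul_inv_cancel_right] at h1
      exact (congrArg Prod.fst (X.el_inj ((Kap.el_one X).trans h1))).symm

theorem wR1 (h : ∀ (A : Submodule (ZMod p) W) (Γ : Subgroup (VV p A ≃ₗ[ZMod p] VV p A)), LR1 Γ) :
    C.WR1 F := by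
  intro e he _ A X hK hL hA h1
  obtain ⟨w, h2, h3⟩ := Kap.exists_top (C.sy he).nil (m := 2) fun e2 => by
    have := finrank_ker_pow_le (C.u e - 1) 2
    rw [e2, LinearMap.ker_zero, finrank_top, h1] at this
    have := C.dim
    omega
  rw [pow_two, End.mul_apply] at h2 h3
  have h4 : (C.u e - 1) ((C.u e - 1) w) ∈ A := hA ▸ h3
  obtain ⟨t, ht, e1⟩ := X.exists_t h4
  refine h A _ hL t ht (-⟨_, h4⟩) _ (neg_ne_zero.2 fun e2 => h2 (congrArg Subtype.val e2))
    (fun e2 => h2 (hK.ker _ ((hK.zero _ h4).1 e2))) fun s d r => ?_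
  rw [e1, (C.sy he).perp (hK.ker _ d.2), add_zero, smul_neg, sub_eq_add_neg d]

theorem wP0 (h : ∀ (A : Submodule (ZMod p) W) (Γ : Subgroup (VV p A ≃ₗ[ZMod p] VV p A)), LP0 Γ) :
    C.WP0 F := by
  intro e g N X hK hL h1
  refine ⟨⟨N.mem, N.out, N.pow e (self_mem_CS N.mem), h1, fun a ha hc => (X.memA a ha).2 hc⟩,
    fun l hl => ?_⟩
  obtain ⟨⟨v, hv⟩, h2⟩ := finrank_pos_iff_exists_ne_zero.1 (h1 ▸ one_pos :
    0 < finrank (ZMod p) (LinearMap.ker (C.u e - 1)))
  obtain ⟨t, ht, e1⟩ := X.exists_t (w := v) hv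
  obtain ⟨τ, ⟨k, hk, e2⟩, e3⟩ := h ⊥ _ hL (fun d => Subsingleton.elim _ _) t ht (X.κ v)
    (fun e2 => h2 (Subtype.ext ((hK.zero v hv).1 e2))) (fun s d r => by
      rw [e1, show (d : W) = 0 from d.2, map_zero, add_zero, Subsingleton.elim (d - _) d]) l hl
  refine ⟨k, hk, fun s => by rw [← X.el_z, e2, e3, mul_zero, X.el_z], ?_⟩
  rw [← X.el_e, ← mul_one l, ← mul_zero l⁻¹, ← e3, ← e2, Kap.el_one]

end Co

end Cfsg.Lib.XS
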