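import Cfsg.Agent.XS.Lin
import Mathlib.NumberTheory.LegendreSymbol.QuadraticChar.Basic

/-! Two Jordan blocks of size two. -/

set_option autoImplicit false

namespace Cfsg.Lib.XS

open Module

variable {p : ℕ} [Fact p.Prime] {W W' : Type} [AddCommGroup W] [Module (ZMod p) W] [Finite W]
  [AddCommGroup W'] [Module (ZMod p) W'] [Finite W']

namespace L22

variable {ω : BF p W} {u : End (ZMod p) W}

omit [Finite W] in
theorem ff (h : Sy ω u) (t : T22 u) (v w : W) : ω ((u - 1) v) ((u - 1) w) = 0 := h.perp (t.ff w) v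

omit [Finite W] in
theorem sym (h : Sy ω u) (t : T22 u) (v w : W) : ω ((u - 1) v) w = -ω v ((u - 1) w) := by
  have := h.adj v w
  rw [ff h t] at this
  linear_combination this

omit [Finite W] in
theorem sym' (h : Sy ω u) (t : T22 u) (v w : W) : ω v ((u - 1) w) = ω w ((u - 1) v) := by
  rw [h.skew, sym h t, neg_neg]

omit [Finite W] in
theorem pol (h : Sy ω u) (t : T22 u) {v w : W} (h1 : ω v ((u - 1) v) = 0) (h2 : ω w ((u - 1) w) = 0)
    (h3 : ω (v + w) ((u - 1) (v + w)) = 0) : ω v ((u - 1) w) = 0 := by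
  simp only [map_add, LinearMap.add_apply, h1, h2, sym' h t w v] at h3
  exact (mul_eq_zero.1 (show 2 * ω v ((u - 1) w) = 0 by linear_combination h3)).resolve_left h.two

theorem ex (h : Sy ω u) (t : T22 u) : ∃ x y, ω x ((u - 1) x) ≠ 0 ∧ ω y ((u - 1) y) ≠ 0 ∧
    ω x ((u - 1) y) = 0 ∧ ω x y = 0 := by
  have hr : finrank (ZMod p) (LinearMap.range (u - 1)) = 2 := t.ker_eq ▸ t.finrank_ker
  have small : ∀ x, ¬ ∀ w, ∃ c : ZMod p, c • (u - 1) x = (u - 1) w := fun x hx => by
    have := finrank_le_one (R := ZMod p) (⟨_, x, rfl⟩ : LinearMap.range (u - 1)) (by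
      rintro ⟨_, w, rfl⟩
      exact (hx w).imp fun _ e => Subtype.ext e)
    omega
  obtain ⟨x, hx⟩ : ∃ x, ω x ((u - 1) x) ≠ 0 := by
    by_contra! hc
    exact small 0 fun w => ⟨0, by
      rw [zero_smul, h.mem_ker fun v => pol h t (hc _) (hc _) (hc _)]⟩
  obtain ⟨y, hy, hxy⟩ : ∃ y, ω y ((u - 1) y) ≠ 0 ∧ ω x ((u - 1) y) = 0 := by
    by_contra! hc
    have k : ∀ y, ω x ((u - 1) y) = 0 → ω y ((u - 1) y) = 0 := fun y hy => by_contra fun e => hc y e hy
    have k1 : ∀ w, ω x ((u - 1) (w - (ω x ((u - 1) w) / ω x ((u - 1) x)) • x)) = 0 := fun w => by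
      rw [map_sub, map_sub, map_smul, map_smul, smul_eq_mul, div_mul_cancel₀ _ hx, sub_self]
    refine small x fun w => ⟨ω x ((u - 1) w) / ω x ((u - 1) x), ?_⟩
    rw [eq_comm, ← sub_eq_zero, ← map_smul, ← map_sub]
    refine h.mem_ker fun v => ?_
    have := pol h t (k _ (k1 w)) (k _ (k1 v)) (k _ (by rw [map_add, map_add, k1, k1, add_zero]))
    rwa [map_sub _ v, map_sub, map_smul _ _ x, map_smul, (sym' h t _ x).trans (k1 w), smul_zero,
      sub_zero] at this
  have e : (u - 1) (y - (ω x y / ω x ((u - 1) x)) • (u - 1) x) = (u - 1) y := by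
    rw [map_sub, map_smul, t.ff, smul_zero, sub_zero]
  refine ⟨x, y - (ω x y / ω x ((u - 1) x)) • (u - 1) x, hx, ?_, by rw [e, hxy], ?_⟩
  · rwa [e, map_sub, map_smul, LinearMap.sub_apply, LinearMap.smul_apply, ff h t, smul_zero, sub_zero]
  · rw [map_sub, map_smul, smul_eq_mul, div_mul_cancel₀ _ hx, sub_self]

omit [Finite W] in
theorem nf (h : Sy ω u) (t : T22 u) {x y : W} {a d : ZMod p} (ha : a ≠ 0) (hd : d ≠ 0)
    (hx : ω x ((u - 1) x) = a) (hy : ω y ((u - 1) y) = d) (h1 : ω x ((u - 1) y) = 0) (h2 : ω x y = 0) :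
    (Iso ω u ↔ IsSquare (-(a * d))) ∧ ∃ b : Basis (Fin 4) (ZMod p) W,
      (∀ i, u (b i) = ∑ j, !![1, 0, 1, 0; 0, 1, 0, 1; 0, 0, 1, 0; 0, 0, 0, (1 : ZMod p)] i j • b j) ∧
      ∀ i j, ω (b i) (b j) = !![0, 0, a, 0; 0, 0, 0, d; -a, 0, 0, 0; 0, -d, 0, 0] i j := by
  have h3 : ω y ((u - 1) x) = 0 := by rw [sym' h t, h1]
  have h4 : ω y x = 0 := by rw [h.skew, h2, neg_zero]
  have f2 := t.ff
  have g1 := ff h t
  have g2 := sym h t
  have hu : ∀ w, u w = w + (u - 1) w := fun w => by rw [sub_one_apply]; abel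
  unfold Iso
  generalize u - 1 = f at *
  have li : LinearIndependent (ZMod p) ![x, y, f x, f y] := by
    refine Fintype.linearIndependent_iff.2 fun c hc => ?_
    simp only [Fin.sum_univ_four, Matrix.cons_val_zero, Matrix.cons_val_one, Matrix.cons_val] at hc
    have e0 : c 0 = 0 := by simpa [hx, h3, g1, ha] using congrArg (fun w => ω w (f x)) hc
    have e1 : c 1 = 0 := by simpa [hy, h1, g1, hd] using congrArg (fun w => ω w (f y)) hc
    have e2 : c 2 = 0 := by simpa [e0, e1, hx, h1, ha] using congrArg (ω x) hc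
    have e3 : c 3 = 0 := by simpa [e0, e1, hy, h3, hd] using congrArg (ω y) hc
    intro i
    fin_cases i
    exacts [e0, e1, e2, e3]
  obtain ⟨b, hb⟩ : ∃ b : Basis (Fin 4) (ZMod p) W, ⇑b = ![x, y, f x, f y] :=
    ⟨basisOfLinearIndependentOfCardEqFinrank li (by simp [t.1]),
      coe_basisOfLinearIndependentOfCardEqFinrank _ _⟩
  refine ⟨⟨?_, ?_⟩, b, fun i => ?_, fun i j => ?_⟩
  · rintro ⟨v, hv, e⟩
    have e1 := b.sum_repr v
    generalize ⇑(b.repr v) = c at e1
    subst e1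
    simp only [hb, Fin.sum_univ_four, Matrix.cons_val_zero, Matrix.cons_val_one, Matrix.cons_val, map_add,
      map_smul, f2, smul_zero, add_zero, LinearMap.add_apply, LinearMap.smul_apply, hx, hy, h1, h3, g1,
      smul_eq_mul, mul_zero, zero_add] at hv e
    have c1 : c 1 ≠ 0 := fun e1 => hv (by
      have : c 0 = 0 := by simpa [e1, ha] using e
      rw [this, e1, zero_smul, zero_smul, add_zero])
    refine ⟨c 0 * a / c 1, ?_⟩
    field_simp
    linear_combination -e
  · rintro ⟨r, hr⟩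
    refine ⟨r • x + a • y, fun e => ?_, ?_⟩
    · simpa [h3, hy, ha, hd] using congrArg (ω y) e
    · simp only [map_add, map_smul, LinearMap.add_apply, LinearMap.smul_apply, hx, hy, h1, h3, smul_eq_mul]
      linear_combination -a * hr
  · rw [hu, hb]
    fin_cases i <;> simp [Fin.sum_univ_four, f2]
  · rw [hb]
    fin_cases i <;> fin_cases j <;> simp [h.alt, hx, hy, h1, h2, h3, h4, g1, g2]

theorem sq_mul {a b : ZMod p} (ha : a ≠ 0) (hb : b ≠ 0) (h : IsSquare a ↔ IsSquare b) :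
    IsSquare (a * b) := by
  by_cases h1 : IsSquare a
  · exact h1.mul (h.1 h1)
  · rw [← quadraticChar_one_iff_isSquare (mul_ne_zero ha hb), map_mul,
      quadraticChar_neg_one_iff_not_isSquare.2 h1,
      quadraticChar_neg_one_iff_not_isSquare.2 (mt h.2 h1)]
    rfl

end L22

theorem l22 (ω : BF p W) (u : End (ZMod p) W) (ω' : BF p W') (u' : End (ZMod p) W') :
    L22 ω u ω' u' := fun h h' t t' hi => by
  obtain ⟨x, y, ha, hd, h1, h2⟩ := L22.ex h t
  obtain ⟨x', y', ha', hd', h1', h2'⟩ := L22.ex h' t'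
  obtain ⟨i1, b, e1, e2⟩ := L22.nf h t ha hd rfl rfl h1 h2
  rw [i1, (L22.nf h' t' ha' hd' rfl rfl h1' h2').1] at hi
  obtain ⟨r, hr⟩ := L22.sq_mul (neg_ne_zero.2 (mul_ne_zero ha hd)) (neg_ne_zero.2 (mul_ne_zero ha' hd')) hi
  generalize ω x ((u - 1) x) = a at *
  generalize ω y ((u - 1) y) = d at *
  obtain ⟨-, b', e1', e2'⟩ := L22.nf h' t' (x := x') (y := (r / (a * ω' y' ((u' - 1) y'))) • y') ha'
    (mul_ne_zero (div_ne_zero ha' ha) hd) rfl (by
      simp only [map_smul, LinearMap.smul_apply, smul_eq_mul]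
      field_simp
      linear_combination -hr) (by rw [map_smul, map_smul, h1', smul_zero]) (by rw [map_smul, h2', smul_zero])
  generalize ω' x' ((u' - 1) x') = a' at *
  have hφ : ∀ i, b.equiv b' (Equiv.refl _) (b i) = b' i := fun i => by simp
  refine ⟨b.equiv b' (Equiv.refl _), a' / a, div_ne_zero ha' ha, fun w => ?_, fun v w => ?_⟩
  · refine LinearMap.congr_fun (f := (b.equiv b' (Equiv.refl _)).toLinearMap ∘ₗ u)
      (g := u' ∘ₗ (b.equiv b' (Equiv.refl _)).toLinearMap) (b.ext fun i => ?_) w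
    simp only [LinearMap.comp_apply, LinearEquiv.coe_coe, e1, e1', map_sum, map_smul, hφ]
  · refine LinearMap.congr_fun₂ (f := ω'.compl₁₂ (b.equiv b' (Equiv.refl _)).toLinearMap
      (b.equiv b' (Equiv.refl _)).toLinearMap) (g := (a' / a) • ω) (b.ext fun i => b.ext fun j => ?_) v w
    simp only [LinearMap.compl₁₂_apply, LinearEquiv.coe_coe, hφ, LinearMap.smul_apply, e2, e2', smul_eq_mul]
    fin_cases i <;> fin_cases j <;> simp [ha]

end Cfsg.Lib.XS
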