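import Cfsg.Agent.XS.Lin

/-! One Jordan block of size four; the Jordan types in dimension four. -/

set_option autoImplicit false

namespace Cfsg.Lib.XS

open Module

variable {p : ℕ} [Fact p.Prime] {W W' : Type} [AddCommGroup W] [Module (ZMod p) W] [Finite W]
  [AddCommGroup W'] [Module (ZMod p) W'] [Finite W']

namespace L4

variable {ω : BF p W} {u : End (ZMod p) W}

omit [Finite W] in
theorem indep {f : End (ZMod p) W} (h4 : ∀ w, f (f (f (f w))) = 0) {x : W} (hx : f (f (f x)) ≠ 0) :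
    LinearIndependent (ZMod p) ![x, f x, f (f x), f (f (f x))] := by
  refine Fintype.linearIndependent_iff.2 fun c hc => ?_
  simp only [Fin.sum_univ_four, Matrix.cons_val_zero, Matrix.cons_val_one, Matrix.cons_val] at hc
  have e0 : c 0 = 0 := by simpa [h4, hx] using congrArg (fun w => f (f (f w))) hc
  have e1 : c 1 = 0 := by simpa [h4, hx, e0] using congrArg (fun w => f (f w)) hc
  have e2 : c 2 = 0 := by simpa [h4, hx, e0, e1] using congrArg f hc
  have e3 : c 3 = 0 := by simpa [hx, e0, e1, e2] using hc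
  intro i
  fin_cases i
  exacts [e0, e1, e2, e3]

theorem nf (h : Sy ω u) (h4 : T4 u) : ∃ (b : Basis (Fin 4) (ZMod p) W) (β : ZMod p), β ≠ 0 ∧
    (∀ i, u (b i) = ∑ j, !![1, 1, 0, 0; 0, 1, 1, 0; 0, 0, 1, 1; 0, 0, 0, (1 : ZMod p)] i j • b j) ∧
    ∀ i j, ω (b i) (b j) = β * !![0, 0, 1, 1; 0, 0, -1, 0; -1, 1, 0, 0; -1, 0, 0, (0 : ZMod p)] i j := by
  obtain ⟨hd, h3⟩ := h4
  have hn := h.nilp
  rw [hd] at hn
  have adj := h.adj
  have hu : ∀ w, u w = w + (u - 1) w := fun w => by rw [sub_one_apply]; abel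
  generalize u - 1 = f at *
  have f4 : ∀ w, f (f (f (f w))) = 0 := fun w => LinearMap.congr_fun hn w
  have g3 : ∀ v w, ω (f v) (f (f (f w))) = 0 := fun v w => by simpa [f4] using adj v (f (f (f w)))
  have g12 : ∀ x, ω (f x) (f (f x)) = -ω x (f (f (f x))) := fun x => by
    have := adj x (f (f x))
    rw [g3] at this
    linear_combination this
  have g02 : ∀ x, ω x (f (f x)) = ω x (f (f (f x))) := fun x => by
    have := adj x (f x)
    rw [h.alt, g12] at this
    linear_combination this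
  have bas : ∀ x, f (f (f x)) ≠ 0 → ∃ b : Basis (Fin 4) (ZMod p) W,
      ⇑b = ![x, f x, f (f x), f (f (f x))] := fun x hx =>
    ⟨basisOfLinearIndependentOfCardEqFinrank (indep f4 hx) (by simp [hd]),
      coe_basisOfLinearIndependentOfCardEqFinrank _ _⟩
  have ne : ∀ x, f (f (f x)) ≠ 0 → ω x (f (f (f x))) ≠ 0 := fun x hx e => by
    obtain ⟨b, hb⟩ := bas x hx
    refine hx (h.nd _ fun v => ?_)
    have : ω (f (f (f x))) = 0 := b.ext fun i => by
      rw [h.skew, hb]
      fin_cases i <;> simp [e, g3]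
    rw [this]; rfl
  obtain ⟨y, hy⟩ : ∃ x, f (f (f x)) ≠ 0 := by
    by_contra! hc
    exact h3 (LinearMap.ext hc)
  obtain ⟨x, hx, h0⟩ : ∃ x, f (f (f x)) ≠ 0 ∧ ω x (f x) = 0 := by
    refine ⟨y - (ω y (f y) / (2 * ω y (f (f (f y))))) • f (f y), by simpa [f4] using hy, ?_⟩
    have := ne y hy
    have := h.two
    simp only [map_sub, map_smul, LinearMap.sub_apply, LinearMap.smul_apply, smul_eq_mul, g3,
      h.skew (f (f y)) (f y), g12]
    field_simp
    ring
  obtain ⟨b, hb⟩ := bas x hx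
  refine ⟨b, _, ne x hx, fun i => ?_, fun i j => ?_⟩
  · rw [hu, hb]
    fin_cases i <;> simp [Fin.sum_univ_four, f4]
  · rw [hb]
    fin_cases i <;> fin_cases j <;>
      simp [h.alt, h0, g3, g12, g02, h.skew (f x) x, h.skew (f (f x)) x, h.skew (f (f (f x))) x,
        h.skew (f (f x)) (f x), h.skew (f (f (f x))) (f x), h.skew (f (f (f x))) (f (f x))]

theorem sq (h : Sy ω u) (hd : finrank (ZMod p) W = 4) (h3 : (u - 1) ^ 3 = 0) : (u - 1) ^ 2 = 0 := by
  have adj := h.adj
  generalize u - 1 = f at *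
  have f3 : ∀ w, f (f (f w)) = 0 := fun w => LinearMap.congr_fun h3 w
  have g1 : ∀ v w, ω (f (f v)) (f w) = 0 := fun v w => by simpa [f3] using adj (f (f v)) w
  have g2 : ∀ v w, ω (f (f v)) w = -ω (f v) (f w) := fun v w => by
    have := adj (f v) w
    rw [g1] at this
    linear_combination this
  refine LinearMap.ext fun x => h.nd _ fun y => by_contra fun hn => ?_
  have hδ : ω (f x) (f y) ≠ 0 := fun e => hn ((g2 x y).trans (by rw [e, neg_zero]))
  have li : LinearIndependent (ZMod p) ![x, f x, f y, f (f x), f (f y)] := by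
    refine Fintype.linearIndependent_iff.2 fun c hc => ?_
    simp only [Fin.sum_univ_five, Matrix.cons_val_zero, Matrix.cons_val_one, Matrix.cons_val] at hc
    have e0 : c 0 = 0 := by
      have := congrArg (ω (f (f y))) hc
      simp only [map_add, map_smul, g1, smul_zero, add_zero, map_zero] at this
      simpa [g2, h.skew (f y) (f x), hδ] using this
    have e1 : c 1 = 0 := by
      simpa [e0, g1, h.alt, hδ] using congrArg (fun w => ω w (f y)) hc
    have e2 : c 2 = 0 := by
      simpa [e0, g1, h.alt, h.skew (f y) (f x), hδ] using congrArg (fun w => ω w (f x)) hc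
    have e3 : c 3 = 0 := by
      simpa [e0, e1, e2, g2, h.alt, hδ] using congrArg (fun w => ω w y) hc
    have e4 : c 4 = 0 := by
      simpa [e0, e1, e2, g2, h.alt, h.skew (f y) (f x), hδ] using congrArg (fun w => ω w x) hc
    intro i
    fin_cases i
    exacts [e0, e1, e2, e3, e4]
  have := li.fintype_card_le_finrank
  simp [hd] at this

end L4

theorem l4 (ω : BF p W) (u : End (ZMod p) W) (ω' : BF p W') (u' : End (ZMod p) W') :
    L4 ω u ω' u' := fun h h' t t' => by
  obtain ⟨b, β, hβ, e1, e2⟩ := L4.nf h t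
  obtain ⟨b', β', hβ', e1', e2'⟩ := L4.nf h' t'
  have hφ : ∀ i, b.equiv b' (Equiv.refl _) (b i) = b' i := fun i => by simp
  refine ⟨b.equiv b' (Equiv.refl _), β' / β, div_ne_zero hβ' hβ, fun w => ?_, fun v w => ?_⟩
  · refine LinearMap.congr_fun (f := (b.equiv b' (Equiv.refl _)).toLinearMap ∘ₗ u)
      (g := u' ∘ₗ (b.equiv b' (Equiv.refl _)).toLinearMap) (b.ext fun i => ?_) w
    simp only [LinearMap.comp_apply, LinearEquiv.coe_coe, e1, e1', map_sum, map_smul, hφ]
  · refine LinearMap.congr_fun₂ (f := ω'.compl₁₂ (b.equiv b' (Equiv.refl _)).toLinearMap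
      (b.equiv b' (Equiv.refl _)).toLinearMap) (g := (β' / β) • ω) (b.ext fun i => b.ext fun j => ?_) v w
    simp only [LinearMap.compl₁₂_apply, LinearEquiv.coe_coe, hφ, LinearMap.smul_apply, e2, e2', smul_eq_mul]
    field_simp

theorem lJor (ω : BF p W) (u : End (ZMod p) W) : LJor ω u := fun h hd b h1 _ h3 => by
  refine or_iff_not_imp_left.2 fun h4 => ?_
  have h5 := L4.sq h hd (by_contra fun e => h4 ⟨hd, e⟩)
  refine ⟨hd, h5, fun w hw => ?_⟩
  have h6 : LinearMap.range (u - 1) ≤ LinearMap.ker (u - 1) := by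
    rintro _ ⟨v, rfl⟩
    exact LinearMap.congr_fun h5 v
  have h7 : 2 ≤ finrank (ZMod p) (LinearMap.range (u - 1)) := by
    by_contra hn
    obtain ⟨v, hv⟩ := finrank_le_one_iff.1 (Nat.le_of_lt_succ (not_le.1 hn))
    have k : ∀ y, ∃ c : ZMod p, c • (v : W) = (u - 1) y := fun y =>
      (hv ⟨_, y, rfl⟩).imp fun _ e => congrArg Subtype.val e
    obtain ⟨c, hc⟩ := k b
    rw [← hc, map_smul, smul_eq_mul, mul_eq_zero] at h3
    refine h1 (h.mem_ker fun y => ?_)
    obtain ⟨d, hd⟩ := k y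
    rw [← hd, map_smul, h3.resolve_left fun e => h1 (by rw [← hc, e, zero_smul]), smul_zero]
  have h8 := (u - 1).finrank_range_add_finrank_ker
  exact (Submodule.eq_of_le_of_finrank_le h6 (by omega)).ge hw

end Cfsg.Lib.XS
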