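import Cfsg.Agent.XS.Defs
import Mathlib.FieldTheory.Finite.Basic

/-! The elliptic quadric. -/

set_option autoImplicit false

namespace Cfsg.Lib.XS

open Module Polynomial

variable {p : ℕ} [Fact p.Prime] {W : Type} [AddCommGroup W] [Module (ZMod p) W]

namespace LR2h

theorem two_ne (h : p ≠ 2) : (2 : ZMod p) ≠ 0 := fun e => h <| by
  have : ((2 : ℕ) : ZMod p) = 0 := by exact_mod_cast e
  exact (Nat.prime_dvd_prime_iff_eq Fact.out Nat.prime_two).1 ((ZMod.natCast_eq_zero_iff 2 p).1 this)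

theorem exists_sq (h : p ≠ 2) {a b : ZMod p} (ha : a ≠ 0) (hb : b ≠ 0) (c : ZMod p) :
    ∃ x y, a * x ^ 2 + b * y ^ 2 = c := by
  obtain ⟨x, y, e⟩ := FiniteField.exists_root_sum_quadratic (f := C a * X ^ 2) (g := C b * X ^ 2 - C c)
    (degree_C_mul_X_pow 2 ha) (by
      rw [degree_sub_eq_left_of_degree_lt, degree_C_mul_X_pow 2 hb]
      · rfl
      · rw [degree_C_mul_X_pow 2 hb]
        exact degree_C_le.trans_lt (by decide))
    (by rw [ZMod.card]; exact (Fact.out : p.Prime).eq_two_or_odd.resolve_left h)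
  refine ⟨x, y, ?_⟩
  simp only [eval_mul, eval_C, eval_pow, eval_X, eval_sub] at e
  linear_combination e

theorem exists_orth (hW : finrank (ZMod p) W = 2) {B : BF p W} (an : ∀ d, B d d = 0 → d = 0) :
    ∃ v w : W, v ≠ 0 ∧ w ≠ 0 ∧ B v w = 0 ∧ ∀ d, ∃ x y : ZMod p, d = x • v + y • w := by
  have : Module.Finite (ZMod p) W := Module.finite_of_finrank_pos (by omega)
  let b := Module.finBasisOfFinrankEq (ZMod p) W hW
  have h0 : B (b 0) (b 0) ≠ 0 := mt (an _) (b.ne_zero 0)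
  refine ⟨b 0, b 1 - (B (b 0) (b 1) / B (b 0) (b 0)) • b 0, b.ne_zero 0, fun e => ?_, ?_, fun d =>
    ⟨b.repr d 0 + b.repr d 1 * (B (b 0) (b 1) / B (b 0) (b 0)), b.repr d 1, ?_⟩⟩
  · simpa using congrArg (b.repr · 1) e
  · rw [map_sub, map_smul, smul_eq_mul, div_mul_cancel₀ _ h0, sub_self]
  · conv_lhs => rw [← b.sum_repr d, Fin.sum_univ_two]
    module

variable [Finite W] {Γ : Subgroup (VV p W ≃ₗ[ZMod p] VV p W)}

theorem onto {g : VV p W ≃ₗ[ZMod p] VV p W} (h : ∀ s d, (g (s, d, 0)).1 = 0) (d : W) (r : ZMod p) :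
    ∃ s' d', g (s', d', 0) = (0, d, r) := by
  obtain ⟨⟨d', s'⟩, e⟩ := Finite.surjective_of_injective (f := fun x : W × ZMod p => (g (x.2, x.1, 0)).2)
    (fun x y e => by
      have := g.injective (Prod.ext ((h _ _).trans (h _ _).symm) e)
      simp only [Prod.mk.injEq] at this
      exact Prod.ext this.2.1 this.1) (d, r)
  exact ⟨s', d', Prod.ext (h _ _) e⟩

end LR2h

open LR2h

theorem lR2 [Finite W] (Γ : Subgroup (VV p W ≃ₗ[ZMod p] VV p W)) : LR2 Γ := by
  intro hL hW B sy an ht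
  have h2 := two_ne hL.odd
  choose t tm ht using ht
  obtain ⟨g, gm, gz, g0⟩ := hL.gg
  obtain ⟨v, w, v0, w0, vw, sp⟩ := exists_orth hW an
  have gs : ∀ s : ZMod p, g (s, 0, 0) = (0, 0, s) := fun s => by
    simpa using (map_smul g s (1, 0, 0)).trans (congrArg (s • ·) gz)
  have gi : ∀ x, g⁻¹ (g x) = x := g.symm_apply_apply
  have q1 : ∀ γ ∈ Γ, ∀ s d r, γ (1, 0, 0) = (s, d, r) → s * r = B d d / 2 := by
    intro γ hγ s d r e
    by_cases r0 : r = 0
    · have := hL.om γ hγ (by rw [e, r0])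
      rw [e] at this
      simp [r0, show d = 0 from this]
    obtain ⟨x, y, e1⟩ := exists_sq hL.odd (mt (an v) v0) (mt (an w) w0) ((B d d - 2 * s * r) / r ^ 2)
    have e2 : B (x • v + y • w) (x • v + y • w) = (B d d - 2 * s * r) / r ^ 2 := by
      simp only [map_add, map_smul, LinearMap.add_apply, LinearMap.smul_apply, smul_eq_mul, sy w v, vw]
      linear_combination e1
    generalize x • v + y • w = b at e2
    obtain ⟨s1, d1, e3⟩ := onto g0 (r • b) r
    have e4 : (g⁻¹ * t b * t (-r⁻¹ • d) * γ) (1, 0, 0) = (s1, d1, 0) := by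
      change g⁻¹ (t b (t (-r⁻¹ • d) (γ (1, 0, 0)))) = _
      rw [e, ht _ s d r, show d + r • -r⁻¹ • d = 0 by simp [smul_smul, r0], ht, ← gi (s1, d1, 0), e3, zero_add]
      congr 2
      simp only [map_smul, LinearMap.smul_apply, smul_eq_mul, e2, map_zero]
      field_simp
      ring
    have e5 := hL.om _ (Γ.mul_mem (Γ.mul_mem (Γ.mul_mem (Γ.inv_mem gm) (tm _)) (tm _)) hγ) (by rw [e4])
    rw [e4] at e5
    rw [show d1 = 0 from e5, gs] at e3
    have e6 : b = 0 := (smul_eq_zero.1 (congrArg (·.2.1) e3).symm).resolve_left r0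
    rw [e6, map_zero, eq_comm, div_eq_zero_iff] at e2
    rw [eq_div_iff h2]
    linear_combination -(e2.resolve_right (pow_ne_zero 2 r0))
  obtain ⟨⟨s1, d1, ρ⟩, ez⟩ := g.surjective (1, 0, 0)
  have ρ0 : ρ ≠ 0 := fun e => by
    have := g0 s1 d1
    rw [e] at ez
    rw [ez] at this
    exact one_ne_zero this
  have q2 : ∀ b, ∃ τ ∈ Γ, τ (0, 0, 1) = (0, 0, 1) ∧ (∀ d, ∃ l, τ (0, d, 0) = (0, d, l)) ∧
      τ (1, 0, 0) = (1, b, B b b / 2) := fun b => by
    obtain ⟨c, hc⟩ := Finite.surjective_of_injective (f := fun c : W => (g (0, ρ • c, 0)).2.1) (fun c c' e => by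
      have e1 : g (0, ρ • (c - c'), 0) = g (0, ρ • c, 0) - g (0, ρ • c', 0) := by
        rw [← map_sub]; simp [smul_sub]
      have e2 : g (0, ρ • (c - c'), 0) = g ((g (0, ρ • (c - c'), 0)).2.2, 0, 0) := by
        rw [gs]
        exact Prod.ext (g0 _ _) (Prod.ext (by rw [e1]; exact sub_eq_zero.2 e) rfl)
      exact sub_eq_zero.1 ((smul_eq_zero.1 (congrArg (·.2.1) (g.injective e2))).resolve_left ρ0)) b
    have hm := Γ.mul_mem (Γ.mul_mem gm (tm c)) (Γ.inv_mem gm)
    have ap : ∀ x, (g * t c * g⁻¹) (g x) = g (t c x) := fun x => congrArg (fun y => g (t c y)) (gi x)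
    refine ⟨_, hm, ?_, fun d => ?_, ?_⟩
    · rw [← gz, ap, ht]; simp
    · obtain ⟨s', d', e⟩ := onto g0 d 0
      refine ⟨B c d', ?_⟩
      rw [← e, ap, ht, show ((s' + B c d' + 0 * (B c c / 2), d' + (0 : ZMod p) • c, 0) : VV p W) =
        (s', d', 0) + (B c d', 0, 0) by simp, map_add, e, gs]
      simp
    · have e : (g * t c * g⁻¹) (1, 0, 0) = (1, b, B c d1 + ρ * (B c c / 2) + (g (0, ρ • c, 0)).2.2) := by
        rw [← ez, ap, ht, show ((s1 + B c d1 + ρ * (B c c / 2), d1 + ρ • c, ρ) : VV p W) =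
          (s1, d1, ρ) + (B c d1 + ρ * (B c c / 2), 0, 0) + (0, ρ • c, 0) by simp [add_assoc], map_add, map_add, ez, gs]
        exact Prod.ext (by simp [g0]) (Prod.ext (by simpa using hc) (by simp))
      rw [e, ← q1 _ hm _ _ _ e, one_mul]
  choose τ τm τe τd τz using q2
  have dec : ∀ b s d r, τ b (s, d, r) = s • τ b (1, 0, 0) + τ b (0, d, 0) + r • τ b (0, 0, 1) := fun b s d r => by
    rw [← map_smul, ← map_smul, ← map_add, ← map_add]; simp
  have q3 : ∀ b s d r, τ b (s, d, r) = (s, d + s • b, r + B b d + s * (B b b / 2)) := fun b s d r => by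
    obtain ⟨l, e⟩ := τd b d
    have e1 := q1 _ (Γ.mul_mem (τm b) (τm d)) 1 (b + d) (B b b / 2 + l + B d d / 2) (by
      change τ b (τ d (1, 0, 0)) = _
      rw [τz, dec, τz, τe, e]; simp)
    simp only [map_add, LinearMap.add_apply, sy d b] at e1
    obtain rfl : l = B b d := by
      field_simp at e1
      exact mul_left_cancel₀ h2 (by linear_combination e1)
    rw [dec, τz, τe, e]
    exact Prod.ext (by simp) (Prod.ext (by simp [add_comm]) (by simp; ring))
  have q4 : ∀ b, b ≠ 0 → ∃ n ∈ Γ, ∀ s d r,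
      n (s, d, r) = (2 * r / B b b, d - (2 * B b d / B b b) • b, B b b / 2 * s) := fun b b0 => by
    have hb := mt (an b) b0
    refine ⟨_, Γ.mul_mem (Γ.mul_mem (tm (-(2 / B b b) • b)) (τm b)) (tm (-(2 / B b b) • b)), fun s d r => ?_⟩
    change t _ (τ b (t _ (s, d, r))) = _
    rw [ht _ s d r, q3, ht]
    simp only [map_add, map_smul, LinearMap.smul_apply, smul_eq_mul]
    refine Prod.ext ?_ (Prod.ext ?_ ?_)
    · field_simp
      ring
    · simp only [smul_smul]
      match_scalars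
      · rfl
      · field_simp
        ring
    · field_simp
      ring
  obtain ⟨n, nm, hn⟩ := q4 v v0
  obtain ⟨m, mm, hm⟩ := q4 w w0
  have hv := mt (an v) v0
  have hw := mt (an w) w0
  refine ⟨n * m, Γ.mul_mem nm mm, B w w / B v v, div_ne_zero hw hv, fun s d r => ?_⟩
  change n (m (s, d, r)) = _
  obtain ⟨x, y, rfl⟩ := sp d
  rw [hm, hn]
  simp only [map_add, map_sub, map_smul, smul_eq_mul, vw, sy w v]
  refine Prod.ext ?_ (Prod.ext ?_ ?_)
  · field_simp
  · match_scalars <;> field_simp <;> ring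
  · field_simp

end Cfsg.Lib.XS
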