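import Cfsg.Agent.XS.Lin
import Cfsg.Agent.XS.LR2

/-! The quadratic function without zeros. -/

set_option autoImplicit false

namespace Cfsg.Lib.XS

open Module

variable {p : ℕ} [Fact p.Prime] {W : Type} [AddCommGroup W] [Module (ZMod p) W] [Finite W]

namespace LNah

theorem inf_ker (M : Submodule (ZMod p) W) (μ : W →ₗ[ZMod p] ZMod p) :
    finrank (ZMod p) M ≤ finrank (ZMod p) (M ⊓ LinearMap.ker μ : Submodule (ZMod p) W) + 1 := by
  have h1 := Submodule.finrank_sup_add_finrank_inf_eq M (LinearMap.ker μ)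
  have h2 := μ.finrank_range_add_finrank_ker
  have h3 := Submodule.finrank_le (M ⊔ LinearMap.ker μ)
  have h4 := Submodule.finrank_le (LinearMap.range μ)
  rw [finrank_self] at h4
  omega

theorem exists_not_mem {M A : Submodule (ZMod p) W} (h : finrank (ZMod p) A < finrank (ZMod p) M) :
    ∃ y ∈ M, y ∉ A := by
  by_contra! e
  exact (Submodule.finrank_mono e).not_gt h

end LNah

open LNah

theorem lNa (ω : BF p W) (u : End (ZMod p) W) (A : Submodule (ZMod p) W) (κ : W → ZMod p) : LNa ω u A κ := by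
  intro hS hK
  have h2 := hS.two
  refine or_iff_not_imp_left.2 fun hN => ?_
  set f := u - 1 with hf
  have sy : ∀ v w, f v ∈ A → f w ∈ A → ω v (f w) = ω w (f v) := fun v w hv hw => by
    have e1 := hK.add v w hv hw
    have e2 := hK.add w v hw hv
    rw [add_comm w v] at e2
    linear_combination e1 - e2
  obtain ⟨L, hL⟩ := LinearMap.exists_extend ((AddMonoidHom.mk' (fun v : A.comap f => κ v + ω v (f v) / 2)
    fun v w => by
      simp only [Submodule.coe_add, map_add, LinearMap.add_apply, hK.add v w v.2 w.2, sy w v w.2 v.2]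
      field_simp
      ring).toZModLinearMap p)
  have hl : ∀ v, f v ∈ A → L v = κ v + ω v (f v) / 2 := fun v hv => LinearMap.congr_fun hL ⟨v, hv⟩
  have lA : ∀ v ∈ A, L v = 0 := fun v hv => by
    have e : f v = 0 := hK.ker v hv
    rw [hl v (e ▸ A.zero_mem), (hK.zero v (e ▸ A.zero_mem)).2 hv, e, map_zero, zero_div, add_zero]
  have n0 : ∀ v, f v ∈ A → L v = 0 → ω v (f v) = 0 → v ∈ A := fun v hv e1 e2 =>
    (hK.zero v hv).1 (by rw [hl v hv, e2] at e1; simpa using e1)
  have n1 : ∀ v, f v ∈ A → L v ≠ 0 → ω v (f v) = 0 := fun v hv e1 => by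
    by_contra e2
    have hv' : f ((2 * L v / ω v (f v)) • v) ∈ A := by rw [map_smul]; exact A.smul_mem _ hv
    have e3 := hl _ hv'
    simp only [map_smul, LinearMap.smul_apply, smul_eq_mul] at e3
    have e4 := lA _ ((hK.zero _ hv').1 (by
      rw [← add_left_inj, ← e3]
      field_simp
      ring))
    rw [map_smul, smul_eq_mul] at e4
    exact mul_ne_zero (div_ne_zero (mul_ne_zero h2 e1) e2) e1 e4
  have L0 : ∀ v, f v ∈ A → L v = 0 := fun v hv => by
    by_contra e
    obtain ⟨y, ⟨hy, ly⟩, yA⟩ := exists_not_mem (A := A) (M := A.comap f ⊓ LinearMap.ker L) (by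
      have := inf_ker (A.comap f) L
      omega)
    have ly' : L y = 0 := ly
    have e1 := n1 (v + y) (by rw [map_add]; exact A.add_mem hv hy) (by rwa [map_add, ly', add_zero])
    have e2 := n1 (v - y) (by rw [map_sub]; exact A.sub_mem hv hy) (by rwa [map_sub, ly', sub_zero])
    simp only [map_add, map_sub, LinearMap.add_apply, LinearMap.sub_apply, n1 v hv e] at e1 e2
    exact yA (n0 y hy ly (mul_left_cancel₀ h2 (by linear_combination e1 + e2)))
  refine ⟨by_contra fun h3 => ?_, fun v hv => by linear_combination L0 v hv - hl v hv⟩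
  obtain ⟨x, hx, xA⟩ := exists_not_mem (A := A) (M := A.comap f) (by omega)
  have i1 := inf_ker (A.comap f) (ω x ∘ₗ f)
  obtain ⟨y, ⟨hy, xy⟩, yA⟩ := exists_not_mem (A := A) (M := A.comap f ⊓ LinearMap.ker (ω x ∘ₗ f)) (by omega)
  have i2 := inf_ker (A.comap f ⊓ LinearMap.ker (ω x ∘ₗ f)) (ω y ∘ₗ f)
  obtain ⟨z, ⟨⟨hz, xz⟩, yz⟩, zA⟩ := exists_not_mem (A := A)
    (M := A.comap f ⊓ LinearMap.ker (ω x ∘ₗ f) ⊓ LinearMap.ker (ω y ∘ₗ f)) (by omega)
  change ω x (f y) = 0 at xy
  change ω x (f z) = 0 at xz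
  change ω y (f z) = 0 at yz
  obtain ⟨a, b, e⟩ := LR2h.exists_sq hS.odd (mt (n0 x hx (L0 x hx)) xA) (mt (n0 y hy (L0 y hy)) yA) (-ω z (f z))
  have hv : f (a • x + b • y + z) ∈ A := by
    simp only [map_add, map_smul]
    exact A.add_mem (A.add_mem (A.smul_mem _ hx) (A.smul_mem _ hy)) hz
  have e1 := congrArg (ω z) (hK.ker _ (n0 _ hv (L0 _ hv) (by
    simp only [map_add, map_smul, LinearMap.add_apply, LinearMap.smul_apply, smul_eq_mul, sy y x hy hx, sy z x hz hx,
      sy z y hz hy, xy, xz, yz]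
    linear_combination e)))
  simp only [← hf, map_add, map_smul, smul_eq_mul, sy z x hz hx, sy z y hz hy, xz, yz, map_zero] at e1
  exact zA (n0 z hz (L0 z hz) (by simpa using e1))

end Cfsg.Lib.XS
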