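import Cfsg.Agent.XS.LNa

/-! The three configurations. -/

set_option autoImplicit false

namespace Cfsg.Lib.XS

open Module LNah

variable {p : ℕ} [Fact p.Prime] {W : Type} [AddCommGroup W] [Module (ZMod p) W] [Finite W]

namespace LNbh

omit [Finite W] in
theorem exists_top {f : End (ZMod p) W} {d : ℕ} (h : f ^ d = 0) {k : ℕ} (hk : f ^ k ≠ 0) :
    ∃ w, (f ^ k) w ≠ 0 ∧ f ((f ^ k) w) = 0 := by
  by_contra! H
  have key : ∀ n w, (f ^ k) ((f ^ n) w) = 0 → (f ^ k) w = 0 := fun n => by
    induction n with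
    | zero => simp
    | succ n ih =>
      intro w e
      refine ih w (by_contra fun ne => H _ ne ?_)
      rwa [← End.mul_apply, ← pow_succ', pow_succ, End.mul_apply, ← End.mul_apply f, ← pow_succ']
  exact hk (LinearMap.ext fun w => key d w (by rw [h]; simp))

theorem finrank_comap (f : End (ZMod p) W) (A : Submodule (ZMod p) W) : finrank (ZMod p) (A.comap f) =
    finrank (ZMod p) (LinearMap.range f ⊓ A : Submodule (ZMod p) W) + finrank (ZMod p) (LinearMap.ker f) := by
  have := (f.domRestrict (A.comap f)).finrank_range_add_finrank_ker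
  rw [LinearMap.range_domRestrict, Submodule.map_comap_eq, LinearMap.ker_domRestrict,
    (Submodule.comapSubtypeEquivOfLe (LinearMap.ker_le_comap (p := A) f)).finrank_eq] at this
  exact this.symm

end LNbh

open LNbh

theorem lNb (ω : BF p W) (u : End (ZMod p) W) (A : Submodule (ZMod p) W) (κ : W → ZMod p) (h : LNa ω u A κ) :
    LNb ω u A κ := by
  intro hS hK h4 u1
  have hc := finrank_comap (u - 1) A
  have le : A ≤ LinearMap.ker (u - 1) := hK.ker
  obtain ⟨μ, hμ⟩ := hK.cod
  rcases h hS hK with h1 | ⟨h1, hκ⟩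
  · have i1 := inf_ker (LinearMap.ker (u - 1)) μ
    have i2 : finrank (ZMod p) (LinearMap.ker (u - 1) ⊓ LinearMap.ker μ : Submodule (ZMod p) W) ≤
        finrank (ZMod p) A := Submodule.finrank_mono fun w hw => hμ w hw.1 hw.2
    have K : ∀ k, (u - 1) k = 0 → k ∉ A → ∀ a ∈ A, ω a k = 0 → a ∈ LinearMap.range (u - 1) := fun k hk kA a ha e =>
      hS.mem_range fun w hw => by
        have := hK.iso a ha (w - (μ w / μ k) • k) (hμ _ (by rw [map_sub, map_smul, hw, hk, smul_zero, sub_zero])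
          (by rw [map_sub, map_smul, smul_eq_mul, div_mul_cancel₀ _ (mt (hμ k hk) kA), sub_self]))
        rwa [map_sub, map_smul, e, smul_zero, sub_zero] at this
    obtain ⟨w, w0, hw⟩ := exists_top hS.nilp (k := 1) (by rwa [pow_one, sub_ne_zero])
    rw [pow_one] at w0 hw
    have k0 : finrank (ZMod p) (LinearMap.ker (u - 1)) ≠ 0 := fun e =>
      w0 ((Submodule.finrank_eq_zero.1 e).le hw)
    by_cases e : A = LinearMap.ker (u - 1)
    · refine Or.inr (Or.inl ⟨e, ?_⟩)
      have : A ≤ LinearMap.range (u - 1) := fun a ha => hS.mem_range fun w hw => hK.iso a ha w (e.ge hw)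
      rw [inf_eq_right.2 this, ← e] at hc
      rw [← e] at k0 ⊢
      omega
    have lt := Submodule.finrank_lt_finrank_of_lt (lt_of_le_of_ne le e)
    have e0 : LinearMap.range (u - 1) ⊓ A = ⊥ := Submodule.finrank_eq_zero.1 (by omega)
    have e1 : A = ⊥ := by
      rw [← e0, eq_comm, inf_eq_right]
      exact fun a ha => K _ hw (fun hm => w0 (e0.le ⟨⟨w, rfl⟩, hm⟩)) a ha (hS.perp' (le ha) w)
    rw [e1, finrank_bot] at i2
    exact Or.inl ⟨e1, by omega⟩
  have z : ∀ v, (u - 1) v ∈ A → ω v ((u - 1) v) = 0 → v ∈ A := fun v hv e =>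
    (hK.zero v hv).1 (by rw [hκ v hv, e, neg_zero, zero_div])
  have e : A = LinearMap.ker (u - 1) := le_antisymm le fun v hv =>
    z v ((show (u - 1) v = 0 from hv) ▸ A.zero_mem) (by rw [show (u - 1) v = 0 from hv, map_zero])
  have f2 : (u - 1) ^ 2 = 0 := by
    by_contra ne
    obtain ⟨w, w0, hw⟩ := exists_top hS.nilp ne
    rw [pow_two, End.mul_apply] at w0 hw
    exact w0 (le (z _ (e.ge hw) (hS.perp hw w)))
  have hN : ∀ v, (u - 1) v ∈ A := fun v => e.ge (by rw [LinearMap.mem_ker, ← End.mul_apply, ← pow_two, f2]; rfl)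
  have i1 := hS.iso_dim A hK.iso
  rw [show A.comap (u - 1) = ⊤ from eq_top_iff.2 fun v _ => hN v, finrank_top] at h1
  exact Or.inr (Or.inr ⟨e, ⟨by omega, f2, fun w hw => hS.mem_range fun v hv => hK.iso w (e.ge hw) v (e.ge hv)⟩,
    fun v => hκ v (hN v)⟩)

end Cfsg.Lib.XS
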