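import Cfsg.Agent.XS.Lin

/-! The weights of the torus on one Jordan block. -/

set_option autoImplicit false

namespace Cfsg.Lib.XS

open Module

variable {p : ℕ} [Fact p.Prime] {W : Type} [AddCommGroup W] [Module (ZMod p) W] [Finite W]

namespace LP3h

omit [Finite W] in
theorem pow_apply (f : End (ZMod p) W) (n : ℕ) (z : W) :
    ∃ z', ((f + 1) ^ n) z = z + (n : ZMod p) • f z + f (f z') := by
  induction n with
  | zero => exact ⟨0, by simp⟩
  | succ n ih =>
    obtain ⟨z', e⟩ := ih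
    refine ⟨z' + (n : ZMod p) • z + f z', ?_⟩
    rw [pow_succ', End.mul_apply, e]
    simp only [LinearMap.add_apply, map_add, map_smul, End.one_apply, Nat.cast_succ]
    module

theorem exists_cyc {f : End (ZMod p) W} {k : ℕ} (hk : finrank (ZMod p) W = k + 1) (hn : f ^ (k + 1) = 0)
    (h1 : finrank (ZMod p) (LinearMap.ker f) = 1) :
    ∃ x, (f ^ k) x ≠ 0 ∧ ∀ w, ∃ (a : ZMod p) (v : W), w = a • x + f v := by
  obtain ⟨x, hx⟩ : ∃ x, (f ^ k) x ≠ 0 := by
    by_contra! H
    have := finrank_ker_pow_le f k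
    rw [LinearMap.ker_eq_top.2 (LinearMap.ext H), finrank_top] at this
    rw [h1] at this
    omega
  have xr : x ∉ LinearMap.range f := by
    rintro ⟨v, rfl⟩
    exact hx (by rw [← End.mul_apply, ← pow_succ, hn]; rfl)
  refine ⟨x, hx, fun w => ?_⟩
  have h2 := f.finrank_range_add_finrank_ker
  have h3 := Submodule.finrank_lt_finrank_of_lt (lt_of_le_of_ne (le_sup_right : LinearMap.range f ≤
    Submodule.span (ZMod p) {x} ⊔ LinearMap.range f) fun e =>
      xr (e.ge (Submodule.mem_sup_left (Submodule.mem_span_singleton_self x))))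
  have h4 := Submodule.eq_top_of_finrank_eq (le_antisymm (Submodule.finrank_le (Submodule.span (ZMod p) {x} ⊔
    LinearMap.range f)) (by omega))
  obtain ⟨_, h, _, ⟨v, rfl⟩, rfl⟩ := Submodule.mem_sup.1 (h4.ge (Submodule.mem_top (x := w)))
  obtain ⟨a, rfl⟩ := Submodule.mem_span_singleton.1 h
  exact ⟨a, v, rfl⟩

end LP3h

open LP3h

theorem lP3 (ω : BF p W) (u : End (ZMod p) W) : LP3 ω u := by
  intro hS h1 π h l l0 πf hu hω hπ hk
  obtain ⟨k, hd⟩ : ∃ k, finrank (ZMod p) W = k + 1 :=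
    Nat.exists_eq_succ_of_ne_zero fun e => by have := Submodule.finrank_le (LinearMap.ker (u - 1)); omega
  have hn := hS.nilp
  rw [hd] at hn ⊢
  obtain ⟨x, hx, sp⟩ := exists_cyc hd hn h1
  have pp : ∀ {w}, (u - 1) w = 0 → ∀ v, ω w ((u - 1) v) = 0 := fun hw => hS.perp' hw
  obtain ⟨f, rfl⟩ : ∃ f, u = f + 1 := ⟨u - 1, by simp⟩
  rw [add_sub_cancel_right] at *
  obtain ⟨α, v, ex⟩ := sp (h x)
  have cm : ∀ j z, (f ^ j) (f z) = (f ^ (j + 1)) z := fun j z => by rw [pow_succ, End.mul_apply]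
  have key : ∀ j, ∃ z, h ((f ^ j) x) = (f ^ j) ((l ^ j * α) • x + f z) := fun j => by
    induction j with
    | zero => exact ⟨v, by simpa using ex⟩
    | succ j ih =>
      obtain ⟨z, e⟩ := ih
      obtain ⟨z', e'⟩ := pow_apply f l.val ((l ^ j * α) • x + f z)
      have e1 := hu ((f ^ j) x)
      rw [e, ← End.mul_apply ((f + 1) ^ l.val) (f ^ j),
        (((Commute.refl f).add_left (Commute.one_left f)).pow_pow _ _).eq, End.mul_apply (f ^ j), e', LinearMap.add_apply, End.one_apply, map_add h, e, ← End.mul_apply f, ← pow_succ',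
        ZMod.natCast_zmod_val] at e1
      refine ⟨l • z + z', add_right_cancel (e1.trans ?_)⟩
      simp only [map_add, map_smul, cm, pow_succ l]
      module
  obtain ⟨z, e⟩ := key k
  have fy : f ((f ^ k) x) = 0 := by rw [← End.mul_apply, ← pow_succ', hn]; rfl
  rw [hk _ fy, map_add, cm, hn, LinearMap.zero_apply, add_zero, map_smul] at e
  have e1 := smul_left_injective (ZMod p) hx e
  have n0 : ω ((f ^ k) x) x ≠ 0 := fun e => hx (hS.nd _ fun w => by
    obtain ⟨a, v, rfl⟩ := sp w
    rw [map_add, map_smul, e, pp fy, smul_zero, add_zero])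
  have e2 := hω ((f ^ k) x) x
  rw [hk _ fy, ex, map_smul, LinearMap.smul_apply, map_add, map_smul, pp fy, add_zero, smul_eq_mul, smul_eq_mul,
    ← mul_assoc, mul_left_inj' n0] at e2
  obtain rfl : α = l := by
    field_simp at e2
    exact e2
  have e3 : α ^ (k + 1 + 2) = 1 := by
    field_simp at e1
    linear_combination -e1
  refine ⟨e3, fun π0 => ?_⟩
  have n1 : π x ≠ 0 := fun e => π0 (LinearMap.ext fun w => by
    obtain ⟨a, v, rfl⟩ := sp w
    rw [map_add, map_smul, e, πf, smul_zero, add_zero, LinearMap.zero_apply])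
  have e4 := hπ x
  rw [ex, map_add, map_smul, πf, add_zero, smul_eq_mul, mul_left_inj' n1] at e4
  field_simp at e4
  rwa [pow_add, e4, mul_one] at e3

end Cfsg.Lib.XS
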