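import Cfsg.Agent.XS.LR2

/-! Transvections in the automiser. -/

set_option autoImplicit false

namespace Cfsg.Lib.XS

open Module LR2h

variable {p : ℕ} [Fact p.Prime] {W : Type} [AddCommGroup W] [Module (ZMod p) W]
  {Γ : Subgroup (VV p W ≃ₗ[ZMod p] VV p W)} {t : VV p W ≃ₗ[ZMod p] VV p W} {a : W} {k : ZMod p}

namespace LRh

theorem up (tm : t ∈ Γ) (ht : ∀ s d r, t (s, d, r) = (s + r * k, d + r • a, r)) (i : ZMod p) :
    ∃ τ ∈ Γ, ∀ s d r, τ (s, d, r) = (s + i * r * k, d + (i * r) • a, r) := by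
  refine ⟨t ^ i.val, Γ.pow_mem tm _, ?_⟩
  conv => enter [s, d, r, 2]; rw [← ZMod.natCast_zmod_val i]
  induction i.val with
  | zero => simp
  | succ n ih =>
    intro s d r
    rw [pow_succ']
    change t ((t ^ n) _) = _
    rw [ih, ht]
    exact Prod.ext (by simp; ring) (Prod.ext (by simp only [Nat.cast_succ]; module) rfl)

theorem down (tm : t ∈ Γ) (ht : ∀ s d r, t (s, d, r) = (s, d + s • a, r + s * k)) (i : ZMod p) :
    ∃ τ ∈ Γ, ∀ s d r, τ (s, d, r) = (s, d + (i * s) • a, r + i * s * k) := by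
  refine ⟨t ^ i.val, Γ.pow_mem tm _, ?_⟩
  conv => enter [s, d, r, 2]; rw [← ZMod.natCast_zmod_val i]
  induction i.val with
  | zero => simp
  | succ n ih =>
    intro s d r
    rw [pow_succ']
    change t ((t ^ n) _) = _
    rw [ih, ht]
    exact Prod.ext rfl (Prod.ext (by simp only [Nat.cast_succ]; module) (by simp; ring))

theorem flip [Finite W] (hL : LS Γ) (tm : t ∈ Γ) (ht : ∀ s d r, t (s, d, r) = (s + r * k, d + r • a, r))
    (k0 : k ≠ 0) : ∃ τ ∈ Γ, ∃ (c : W) (m : ZMod p), m ≠ 0 ∧ ∀ s d r, τ (s, d, r) = (s, d + s • c, r + s * m) := by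
  obtain ⟨g, gm, gz, g0⟩ := hL.gg
  have gi : ∀ x, g⁻¹ (g x) = x := g.symm_apply_apply
  have ap : ∀ x, (g * t * g⁻¹) (g x) = g (t x) := fun x => congrArg (fun y => g (t y)) (gi x)
  have hm := Γ.mul_mem (Γ.mul_mem gm tm) (Γ.inv_mem gm)
  obtain ⟨⟨s1, d1, ρ⟩, ez⟩ := g.surjective (1, 0, 0)
  have ρ0 : ρ ≠ 0 := fun e => by
    have := g0 s1 d1
    rw [e] at ez
    rw [ez] at this
    exact one_ne_zero this
  have e1 : (g * t * g⁻¹) (1, 0, 0) = (1, (g (ρ * k, ρ • a, 0)).2) := by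
    rw [← ez, ap, ht, show ((s1 + ρ * k, d1 + ρ • a, ρ) : VV p W) = (s1, d1, ρ) + (ρ * k, ρ • a, 0) by simp,
      map_add, ez]
    exact Prod.ext (by simp [g0]) (by simp [← Prod.zero_eq_mk])
  refine ⟨_, hm, (g (ρ * k, ρ • a, 0)).2.1, (g (ρ * k, ρ • a, 0)).2.2, fun e => ?_, fun s d r => ?_⟩
  · have e2 := hL.om _ hm (by rw [e1]; exact e)
    rw [e1] at e2
    have : g (ρ * k, ρ • a, 0) = g 0 := by rw [map_zero]; exact Prod.ext (g0 _ _) (Prod.ext e2 e)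
    exact mul_ne_zero ρ0 k0 (congrArg Prod.fst (g.injective this))
  · obtain ⟨s', d', e⟩ := onto g0 d r
    have e2 : (g * t * g⁻¹) (0, d, r) = (0, d, r) := by rw [← e, ap, ht]; simp
    rw [show ((s, d, r) : VV p W) = (0, d, r) + s • (1, 0, 0) by simp, map_add, map_smul, e1, e2]
    exact Prod.ext (by simp) (Prod.ext rfl rfl)

end LRh

open LRh

theorem lR1 [Finite W] (Γ : Subgroup (VV p W ≃ₗ[ZMod p] VV p W)) : LR1 Γ := by
  intro hL t tm a k a0 k0 ht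
  have h2 := two_ne hL.odd
  obtain ⟨τ, τm, c, m, m0, hτ⟩ := flip hL tm ht k0
  obtain ⟨x, xm, hx⟩ := up tm ht (m * k)⁻¹
  obtain ⟨y, ym, hy⟩ := down τm hτ (-2⁻¹)
  have e : (y * x * τ) (1, 0, 0) = (2, k⁻¹ • a, 0) := by
    change y (x (τ (1, 0, 0))) = _
    rw [hτ 1 0 0, hx, hy]
    refine Prod.ext ?_ (Prod.ext ?_ ?_)
    · field_simp
      ring
    · match_scalars <;> field_simp <;> ring
    · field_simp
      ring
  have := hL.om _ (Γ.mul_mem (Γ.mul_mem ym xm) τm) (by rw [e])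
  rw [e] at this
  exact a0 ((smul_eq_zero.1 this).resolve_left (inv_ne_zero k0))

theorem lP0 [Finite W] (Γ : Subgroup (VV p W ≃ₗ[ZMod p] VV p W)) : LP0 Γ := by
  intro hL h0 t tm k k0 ht l l0
  have ht' : ∀ s d r, t (s, d, r) = (s + r * k, d + r • (0 : W), r) := by simpa using ht
  obtain ⟨τ, τm, c, m, m0, hτ⟩ := flip hL tm ht' k0
  choose x xm hx using up tm ht'
  choose y ym hy using down τm hτ
  have w : ∀ a : ZMod p, a ≠ 0 → ∃ n ∈ Γ, ∀ s d r, n (s, d, r) = (a * r, d, -a⁻¹ * s) := fun a a0 => by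
    refine ⟨_, Γ.mul_mem (Γ.mul_mem (xm (a / k)) (ym (-a⁻¹ / m))) (xm (a / k)), fun s d r => ?_⟩
    change x _ (y _ (x _ (s, d, r))) = _
    rw [hx _ s d r, hy, hx]
    refine Prod.ext ?_ (Prod.ext ((h0 _).trans (h0 _).symm) ?_) <;> field_simp <;> ring
  obtain ⟨n, nm, hn⟩ := w l⁻¹ (inv_ne_zero l0)
  obtain ⟨n', nm', hn'⟩ := w (-1) (by simp)
  refine ⟨n * n', Γ.mul_mem nm nm', fun s d r => ?_⟩
  change n (n' (s, d, r)) = _
  rw [hn', hn]
  simp

end Cfsg.Lib.XS
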