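import Cfsg.Agent.XS.Defs
import Cfsg.Agent.Chev.G2Zorn

/-! The model in the exceptional group. -/

set_option autoImplicit false
set_option linter.unnecessarySeqFocus false

namespace Cfsg.Lib.XS

open Cfsg.Lie Cfsg.Lib.Chev Cfsg.Lib.Chev.Core Cfsg.Lib.Chev.G2Z Cfsg.Lib.Char.Zorn Module
open scoped Matrix

namespace MG2x

variable {F : Type} [Field F]

/-- The root elements. -/
noncomputable def xr (r : ℕ) (t : F) : G2 F := ⟨repG2.x cod F r t, G0_le F (repG2.x_mem cod r t)⟩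

/-- The action on Zorn coordinates. -/
def ap (g : G2 F) (x : Fin 8 → F) : Fin 8 → F := (g.1 : Matrix (Fin 8) (Fin 8) F) *ᵥ x

theorem ap_mul (g h : G2 F) (x : Fin 8 → F) : ap (g * h) x = ap g (ap h x) :=
  (Matrix.mulVec_mulVec x _ _).symm

theorem ap_one (x : Fin 8 → F) : ap 1 x = x := Matrix.one_mulVec x

theorem ap_ext {g h : G2 F} (e : ∀ x, ap g x = ap h x) : g = h :=
  Subtype.ext (Units.ext (Matrix.toLin'.injective (LinearMap.ext e)))

theorem ap_xr (r : ℕ) (t : F) (x : Fin 8 → F) (hr : r < 12 := by omega) : ap (xr r t) x = act r t x :=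
  mat_mulVec hr t x

/-- The section. -/
noncomputable def sg (w : Fin 4 → F) : G2 F :=
  xr 1 (w 0) * (xr 2 (w 1) * (xr 3 (w 2) * (xr 5 (w 3) * xr 0 (-(w 0 * w 3 + 3 * w 1 * w 2) / 2))))

/-- The action of the section. -/
def sa (w : Fin 4 → F) (c : F) (x : Fin 8 → F) : Fin 8 → F :=
  ![x 0 + w 1 * x 6 - w 2 * x 1, x 1, x 2 - w 2 * x 6 + w 3 * x 1,
    x 3 + w 0 * x 2 - w 1 * x 0 + w 1 * x 7 + w 2 * x 5 - (w 0 * w 2 + w 1 * w 1) * x 6 +
      (w 0 * w 3 + 2 * w 1 * w 2 + c) * x 1,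
    x 4 + w 1 * x 2 + w 2 * x 0 - w 2 * x 7 - w 3 * x 5 + (w 1 * w 3 - w 2 * w 2) * x 1 - (w 1 * w 2 + c) * x 6,
    x 5 - w 0 * x 6 - w 1 * x 1, x 6, x 7 - w 1 * x 6 + w 2 * x 1]

theorem ap_sg (w : Fin 4 → F) (x : Fin 8 → F) : ap (sg w) x = sa w (-(w 0 * w 3 + 3 * w 1 * w 2) / 2) x := by
  rw [sg, ap_mul, ap_mul, ap_mul, ap_mul, ap_xr 0, ap_xr 1, ap_xr 2, ap_xr 3, ap_xr 5]
  generalize -(w 0 * w 3 + 3 * w 1 * w 2) / 2 = c
  apply vec_ext <;> simp [act, sa] <;> ring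

/-- The form. -/
def om : (Fin 4 → F) →ₗ[F] (Fin 4 → F) →ₗ[F] F :=
  LinearMap.mk₂ F (fun v w => v 0 * w 3 + 3 * v 1 * w 2 - 3 * v 2 * w 1 - v 3 * w 0)
    (fun _ _ _ => by simp; ring) (fun _ _ _ => by simp; ring) (fun _ _ _ => by simp; ring)
    fun _ _ _ => by simp; ring

theorem om_apply (v w : Fin 4 → F) : om v w = v 0 * w 3 + 3 * v 1 * w 2 - 3 * v 2 * w 1 - v 3 * w 0 := rfl

/-- The isometry. -/
def uu : End F (Fin 4 → F) where
  toFun w := ![w 0, w 1 - w 0, w 2 + 2 * w 1 - w 0, w 3 + 3 * w 2 + 3 * w 1 - w 0]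
  map_add' v w := by ext i; fin_cases i <;> simp <;> ring
  map_smul' c w := by ext i; fin_cases i <;> simp <;> ring

theorem uu_apply (w : Fin 4 → F) :
    uu w = ![w 0, w 1 - w 0, w 2 + 2 * w 1 - w 0, w 3 + 3 * w 2 + 3 * w 1 - w 0] := rfl

theorem ff_apply (w : Fin 4 → F) : (uu - 1 : End F _) w = ![0, -w 0, 2 * w 1 - w 0, 3 * w 2 + 3 * w 1 - w 0] := by
  ext i; fin_cases i <;> simp [uu_apply] <;> ring

theorem ff3 (w : Fin 4 → F) : ((uu - 1 : End F _) ^ 3) w = ![0, 0, 0, -6 * w 0] := by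
  rw [pow_succ, pow_two, End.mul_apply, End.mul_apply, ff_apply, ff_apply, ff_apply]
  ext i; fin_cases i <;> simp <;> ring

theorem ff4 : (uu - 1 : End F (Fin 4 → F)) ^ 4 = 0 := LinearMap.ext fun w => by
  rw [pow_succ, End.mul_apply, ff3, ff_apply]
  ext i; fin_cases i <;> simp

theorem x0_add (s t : F) : xr 0 (s + t) = xr 0 s * xr 0 t := ap_ext fun x => by
  rw [ap_mul, ap_xr 0, ap_xr 0, ap_xr 0]
  apply vec_ext <;> simp [act] <;> ring

theorem x7_pow (n : ℕ) : xr 7 (1 : F) ^ n = xr 7 (n : F) := by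
  induction n with
  | zero => exact ap_ext fun x => by rw [pow_zero, ap_one, ap_xr 7]; apply vec_ext <;> simp [act]
  | succ n ih =>
    refine ap_ext fun x => ?_
    rw [pow_succ, ih, ap_mul, ap_xr 7, ap_xr 7, ap_xr 7]
    apply vec_ext <;> simp [act] <;> ring

theorem sg_mul (h2 : (2 : F) ≠ 0) (v w : Fin 4 → F) : sg v * sg w = sg (v + w) * xr 0 (om v w / 2) :=
  ap_ext fun x => by
    rw [ap_mul, ap_mul, ap_sg, ap_sg, ap_sg, ap_xr 0, om_apply]
    apply vec_ext <;> simp [act, sa] <;> field_simp <;> ring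

theorem x0_sg (t : F) (w : Fin 4 → F) : xr 0 t * sg w = sg w * xr 0 t := ap_ext fun x => by
  rw [ap_mul, ap_mul, ap_sg, ap_sg, ap_xr 0, ap_xr 0]
  generalize -(w 0 * w 3 + 3 * w 1 * w 2) / 2 = c
  apply vec_ext <;> simp [act, sa] <;> ring

theorem x7_x0 (t : F) : xr 7 1 * xr 0 t = xr 0 t * xr 7 1 := ap_ext fun x => by
  rw [ap_mul, ap_mul, ap_xr 0, ap_xr 0, ap_xr 7, ap_xr 7]
  apply vec_ext <;> simp [act] <;> ring

theorem x7_sg (h2 : (2 : F) ≠ 0) (w : Fin 4 → F) : xr 7 1 * sg w = sg (uu w) * xr 7 1 := ap_ext fun x => by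
  rw [ap_mul, ap_mul, ap_sg, ap_sg, ap_xr 7, ap_xr 7, uu_apply]
  apply vec_ext <;> simp [act, sa] <;> field_simp <;> ring

theorem x0_inj (t : F) (e : xr 0 t = 1) : t = 0 := by
  have := congrFun (ap_xr 0 t (Pi.single 1 1)) 3
  rw [e, ap_one] at this
  simpa [act] using this.symm

end MG2x

open MG2x in
theorem mG2 (p : ℕ) [hp : Fact p.Prime] : MG2 p := fun h5 => by
  have hn : ∀ n : ℕ, 0 < n → n < 5 → (n : ZMod p) ≠ 0 := fun n h0 h1 e =>
    absurd (Nat.le_of_dvd h0 ((ZMod.natCast_eq_zero_iff n p).1 e)) (by omega)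
  have h2 : (2 : ZMod p) ≠ 0 := by exact_mod_cast hn 2 (by omega) (by omega)
  have h3 : (3 : ZMod p) ≠ 0 := by exact_mod_cast hn 3 (by omega) (by omega)
  refine ⟨inferInstance, fun h => ?_, Fin 4 → ZMod p, inferInstance, inferInstance, inferInstance, om, uu,
    ⟨by omega, fun w => by rw [om_apply]; ring, fun w h => ?_, fun v w => by simp [om_apply, uu_apply]; ring,
      pow_eq_zero_of_le (by omega) ff4⟩, ⟨by simp, fun e => ?_⟩,
    ⟨⟨sg, xr 0, xr 7 1, x0_add, x0_inj, sg_mul h2, x0_sg, x7_x0, x7_sg h2, ?_⟩⟩⟩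
  · rw [card_G2 (F := ZMod p) (ZMod.card p), mul_assoc, pow_succ, Nat.mul_dvd_mul_iff_left (pow_pos hp.1.pos 6),
      hp.1.dvd_mul] at h
    have key : ∀ n, 0 < n → ¬ p ∣ p ^ n - 1 := fun n h0 e => hp.1.one_lt.ne' (Nat.dvd_one.1
      ((Nat.dvd_sub_iff_right (Nat.one_le_pow _ _ hp.1.pos) (dvd_pow_self p h0.ne')).1 e))
    exact h.elim (key 2 (by omega)) (key 6 (by omega))
  · have e0 := h (Pi.single 3 1)
    have e1 := h (Pi.single 2 1)
    have e2 := h (Pi.single 1 1)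
    have e3 := h (Pi.single 0 1)
    simp [om_apply, h3] at e0 e1 e2 e3
    ext i; fin_cases i <;> assumption
  · have := congrFun (ff3 (F := ZMod p) (Pi.single 0 1)) 3
    rw [e] at this
    exact mul_ne_zero h2 h3 (by simp at this; linear_combination this)
  · rw [x7_pow, ZMod.natCast_self, ← pow_zero (xr 7 1), x7_pow, Nat.cast_zero]

end Cfsg.Lib.XS
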