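import Cfsg.Agent.XS.Defs
import Cfsg.Agent.Class.NegOne

/-! The model in the special linear group. -/

set_option autoImplicit false
set_option linter.unnecessarySeqFocus false

namespace Cfsg.Lib.XS

open Module Matrix

namespace MSLx

variable {F : Type} [Field F]

/-- Unitriangular matrices. -/
def ut (a b c d e f : F) : Matrix.SpecialLinearGroup (Fin 4) F :=
  ⟨!![1, a, b, c; 0, 1, d, e; 0, 0, 1, f; 0, 0, 0, 1], by
    simp [det_succ_column_zero, Fin.sum_univ_succ, Fin.succAbove]⟩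

theorem coe_ut (a b c d e f : F) : (ut a b c d e f).1 = !![1, a, b, c; 0, 1, d, e; 0, 0, 1, f; 0, 0, 0, 1] := rfl

theorem ut_mul (a b c d e f a' b' c' d' e' f' : F) : ut a b c d e f * ut a' b' c' d' e' f' =
    ut (a + a') (b + a * d' + b') (c + a * e' + b * f' + c') (d + d') (e + d * f' + e') (f + f') := by
  refine Subtype.ext ((Matrix.SpecialLinearGroup.coe_mul _ _).trans ?_)
  rw [coe_ut, coe_ut, coe_ut]
  ext i j
  fin_cases i <;> fin_cases j <;> simp [mul_apply, Fin.sum_univ_four] <;> ring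

theorem ut_zero : ut (0 : F) 0 0 0 0 0 = 1 := by
  ext i j
  rw [coe_ut]
  fin_cases i <;> fin_cases j <;> simp

theorem ut_eq_one {a b c d e f : F} (h : ut a b c d e f = 1) : c = 0 := by
  simpa [coe_ut] using congrArg (·.1 0 3) h

theorem ut_pow (d : F) (n : ℕ) : ut 0 0 0 d 0 0 ^ n = ut 0 0 0 (n * d) 0 0 := by
  induction n with
  | zero => rw [pow_zero, Nat.cast_zero, zero_mul, ut_zero]
  | succ n ih => rw [pow_succ, ih, ut_mul]; congr 1 <;> push_cast <;> ring

theorem not_dvd {p n : ℕ} (hp : p.Prime) (h0 : 0 < n) : ¬ p ∣ p ^ n - 1 := fun e => hp.one_lt.ne' (Nat.dvd_one.1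
  ((Nat.dvd_sub_iff_right (Nat.one_le_pow _ _ hp.pos) (dvd_pow_self p h0.ne')).1 e))

theorem two_ne {p : ℕ} [hp : Fact p.Prime] (h : p ≠ 2) : (2 : ZMod p) ≠ 0 := fun e =>
  h ((Nat.prime_dvd_prime_iff_eq hp.1 Nat.prime_two).1 ((ZMod.natCast_eq_zero_iff 2 p).1 (by exact_mod_cast e)))

/-- The form. -/
def om : (Fin 4 → F) →ₗ[F] (Fin 4 → F) →ₗ[F] F :=
  LinearMap.mk₂ F (fun v w => v 0 * w 2 + v 1 * w 3 - w 0 * v 2 - w 1 * v 3)
    (fun _ _ _ => by simp; ring) (fun _ _ _ => by simp; ring) (fun _ _ _ => by simp; ring)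
    fun _ _ _ => by simp; ring

theorem om_apply (v w : Fin 4 → F) : om v w = v 0 * w 2 + v 1 * w 3 - w 0 * v 2 - w 1 * v 3 := rfl

/-- The isometry. -/
def uu : End F (Fin 4 → F) where
  toFun w := ![w 0, w 1 - w 0, w 2 + w 3, w 3]
  map_add' v w := by ext i; fin_cases i <;> simp <;> ring
  map_smul' c w := by ext i; fin_cases i <;> simp <;> ring

theorem uu_apply (w : Fin 4 → F) : uu w = ![w 0, w 1 - w 0, w 2 + w 3, w 3] := rfl

theorem ff_apply (w : Fin 4 → F) : (uu - 1 : End F _) w = ![0, -w 0, w 3, 0] := by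
  ext i; fin_cases i <;> simp [uu_apply]

theorem ff2 : (uu - 1 : End F (Fin 4 → F)) ^ 2 = 0 := LinearMap.ext fun w => by
  rw [pow_two, End.mul_apply, ff_apply, ff_apply]
  ext i; fin_cases i <;> simp

end MSLx

open MSLx in
theorem mSL (p : ℕ) [hp : Fact p.Prime] : MSL p := fun h2 => by
  have t2 := two_ne h2
  refine ⟨inferInstance, fun h => ?_, Fin 4 → ZMod p, inferInstance, inferInstance, inferInstance, om, uu,
    ⟨h2, fun w => by rw [om_apply]; ring, fun w h => ?_, fun v w => by simp [om_apply, uu_apply]; ring,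
      pow_eq_zero_of_le hp.1.two_le ff2⟩, ⟨⟨by simp, ff2, fun w h => ⟨![-w 1, 0, 0, w 2], ?_⟩⟩,
      ![1, 0, 0, 0], fun e => ?_, by rw [ff_apply, om_apply]; simp⟩,
    ⟨⟨fun w => ut (w 0) (w 1) ((w 0 * w 2 + w 1 * w 3) / 2) 0 (w 2) (w 3), fun t => ut 0 0 t 0 0 0,
      ut 0 0 0 1 0 0, fun s t => by simp [ut_mul], fun t => ut_eq_one, fun v w => ?_, fun t w => ?_,
      fun t => by simp [ut_mul], fun w => ?_, by rw [ut_pow, ZMod.natCast_self, zero_mul, ut_zero]⟩⟩⟩
  · rw [Class.card_SL_fin_four (ZMod.card p), mul_assoc, mul_assoc, pow_succ,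
      Nat.mul_dvd_mul_iff_left (pow_pos hp.1.pos 6), hp.1.dvd_mul, hp.1.dvd_mul] at h
    exact h.elim (not_dvd hp.1 (by omega)) fun h => h.elim (not_dvd hp.1 (by omega)) (not_dvd hp.1 (by omega))
  · have e0 := h (Pi.single 2 1)
    have e1 := h (Pi.single 3 1)
    have e2 := h (Pi.single 0 1)
    have e3 := h (Pi.single 1 1)
    simp [om_apply] at e0 e1 e2 e3
    ext i; fin_cases i <;> assumption
  · rw [ff_apply] at h ⊢
    have e0 := congrFun h 1
    have e3 := congrFun h 2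
    simp at e0 e3
    ext i; fin_cases i <;> simp [e0, e3]
  · rw [ff_apply] at e
    simpa using congrFun e 1
  · rw [ut_mul, ut_mul, om_apply]
    congr 1 <;> simp <;> field_simp <;> ring
  · rw [ut_mul, ut_mul]
    congr 1 <;> ring
  · rw [ut_mul, ut_mul, uu_apply]
    congr 1 <;> simp <;> ring

end Cfsg.Lib.XS
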