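import Cfsg.Agent.XS.MSL
import Cfsg.Agent.Chev.ClsSU
import Cfsg.Agent.S2365

/-! The model in the special unitary group. -/

set_option autoImplicit false
set_option linter.unnecessarySeqFocus false

namespace Cfsg.Lib.XS

open Module Matrix MSLx Cfsg.Lib.Chev Cfsg.Lib.Class

namespace MSUx

variable {p : ℕ} [hp : Fact p.Prime]

/-- Transport of a model. -/
def tr {W : Type} [AddCommGroup W] [Module (ZMod p) W] {ω : BF p W} {u : End (ZMod p) W} {G G' : Type} [Group G]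
    [Group G'] (M : Mod G ω u) {H : Subgroup G} (f : H ≃* G') (h1 : ∀ w, M.σ w ∈ H) (h2 : ∀ t, M.ζ t ∈ H)
    (h3 : M.e ∈ H) : Mod G' ω u where
  σ w := f ⟨_, h1 w⟩
  ζ t := f ⟨_, h2 t⟩
  e := f ⟨_, h3⟩
  ζ_add s t := by rw [← map_mul]; exact congrArg f (Subtype.ext (M.ζ_add s t))
  ζ_inj t e := M.ζ_inj t (congrArg Subtype.val (f.map_eq_one_iff.1 e))
  mul v w := by rw [← map_mul, ← map_mul]; exact congrArg f (Subtype.ext (M.mul v w))
  ζσ t w := by rw [← map_mul, ← map_mul]; exact congrArg f (Subtype.ext (M.ζσ t w))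
  ζe t := by rw [← map_mul, ← map_mul]; exact congrArg f (Subtype.ext (M.ζe t))
  conj w := by rw [← map_mul, ← map_mul]; exact congrArg f (Subtype.ext (M.conj w))
  pow := by rw [← map_pow, f.map_eq_one_iff]; exact Subtype.ext M.pow

variable {K : Type} [Field K] (φ : K →+* K)

theorem adj_ut (a b c d e f : K) :
    adjM φ (ut a b c d e f).1 = (ut (φ f) (φ e) (φ c) (φ d) (φ b) (φ a)).1 := by
  ext i j
  rw [adjM_apply, coe_ut, coe_ut]
  fin_cases i <;> fin_cases j <;> simp [Fin.rev]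

theorem adj_mul {a b c d e f : K} (h1 : φ f + a = 0) (h2 : φ e + φ f * d + b = 0)
    (h3 : φ c + φ f * e + φ e * f + c = 0) (h4 : φ d + d = 0) (h5 : φ b + φ d * f + e = 0) (h6 : φ a + f = 0) :
    adjM φ (ut a b c d e f).1 * (ut a b c d e f).1 = 1 := by
  rw [adj_ut, ← Matrix.SpecialLinearGroup.coe_mul, ut_mul, h1, h2, h3, h4, h5, h6, ut_zero]
  rfl

variable [Algebra (ZMod p) K] (δ : K)

/-- The form with values in the larger field. -/
def ta : K × K →ₗ[ZMod p] K × K →ₗ[ZMod p] K :=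
  LinearMap.mk₂ (ZMod p) (fun v w => (w.1 * φ v.2 + w.2 * φ v.1 - v.1 * φ w.2 - v.2 * φ w.1) / δ)
    (fun _ _ _ => by simp; ring)
    (fun _ _ _ => by simp only [Prod.smul_fst, Prod.smul_snd, ZMod.map_smul φ]; simp only [Algebra.smul_def]; ring)
    (fun _ _ _ => by simp; ring)
    fun _ _ _ => by simp only [Prod.smul_fst, Prod.smul_snd, ZMod.map_smul φ]; simp only [Algebra.smul_def]; ring

theorem ta_apply (v w : K × K) :
    ta (p := p) φ δ v w = (w.1 * φ v.2 + w.2 * φ v.1 - v.1 * φ w.2 - v.2 * φ w.1) / δ := rfl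

/-- The isometry. -/
def vv : End (ZMod p) (K × K) where
  toFun w := (w.1, w.2 - δ * w.1)
  map_add' v w := by ext <;> simp <;> ring
  map_smul' c w := by ext <;> simp [smul_sub]

theorem vv_apply (w : K × K) : vv (p := p) δ w = (w.1, w.2 - δ * w.1) := rfl

theorem gg_apply (w : K × K) : (vv δ - 1 : End (ZMod p) _) w = (0, -(δ * w.1)) := by
  ext <;> simp [vv_apply]

theorem gg2 : (vv δ - 1 : End (ZMod p) (K × K)) ^ 2 = 0 := LinearMap.ext fun w => by
  rw [pow_two, End.mul_apply, gg_apply, gg_apply]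
  simp

theorem main [Fintype K] [CharP K p] (h2 : p ≠ 2) (hK : Fintype.card K = p ^ 2)
    (hr : finrank (ZMod p) K = 2) : HasMod p (SU 4 K p) fun _ _ _ ω u => T22 u ∧ ¬ Iso ω u := by
  set φ := frobq hK with hφ
  have φφ : ∀ x, φ (φ x) = x := frobq_frobq hK
  obtain ⟨δ, δ0, hδ⟩ := Form.exists_trace_zero (frobq_ne_id hK) φφ
  replace hδ : φ δ = -δ := eq_neg_of_add_eq_zero_right hδ
  let ι := algebraMap (ZMod p) K
  have φι : ∀ t, φ (ι t) = ι t := fun t => by rw [hφ, frobq_apply, ← map_pow, ZMod.pow_card]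
  have t2 : (2 : K) ≠ 0 := by rw [← map_ofNat ι 2]; exact (map_ne_zero ι).2 (two_ne h2)
  obtain ⟨ρ, hρ⟩ := (Algebra.linearMap (ZMod p) K).exists_leftInverse_of_injective
    (LinearMap.ker_eq_bot.2 ι.injective)
  have hω : ∀ v w, ι ((ta φ δ).compr₂ ρ v w) = (w.1 * φ v.2 + w.2 * φ v.1 - v.1 * φ w.2 - v.2 * φ w.1) / δ := by
    intro v w
    have : ta (p := p) φ δ v w ∈ (⊥ : Subfield K) := (Subfield.mem_bot_iff_pow_eq_self K p).2
      (show φ _ = _ by simp only [ta_apply, map_div₀, map_sub, map_add, map_mul, φφ, hδ]; ring)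
    rw [← ZMod.fieldRange_castHom_eq_bot p] at this
    obtain ⟨t, ht⟩ := this
    rw [Subsingleton.elim (ZMod.castHom _ _) ι] at ht
    rw [LinearMap.compr₂_apply, ← ta_apply (p := p), ← ht]
    exact congrArg ι (LinearMap.congr_fun hρ t)
  generalize (ta φ δ).compr₂ ρ = ω at hω
  have nz : ∀ a, 2 * (a * φ a) = 0 → a = 0 := fun a h =>
    (mul_eq_zero.1 ((mul_eq_zero.1 h).resolve_left t2)).elim id (map_eq_zero φ).1
  obtain ⟨e⟩ := nonempty_suTw_F_equiv (n := 3) hK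
  refine ⟨inferInstance, fun h => ?_, K × K, inferInstance, inferInstance,
    inferInstance, ω, vv δ, ⟨h2, fun w => ι.injective (by rw [hω, map_zero]; ring), fun w h => ?_,
      fun v w => ι.injective (by simp only [hω, vv_apply, map_sub, map_mul, hδ]; ring),
      pow_eq_zero_of_le hp.1.two_le (gg2 δ)⟩,
    ⟨⟨by rw [finrank_prod, hr], gg2 δ, fun w h => ⟨(-(w.2 / δ), 0), ?_⟩⟩, ?_⟩,
    ⟨tr ⟨fun w => ut w.1 w.2 (-(w.1 * φ w.2 + w.2 * φ w.1) / 2) 0 (-φ w.2) (-φ w.1),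
      fun t => ut 0 0 (δ * ι t) 0 0 0, ut 0 0 0 δ 0 0, fun s t => by simp [ut_mul, mul_add],
      fun t h => (map_eq_zero ι).1 ((mul_eq_zero.1 (ut_eq_one h)).resolve_left δ0), fun v w => ?_, fun t w => ?_,
      fun t => by simp [ut_mul], fun w => ?_, by rw [ut_pow, CharP.cast_eq_zero, zero_mul, ut_zero]⟩ e
      (fun w => (mem_suTw_F _ _).2 (adj_mul φ ?_ ?_ ?_ ?_ ?_ ?_))
      (fun t => (mem_suTw_F _ _).2 (adj_mul φ ?_ ?_ ?_ ?_ ?_ ?_))
      ((mem_suTw_F _ _).2 (adj_mul φ ?_ ?_ ?_ ?_ ?_ ?_))⟩⟩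
  · rw [Cfsg.Agent.S2365.card_SU_eq hK 3, pow_succ, Nat.mul_dvd_mul_iff_left (pow_pos hp.1.pos 6),
      hp.1.prime.dvd_finsetProd_iff] at h
    obtain ⟨i, -, h⟩ := h
    exact Known.not_dvd_uN hp.1 dvd_rfl (by omega) h
  · have e1 := hω w (0, δ * w.1)
    have e2 := hω w (δ * w.2, 0)
    rw [h, map_zero, eq_div_iff δ0] at e1 e2
    simp only [map_mul, hδ, map_zero] at e1 e2
    exact Prod.ext (nz _ (mul_left_cancel₀ δ0 (by linear_combination -e1)))
      (nz _ (mul_left_cancel₀ δ0 (by linear_combination -e2)))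
  · rw [gg_apply] at h ⊢
    have := (mul_eq_zero.1 (neg_eq_zero.1 (congrArg Prod.snd h))).resolve_left δ0
    exact Prod.ext this.symm (by field_simp)
  · rintro ⟨v, h1, h⟩
    have e1 := hω v ((vv δ - 1 : End (ZMod p) _) v)
    rw [h, map_zero, eq_div_iff δ0, gg_apply] at e1
    simp only [map_mul, map_neg, hδ, map_zero] at e1
    exact h1 (by rw [gg_apply, nz v.1 (mul_left_cancel₀ δ0 (by linear_combination e1))]; simp)
  · rw [ut_mul, ut_mul, map_div₀, hω, map_ofNat]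
    congr 1 <;> simp
    · field_simp
      ring
    all_goals ring
  · rw [ut_mul, ut_mul]
    congr 1 <;> ring
  · rw [ut_mul, ut_mul, vv_apply]
    congr 1 <;> simp [hδ] <;> ring
  all_goals simp [φφ, φι, hδ, map_ofNat]
  field_simp
  ring

end MSUx

theorem mSU (p : ℕ) [Fact p.Prime] : MSU p := fun h2 =>
  have hK := (@Nat.card_eq_fintype_card _ (Fintype.ofFinite _)).symm.trans (GaloisField.card p 2 two_ne_zero)
  ⟨GaloisField p 2, inferInstance, Fintype.ofFinite _, hK,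
    @MSUx.main p _ _ _ _ (Fintype.ofFinite _) _ h2 hK (GaloisField.finrank p two_ne_zero)⟩

end Cfsg.Lib.XS
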