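import Cfsg.Agent.XS.Char

/-! The essential subgroup moving the centre. -/

set_option autoImplicit false
set_option linter.unusedSectionVars false

universe u

namespace Cfsg.Lib.XS

open Cfsg Cfsg.FusionSystem Cfsg.Lib.Fus Module Subgroup Equiv

variable {p : ℕ} [hp : Fact p.Prime] {Ω : Type u} [Group Ω] {S Q : Subgroup Ω} {W : Type}
  [AddCommGroup W] [Module (ZMod p) W] (C : Co p S Q W) {F : FusionSystem S}

theorem N1.comm_CS [Finite S] (hF : F.IsSaturated p) (hN : C.NQ F) {e : Ω} (hz : C.Zc F e) (hq : e ∉ Q) :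
    (∀ a ∈ CS S e, ∀ b ∈ CS S e, a * b = b * a) ∧ ∀ a ∈ CS S e, a ^ p = 1 := by
  have he := hz.mem
  have eP := self_mem_CS he
  have zP := C.ζ_mem_CS he
  obtain ⟨ψ, t, hψ, e1⟩ := hz.ext hF
  have ep : e ^ p = 1 := (hψ.eq_one_iff (pow_mem eP p)).1 (by rw [hψ.map_pow eP, e1, C.ζ_pow_p])
  have t0 : t ≠ 0 := fun h => hq ((hψ.eq_one_iff eP).1 (by rw [e1, h, C.ζ_zero]) ▸ Q.one_mem)
  have key : ∀ s, ψ (C.ζ s) ∈ Q → s = 0 := fun s h => by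
    obtain ⟨r, e2⟩ := C.ν_ker _ h (hN _ h ((Co.zc_iff hψ (zP s)).2 (Co.zc_ζ s)))
    have e3 : C.ζ s = e ^ (r / t).val := ψ.injective (by
      rw [hψ.map_pow eP, e1, C.ζ_pow, ZMod.natCast_zmod_val, div_mul_cancel₀ _ t0, e2])
    obtain ⟨k, e4⟩ := (C.pow_mem_iff he hq).1 (e3 ▸ C.ζ_mem s)
    exact C.ζ_inj s (by rw [e3, e4, pow_mul, ep, one_pow])
  have dec : ∀ x ∈ CS S e, ∃ a ∈ Q, a ∈ CS S e ∧ ∃ i : ℕ, x = a * e ^ i := fun x hx => by
    obtain ⟨a, ha, i, -, rfl⟩ := C.gen he hq (CS_le hx)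
    exact ⟨a, ha, (Subgroup.mul_mem_cancel_right _ (pow_mem eP i)).1 hx, i, rfl⟩
  refine ⟨fun x hx y hy => ?_, fun x hx => ?_⟩
  · obtain ⟨a, ha, aP, i, rfl⟩ := dec x hx
    obtain ⟨b, hb, bP, j, rfl⟩ := dec y hy
    have h1 : Commute a b := (C.comm_iff ha hb).2 (key _ (by
      rw [← C.comm_Q ha hb, hψ.map_mul (mul_mem (mul_mem aP bP) (inv_mem aP)) (inv_mem bP), hψ.map_conj aP bP,
        hψ.map_inv bP]
      exact C.comm_mem (hψ.maps aP) (hψ.maps bP)))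
    have h2 : Commute a e := (mem_CS.1 aP).2
    have h3 : Commute b e := (mem_CS.1 bP).2
    exact (h1.mul_right (h2.pow_right j)).mul_left ((h3.symm.pow_left i).mul_right ((Commute.refl e).pow_pow i j))
  · obtain ⟨a, ha, aP, i, rfl⟩ := dec x hx
    have h2 : Commute a e := (mem_CS.1 aP).2
    rw [(h2.pow_right i).mul_pow, ← pow_mul, mul_comm i, pow_mul, ep, one_pow, mul_one]
    exact (C.pow_eq_one ha).2 (key _ (by rw [← C.pow a ha, hψ.map_pow aP]; exact C.pow_mem (hψ.maps aP)))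

theorem Co.wN1 [Finite S] [Finite W] (hF : F.IsSaturated p) : C.WN1 F := by
  intro hO hN
  by_contra H
  have hZ : F.IsNormal (C.Kh 1 0) := isNormal_of_essential C.pgrp hF fun P hP => by
    rcases hP with rfl | hP
    · refine ⟨(C.Kh_le 0).trans C.le, fun f hf x hx => ?_⟩
      obtain ⟨r, rfl⟩ := C.mem_Kh_zero.1 hx
      obtain ⟨μ, -, h⟩ := C.exists_mu hf
      exact h r ▸ C.ζ_mem_Kh _ 0
    have hC := hP.1.2 P (PIso.refl F hP.1.1).isConj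
    have zP : ∀ r, C.ζ r ∈ P := fun r => hC (mem_centralizerIn'.2 ⟨C.ζ_memS r, fun x hx => by
      rw [← C.ζ_cen x (hP.1.1 hx), mul_inv_cancel_right]⟩)
    refine ⟨fun x hx => by obtain ⟨r, rfl⟩ := C.mem_Kh_zero.1 hx; exact zP r, fun f hf x hx => ?_⟩
    obtain ⟨r, rfl⟩ := C.mem_Kh_zero.1 hx
    rw [C.ζ_eq_pow r, hf.mor.map_pow (zP 1)]
    refine Subgroup.pow_mem _ (by_contra fun h => H ?_) _
    have hz : C.Zc F (f (C.ζ 1)) := (Co.zc_iff hf.mor (zP 1)).2 (Co.zc_ζ 1)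
    have hq : f (C.ζ 1) ∉ Q := fun hq => h (C.mem_Kh_zero.2 (C.ν_ker _ hq (hN _ hq hz)))
    obtain ⟨h1, h2⟩ := N1.comm_CS C hF hN hz hq
    have h3 : P ≤ CS S (f (C.ζ 1)) := fun x hx => mem_CS.2 ⟨hP.1.1 hx, by
      have h4 := hf.inv_maps hx
      rw [← perm_apply_inv f x, ← hf.map_mul h4 (zP 1), C.ζ_cen _ (hP.1.1 h4), hf.map_mul (zP 1) h4]⟩
    have h4 : CS S (f (C.ζ 1)) = P := le_antisymm (fun x hx => hC (mem_centralizerIn'.2 ⟨CS_le hx, fun y hy => by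
      rw [h1 x hx y (h3 hy), mul_inv_cancel_right]⟩)) h3
    exact ⟨_, f, hz.mem, hq, h4.symm ▸ hP.2.1, h4.symm ▸ hf, rfl, h1, h2⟩
  have h1 : C.Kh 1 0 ≤ F.core := le_sSup hZ
  exact one_ne_zero (C.ζ_inj 1 (mem_bot.1 (hO ▸ h1 (C.ζ_mem_Kh 1 0))))

end Cfsg.Lib.XS
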