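import Cfsg.Agent.XS.Bas
import Cfsg.Agent.Solv.Conj

/-! The tower of subgroups above an element with one Jordan block. -/

set_option autoImplicit false

universe u

namespace Cfsg.Lib.XS

open Cfsg Cfsg.FusionSystem Cfsg.Lib.Fus Module Subgroup Equiv

variable {p : ℕ} [hp : Fact p.Prime] {Ω : Type u} [Group Ω] {S Q : Subgroup Ω} {W : Type}
  [AddCommGroup W] [Module (ZMod p) W]

namespace P1a

theorem ker_succ_le [Finite W] (f : End (ZMod p) W) (k : ℕ) :
    finrank (ZMod p) (LinearMap.ker (f ^ (k + 1))) ≤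
      finrank (ZMod p) (LinearMap.ker (f ^ k)) + finrank (ZMod p) (LinearMap.ker f) := by
  let φ : LinearMap.ker (f ^ (k + 1)) →ₗ[ZMod p] LinearMap.ker (f ^ k) :=
    f.restrict fun x hx => by rwa [LinearMap.mem_ker, ← End.mul_apply, ← pow_succ]
  have h1 := φ.finrank_range_add_finrank_ker
  have h2 : finrank (ZMod p) (LinearMap.range φ) ≤ finrank (ZMod p) (LinearMap.ker (f ^ k)) :=
    Submodule.finrank_le _
  let ψ : LinearMap.ker φ →ₗ[ZMod p] LinearMap.ker f :=
    LinearMap.codRestrict _ ((LinearMap.ker (f ^ (k + 1))).subtype ∘ₗ (LinearMap.ker φ).subtype)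
      fun x => congrArg Subtype.val x.2
  have h3 : finrank (ZMod p) (LinearMap.ker φ) ≤ finrank (ZMod p) (LinearMap.ker f) :=
    LinearMap.finrank_le_finrank_of_injective (f := ψ) fun x y e =>
      Subtype.ext (Subtype.ext (congrArg (fun z : LinearMap.ker f => (z : W)) e))
  omega

theorem ker_pow [Finite W] {f : End (ZMod p) W} (h0 : f ^ finrank (ZMod p) W = 0)
    (h1 : finrank (ZMod p) (LinearMap.ker f) = 1) {i : ℕ} (hi : i ≤ finrank (ZMod p) W) :
    finrank (ZMod p) (LinearMap.ker (f ^ i)) = i := by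
  have key : ∀ j, finrank (ZMod p) (LinearMap.ker (f ^ (i + j))) ≤
      finrank (ZMod p) (LinearMap.ker (f ^ i)) + j := fun j => by
    induction j with
    | zero => exact le_rfl
    | succ j ih => have := ker_succ_le f (i + j); rw [← add_assoc]; omega
  have h2 := key (finrank (ZMod p) W - i)
  rw [Nat.add_sub_cancel' hi, h0, LinearMap.ker_zero, finrank_top] at h2
  have h3 := finrank_ker_pow_le f i
  rw [h1] at h3
  omega

theorem le_ker [Finite W] {f : End (ZMod p) W} (h0 : IsNilpotent f) {M : Submodule (ZMod p) W}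
    (hM : ∀ x ∈ M, f x ∈ M) : M ≤ LinearMap.ker (f ^ finrank (ZMod p) M) := fun x hx => by
  have := (f.restrict hM).aeval_self_charpoly
  rw [(End.isNilpotent.restrict hM h0).charpoly_eq_X_pow_finrank, map_pow, Polynomial.aeval_X,
    End.pow_restrict] at this
  exact congrArg Subtype.val (LinearMap.congr_fun this ⟨x, hx⟩)

end P1a

namespace Co

theorem wP1a [Finite S] [Finite W] (C : Co p S Q W) : C.WP1a := by
  intro e he hq hp1 h1
  have h0 := (C.sy he).nilp
  have d4 := C.dim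
  have hN : ∀ i, zpowers e ≤ normalizer (C.Kh e i : Set Ω) := fun i => zpowers_le.2 (by
    have : Finite (C.Kh e i) := finite_of_le ((C.Kh_le i).trans C.le)
    refine mem_normalizer_fintype fun a ha => ?_
    have := mul_mem (C.comm_mem_Kh he hq he (C.Kh_mono e i.le_succ ha)) ha
    rwa [inv_mul_cancel_right] at this)
  have mem : ∀ i, ∀ x ∈ C.Rh e i, ∃ a ∈ C.Kh e i, ∃ j : ℕ, x = a * e ^ j := fun i x hx => by
    obtain ⟨a, ha, y, hy, rfl⟩ := (coe_mul_of_right_le_normalizer_left _ _ (hN i)).le hx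
    obtain ⟨j, rfl⟩ := (isOfFinOrder_iff_pow_eq_one.2
      ⟨p, hp.out.pos, hp1⟩).mem_powers_iff_mem_zpowers.2 hy
    exact ⟨a, ha, j, rfl⟩
  have one : ∀ j : ℕ, e ^ j ∈ Q → e ^ j = 1 := fun j hj => by
    obtain ⟨k, rfl⟩ := (C.pow_mem_iff he hq).1 hj
    rw [pow_mul, hp1, one_pow]
  have inf : ∀ i, C.Rh e i ⊓ Q = C.Kh e i := fun i => le_antisymm (fun x hx => by
    obtain ⟨a, ha, j, rfl⟩ := mem i x hx.1
    rwa [one j ((Q.mul_mem_cancel_left ha.1).1 hx.2), mul_one]) (le_inf le_sup_left (C.Kh_le i))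
  have eR : ∀ i, e ∈ C.Rh e i := fun i => mem_sup_right (mem_zpowers e)
  refine ⟨le_antisymm (C.Rh_le he _) fun s hs => ?_, fun w hw => ?_, fun i _ => ?_,
    fun i hi => ⟨?_, inf i, fun B hB hz hBe hc => ?_⟩⟩
  · obtain ⟨a, ha, j, -, rfl⟩ := C.gen he hq hs
    exact mul_mem (mem_sup_left (C.mem_Kh.2 ⟨ha, by rw [h0]; rfl⟩)) (Subgroup.pow_mem _ (eR _) j)
  · have h2 := (C.u e - 1).finrank_range_add_finrank_ker
    refine (Submodule.eq_of_le_of_finrank_le (S₁ := LinearMap.range (C.u e - 1))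
      (S₂ := LinearMap.ker ((C.u e - 1) ^ (finrank (ZMod p) W - 1))) ?_ ?_).ge hw
    · rintro _ ⟨v, rfl⟩
      rw [LinearMap.mem_ker, ← End.mul_apply, ← pow_succ, Nat.sub_add_cancel (by omega), h0]
      rfl
    · rw [P1a.ker_pow h0 h1 (Nat.sub_le _ _)]
      omega
  · have : Finite (C.Rh e i) := finite_of_le (C.Rh_le he i)
    have eN : e ∈ normalizerIn S (C.Rh e i) := mem_normalizerIn_of_finite he fun x hx =>
      mul_mem (mul_mem (eR i) hx) (inv_mem (eR i))
    refine le_antisymm (fun s hs => ?_) (sup_le (fun a ha => ?_) (zpowers_le.2 eN))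
    · obtain ⟨a, ha, j, -, rfl⟩ := C.gen he hq (mem_normalizerIn'.1 hs).1
      have h2 := conj_mem_of_mem_normalizerIn
        ((mul_mem_cancel_right (Subgroup.pow_mem _ eN j)).1 hs) (eR i)
      have h3 := ((inf i).le (mem_inf.2 ⟨mul_mem h2 (inv_mem (eR i)), C.comm_mem' he ha⟩)).2
      rw [C.ν_comm' he ha, map_neg, neg_eq_zero, ← End.mul_apply, ← pow_succ] at h3
      exact mul_mem (mem_sup_left (C.mem_Kh.2 ⟨ha, h3⟩)) (Subgroup.pow_mem _ (eR _) j)
    · refine mem_normalizerIn_of_finite (C.le ha.1) fun x hx => ?_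
      obtain ⟨b, hb, j, rfl⟩ := mem i x hx
      rw [← conj_mul, ← conj_pow, C.conj_Q ha.1 hb.1]
      refine mul_mem (mem_sup_left (mul_mem (C.ζ_mem_Kh _ i) hb)) (Subgroup.pow_mem _ ?_ j)
      have h2 := mul_mem (mem_sup_left (inv_mem (C.comm_mem_Kh he hq he ha)) :
        _ ∈ C.Rh e i) (eR i)
      rwa [show (e * a * e⁻¹ * a⁻¹)⁻¹ * e = a * e * a⁻¹ by group] at h2
  · rw [Rh, Solv.card_sup_of_disjoint_of_le_normalizer (hN i) (eq_bot_iff.2 fun x hx => by
      obtain ⟨j, rfl⟩ := (isOfFinOrder_iff_pow_eq_one.2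
        ⟨p, hp.out.pos, hp1⟩).mem_powers_iff_mem_zpowers.2 hx.2
      exact one j hx.1.1), C.Kh_eq_pre, C.card_pre, P1a.ker_pow h0 h1 hi, Nat.card_zpowers,
      orderOf_eq_prime hp1 fun e1 => hq (e1 ▸ Q.one_mem), ← pow_succ]
  · rw [← C.pre_im hB hz, C.card_pre] at hc
    have h2 : finrank (ZMod p) (C.im B hB) = i :=
      Nat.succ_injective (Nat.pow_right_injective hp.out.two_le hc)
    have h3 := P1a.le_ker ⟨_, h0⟩ (M := C.im B hB) (by
      rintro _ ⟨x, hx, rfl⟩
      exact ⟨_, mul_mem (hBe x hx) (inv_mem hx), C.ν_comm he (hB hx)⟩)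
    rw [h2] at h3
    rw [← C.pre_im hB hz, C.Kh_eq_pre,
      Submodule.eq_of_le_of_finrank_le h3 (by rw [h2, P1a.ker_pow h0 h1 hi])]

end Co

end Cfsg.Lib.XS
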