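import Cfsg.Agent.XS.Bas
import Mathlib.FieldTheory.Finite.Basic

/-! The torus of a pearl: extension to `S` and weights. -/

set_option autoImplicit false

universe u

namespace Cfsg.Lib.XS

open Cfsg Cfsg.FusionSystem Cfsg.Lib.Fus Module Subgroup Equiv

variable {p : ℕ} [hp : Fact p.Prime] {Ω : Type u} [Group Ω] {S Q : Subgroup Ω} {W : Type}
  [AddCommGroup W] [Module (ZMod p) W]

theorem Co.Pl.Rh_zero {C : Co p S Q W} {e : Ω} (h : C.Pl e) : C.Rh e 0 = CS S e := by
  refine le_antisymm (sup_le (fun a ha => ?_) (zpowers_le.2 (self_mem_CS h.mem))) fun x hx => ?_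
  · obtain ⟨r, rfl⟩ := C.mem_Kh_zero.1 ha
    exact C.ζ_mem_CS h.mem r
  · obtain ⟨a, ha, i, -, rfl⟩ := C.gen h.mem h.out (CS_le hx)
    have h1 := (mul_mem_cancel_right (Subgroup.pow_mem _ (self_mem_CS h.mem) i)).1 hx
    exact mul_mem (mem_sup_left (C.mem_Kh_zero.2 (C.ν_ker a ha (h.cen a ha (mem_CS.1 h1).2.symm))))
      (mem_sup_right (Subgroup.pow_mem _ (mem_zpowers e) i))

theorem wP2 (C : Co p S Q W) {F : FusionSystem S} (hU : WUp F) (ha : C.WP1a) (hb : C.WP1b F) :
    C.WP2 F := by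
  intro hq e pl hz hfn τ m hτ hm
  obtain ⟨h1, -, h3, h4⟩ := ha e pl.mem pl.out pl.pow pl.one
  have key : ∀ i ≤ finrank (ZMod p) W, ∃ g : Perm Ω, PIso F g (C.Rh e i) (C.Rh e i) ∧
      ∀ x ∈ CS S e, g x = τ x := fun i hi => by
    induction i with
    | zero => exact ⟨τ, pl.Rh_zero ▸ hτ, fun _ _ => rfl⟩
    | succ i ih =>
      obtain ⟨g, hg, hgτ⟩ := ih (by omega)
      have hfi : F.IsFullyNormalized (C.Rh e i) ∧ ∀ j ≤ i, ∀ x ∈ C.Kh e j, g x ∈ C.Kh e j := by
        rcases Nat.eq_zero_or_pos i with rfl | h0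
        · refine ⟨pl.Rh_zero ▸ hfn, fun j hj x hx => ?_⟩
          obtain rfl : j = 0 := by omega
          obtain ⟨r, rfl⟩ := C.mem_Kh_zero.1 hx
          rw [hgτ _ (C.ζ_mem_CS pl.mem r), hm]
          exact C.ζ_mem_Kh _ _
        · exact ⟨(hb hq e pl hz i h0 hi).1, (hb hq e pl hz i h0 hi).2 g hg⟩
      let c : ℕ → Subgroup Ω := fun j => match j with
        | 0 => ⊥
        | j + 1 => if j ≤ i then C.Kh e j else C.Rh e i
      have c1 : ∀ j ≤ i, c (j + 1) = C.Kh e j := fun j hj => if_pos hj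
      have c2 : c (i + 2) = C.Rh e i := if_neg (by omega)
      obtain ⟨k, hk, hkg⟩ := hU (C.Rh e i) g (i + 2) c hfi.1 hg rfl c2
        (fun j hj => by
          rcases j with _ | j
          · exact bot_le
          · rw [c1 j (by omega)]
            rcases Nat.lt_or_ge j i with h | h
            · rw [c1 (j + 1) h]; exact C.Kh_mono e (Nat.le_succ j)
            · obtain rfl : j = i := by omega
              rw [c2]; exact le_sup_left)
        (fun j hj x hx => by
          rcases j with _ | j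
          · rw [mem_bot.1 hx, hg.mor.map_one]; exact one_mem _
          · rcases Nat.lt_or_ge i j with h | h
            · obtain rfl : j = i + 1 := by omega
              rw [c2] at hx ⊢; exact hg.maps hx
            · rw [c1 j h] at hx ⊢; exact hfi.2 j h x hx)
        (fun j hj s hs x hx => by
          rcases j with _ | j
          · rw [c1 0 (by omega)] at hx
            obtain ⟨r, rfl⟩ := C.mem_Kh_zero.1 hx
            rw [C.conj_ζ hs.1, mul_inv_cancel]; exact one_mem _
          · rw [c1 j (by omega)]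
            rcases Nat.lt_or_ge j i with h | h
            · rw [c1 (j + 1) h] at hx; exact C.comm_mem_Kh pl.mem pl.out hs.1 hx
            · obtain rfl : j = i := by omega
              rw [c2] at hx
              rw [← (h4 j (by omega)).2.1]
              exact ⟨Subgroup.mul_mem _ (conj_mem_of_mem_normalizerIn hs hx) (Subgroup.inv_mem _ hx),
                C.comm_mem hs.1 (C.Rh_le pl.mem j hx)⟩)
      rw [h3 i hi] at hk
      refine ⟨k, hk, fun x hx => (hkg x ?_).trans (hgτ x hx)⟩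
      rw [← pl.Rh_zero] at hx
      exact sup_le_sup_right (C.Kh_mono e (Nat.zero_le i)) _ hx
  have := key _ le_rfl
  rwa [h1] at this

theorem P2a.dvd_of_pow {n : ℕ} (h : ∀ l : ZMod p, l ≠ 0 → l ^ n = 1) : p - 1 ∣ n := by
  obtain ⟨g, hg⟩ := IsCyclic.exists_generator (α := (ZMod p)ˣ)
  rw [← ZMod.card_units p, ← Nat.card_eq_fintype_card, ← orderOf_eq_card_of_forall_mem_zpowers hg]
  exact orderOf_dvd_of_pow_eq_one (Units.ext (by simpa using h g g.ne_zero))

theorem wP3 [Finite W] (C : Co p S Q W) {F : FusionSystem S} (hC : C.WChar F)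
    (hL : ∀ e, LP3 C.ω (C.u e)) : C.WP3 F := by
  intro e pl hτ
  have sy := C.sy pl.mem
  have h4 := C.dim
  have hr := (C.u e - 1).finrank_range_add_finrank_ker
  rw [pl.one] at hr
  have key : ∀ l : ZMod p, l ≠ 0 → l ^ (finrank (ZMod p) W + 2) = 1 ∧
      (C.π ≠ 0 → l ^ finrank (ZMod p) W = 1) := fun l hl => by
    obtain ⟨g, hg, hgz, hge⟩ := hτ l hl
    obtain ⟨h, μ, I⟩ := hC e pl.mem pl.out (by omega) g hg
    obtain rfl : μ = l⁻¹ := by simpa using C.ζ_injective ((I.ζ 1).symm.trans (hgz 1))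
    have hu : ∀ w, h (C.u e w) = (C.u e ^ l.val) (h w) := fun w => by
      rw [I.u e pl.mem, hge, C.u_pow pl.mem]
    refine hL e sy pl.one C.π h l hl (C.π_f pl.mem) hu I.ω I.π fun w hw => ?_
    rcases eq_or_ne w 0 with rfl | w0
    · simp
    obtain ⟨y, hy, rfl⟩ := C.ν_surj w
    obtain ⟨c, hc⟩ := C.ν_ker _ (C.comm_mem pl.mem (C.le hy)) (by rw [C.ν_comm pl.mem hy, hw])
    rw [mul_inv_eq_iff_eq_mul] at hc
    have c0 : c ≠ 0 := by
      rintro rfl
      rw [C.ζ_zero, one_mul, mul_inv_eq_iff_eq_mul] at hc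
      exact w0 (pl.cen y hy hc)
    have hn : ∀ n : ℕ, e ^ n * y * (e ^ n)⁻¹ = C.ζ (n * c) * y := fun n => by
      induction n with
      | zero => simp [C.ζ_zero]
      | succ n ih =>
        have : e ^ (n + 1) * y * (e ^ (n + 1))⁻¹ = e * (e ^ n * y * (e ^ n)⁻¹) * e⁻¹ := by group
        rw [this, ih, ← conj_mul, C.conj_ζ pl.mem, hc, ← mul_assoc, ← C.ζ_add, Nat.cast_succ,
          add_mul, one_mul]
    have el : e ^ l.val ∉ Q := fun h => hl ((ZMod.val_eq_zero l).1
      (Nat.eq_zero_of_dvd_of_lt ((C.pow_mem_iff pl.mem pl.out).1 h) (ZMod.val_lt l)))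
    have hk : (C.u e - 1) (h (C.ν y)) = 0 := C.f_eq_zero (S.pow_mem pl.mem l.val) el pl.mem (by
      rw [C.u_pow pl.mem, sub_one_apply, ← hu, ← map_sub, ← sub_one_apply, hw, map_zero])
    obtain ⟨α, hα⟩ := (finrank_eq_one_iff_of_nonzero' (⟨_, hw⟩ : LinearMap.ker (C.u e - 1))
      (fun h => w0 (congrArg Subtype.val h))).1 pl.one ⟨_, hk⟩
    have hα' : α • C.ν y = h (C.ν y) := congrArg Subtype.val hα
    obtain ⟨r, hr⟩ := C.ν_eq (I.mem y hy) (Q.pow_mem hy α.val)
      (by rw [I.ν y hy, C.ν_pow_val hy, hα'])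
    have h1 := congrArg g hc
    rw [hg.map_conj pl.mem (C.le hy), hg.map_mul (C.ζ_memS c) (C.le hy), hge, hgz, hr, ← conj_mul,
      C.conj_ζ (S.pow_mem pl.mem _), ← conj_pow, hn, (C.commute_ζ (C.le hy) _).symm.mul_pow,
      C.ζ_pow, mul_assoc, mul_left_inj, ZMod.natCast_zmod_val, ZMod.natCast_zmod_val] at h1
    have h2 := C.ζ_injective h1
    rw [← hα']
    congr 1
    field_simp at h2 ⊢
    linear_combination h2
  have h5 := P2a.dvd_of_pow fun l hl => (key l hl).1
  have h6 := finrank_ker_pow_le (C.u e - 1) p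
  rw [sy.nil, LinearMap.ker_zero, finrank_top, pl.one] at h6
  have h7 : finrank (ZMod p) W + 3 = p := by
    have h8 : p ≠ 4 := fun e => absurd (e ▸ hp.out) (by decide)
    obtain ⟨k, hk⟩ := h5
    obtain ⟨q, rfl⟩ : ∃ q, p = q + 1 := ⟨p - 1, by omega⟩
    rw [Nat.add_sub_cancel] at hk
    rcases k with _ | _ | k
    · omega
    · omega
    · have : q * (k + 1 + 1) = q * k + 2 * q := by ring
      omega
  refine ⟨h7, by_contra fun h0 => ?_⟩
  have h9 := Nat.le_of_dvd (by omega) (P2a.dvd_of_pow fun l hl => (key l hl).2 h0)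
  omega

end Cfsg.Lib.XS
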