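import Cfsg.Agent.XS.Bas
import Cfsg.Agent.Solv.Regular

/-! The class and the exponent for one Jordan block. -/

set_option autoImplicit false

universe u

namespace Cfsg.Lib.XS

open Cfsg Cfsg.FusionSystem Cfsg.Lib.Fus Module Subgroup Equiv
open scoped commutatorElement

variable {p : ℕ} [hp : Fact p.Prime] {Ω : Type u} [Group Ω] {S Q : Subgroup Ω} {W : Type}
  [AddCommGroup W] [Module (ZMod p) W] (C : Co p S Q W) {e : Ω}

namespace Co

namespace P4

theorem lcs_le [Finite W] (he : e ∈ S) (hq : e ∉ Q) (k : ℕ) : ∀ j, k + j + 1 = finrank (ZMod p) W →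
    S.lowerCentralSeries (k + 1) ≤ C.Kh e j := by
  induction k with
  | zero =>
    intro j hj
    refine commutator_le.2 fun s hs t ht => ⟨C.comm_mem hs ht, ?_⟩
    obtain ⟨a, ha, i, -, rfl⟩ := C.gen he hq hs
    obtain ⟨b, hb, l, -, rfl⟩ := C.gen he hq ht
    have hi := S.pow_mem he i
    have hl := S.pow_mem he l
    have h1 : ⁅a * e ^ i, b * e ^ l⁆ =
        a * (e ^ i * b * (e ^ i)⁻¹) * (e ^ l * a * (e ^ l)⁻¹)⁻¹ * b⁻¹ := by
      rw [commutatorElement_def]; group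
    have h2 := C.nrm _ hi b hb
    have h3 := Q.inv_mem (C.nrm _ hl a ha)
    have h4 : ∀ s ∈ S, ∀ w, ((C.u e - 1) ^ j) ((C.u s - 1) w) = 0 := fun s hs w =>
      C.pow_f_comm he hq hs (by rw [← zero_add j, hj, (C.sy he).nilp]; rfl)
    rw [h1, C.ν_mul _ (mul_mem (mul_mem ha h2) h3) _ (Q.inv_mem hb), C.ν_mul _ (mul_mem ha h2) _ h3,
      C.ν_mul _ ha _ h2, C.ν_inv hb, C.ν_inv (C.nrm _ hl a ha), C.conj _ hi b hb, C.conj _ hl a ha,
      show ∀ x y z w : W, x + y + -z + -w = (y - w) - (z - x) from fun _ _ _ _ => by abel,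
      ← sub_one_apply, ← sub_one_apply, map_sub, h4 _ hi, h4 _ hl, sub_zero]
  | succ k ih =>
    intro j hj
    refine commutator_le.2 fun a ha s hs => ?_
    rw [← commutatorElement_inv]
    exact (C.Kh e j).inv_mem (C.comm_mem_Kh he hq hs (ih (j + 1) (by omega) ha))

include C in
theorem lcs_bot [Finite W] (he : e ∈ S) (hq : e ∉ Q) :
    S.lowerCentralSeries (finrank (ZMod p) W + 1) = ⊥ := by
  have h := C.dim
  refine le_bot_iff.1 (commutator_le.2 fun a ha s hs => ?_)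
  rw [show finrank (ZMod p) W = finrank (ZMod p) W - 1 + 1 by omega] at ha
  obtain ⟨r, rfl⟩ := C.mem_Kh_zero.1 (lcs_le C he hq _ 0 (by omega) ha)
  exact commutatorElement_eq_one_iff_mul_comm.2 (C.ζ_cen s hs r).symm

theorem exists_lcs (he : e ∈ S) (w : W) (k : ℕ) :
    ∃ a ∈ S.lowerCentralSeries k, a ∈ Q ∧ C.ν a = ((C.u e - 1) ^ k) w := by
  induction k with
  | zero => obtain ⟨a, ha, h⟩ := C.ν_surj w; exact ⟨a, C.le ha, ha, h⟩
  | succ k ih =>
    obtain ⟨a, h1, h2, h3⟩ := ih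
    refine ⟨⁅e, a⁆, ?_, C.comm_mem he (C.le h2), ?_⟩
    · rw [Subgroup.lowerCentralSeries_succ, commutator_comm]; exact commutator_mem_commutator he h1
    · rw [commutatorElement_def, C.ν_comm he h2, h3, pow_succ']; rfl

theorem lcs_ne [Finite W] (he : e ∈ S) (h : finrank (ZMod p) (LinearMap.ker (C.u e - 1)) = 1) :
    S.lowerCentralSeries (finrank (ZMod p) W) ≠ ⊥ := fun h0 => by
  have h1 := C.dim
  have h2 := finrank_ker_pow_le (C.u e - 1) (finrank (ZMod p) W - 1)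
  have h3 : LinearMap.ker ((C.u e - 1) ^ (finrank (ZMod p) W - 1)) = ⊤ := eq_top_iff.2 fun w _ => by
    obtain ⟨a, ha, ha', e1⟩ := exists_lcs C he w (finrank (ZMod p) W - 1)
    refine C.nd _ fun v => C.ζ_inj _ ?_
    obtain ⟨b, hb, rfl⟩ := C.ν_surj v
    have h4 : ⁅a, b⁆ ∈ S.lowerCentralSeries (finrank (ZMod p) W - 1 + 1) :=
      commutator_mem_commutator ha (C.le hb)
    rw [Nat.sub_add_cancel (by omega), h0] at h4
    rw [← e1, ← C.comm_Q ha' hb]
    exact h4
  rw [h3, finrank_top, h] at h2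
  omega

theorem lcs_iff [Group.IsNilpotent S] {n : ℕ} :
    S.lowerCentralSeries n = ⊥ ↔ Group.nilpotencyClass S ≤ n := by
  rw [← top_subtype_lowerCentralSeries, map_eq_bot_iff_of_injective _ S.subtype_injective,
    Subgroup.lowerCentralSeries_eq_bot_iff_nilpotencyClass_le]

end P4

open P4 in
theorem wP4 [Finite S] [Finite W] [Group.IsNilpotent S] : C.WP4 := fun e he hq h => by
  have h1 := lcs_iff.1 (lcs_bot C he hq)
  refine ⟨h1.antisymm (not_le.1 fun h2 => lcs_ne C he h (lcs_iff.2 h2)), fun h2 h3 h4 x hx => ?_⟩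
  have h5 : Solv.Reg p S := Solv.reg_of_lowerCentralSeries_eq_bot hp.out
    (Subgroup.lowerCentralSeries_eq_bot_iff_nilpotencyClass_le.2 (by omega))
  obtain ⟨a, ha, i, -, rfl⟩ := C.gen he hq hx
  have h6 := Solv.Reg.mul_pow_eq_one C.pgrp h5 (k := 1) (x := ⟨a, C.le ha⟩)
    (y := ⟨e ^ i, S.pow_mem he i⟩)
    (Subtype.ext (by simpa using (C.pow_eq_one ha).2 (by rw [h3]; rfl)))
    (Subtype.ext (show (e ^ i) ^ p ^ 1 = 1 by rw [pow_one, pow_right_comm, h4, one_pow]))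
  simpa using congrArg Subtype.val h6

end Co

end Cfsg.Lib.XS
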