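import Cfsg.Agent.XS.Bas

/-! An element of `Q` outside the centre that is conjugate into the centre. -/

set_option autoImplicit false

universe u

namespace Cfsg.Lib.XS

open Cfsg Cfsg.FusionSystem Cfsg.Lib.Fus Module Subgroup Equiv

variable {p : ℕ} [hp : Fact p.Prime] {Ω : Type u} [Group Ω] {S Q : Subgroup Ω} {W : Type}
  [AddCommGroup W] [Module (ZMod p) W]

namespace Co

theorem wQ1 [Finite W] (C : Co p S Q W) {F : FusionSystem S} : C.WQ1 F := by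
  intro l ψ t hl hν hψ e1
  have hz : ∀ s, C.ζ s ∈ CS S l := C.ζ_mem_CS (C.le hl)
  have hl' : l ∈ CS S l := self_mem_CS (C.le hl)
  have ht : t ≠ 0 := fun e => hν (by
    rw [(hψ.eq_one_iff hl').1 (by rw [e1, e, C.ζ_zero]), C.ν_one])
  have key : ∀ s r, ψ (C.ζ s) = C.ζ r → s = 0 := fun s r h => by
    have h1 : C.ζ s = l ^ (r / t).val := hψ.injOn (hz s) (Subgroup.pow_mem _ hl' _) (by
      rw [hψ.map_pow hl', e1, C.ζ_pow, ZMod.natCast_zmod_val, div_mul_cancel₀ _ ht, h])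
    have h2 := congrArg C.ν h1
    rw [C.ν_ζ, C.ν_pow_val hl, eq_comm, smul_eq_zero, or_iff_left hν] at h2
    exact C.ζ_inj s (by rw [h1, h2, ZMod.val_zero, pow_zero])
  have hc : ∀ a ∈ CS S l, ∀ b ∈ CS S l, a ∈ Q → b ∈ Q →
      ψ (C.ζ (C.ω (C.ν a) (C.ν b))) = ψ a * ψ b * (ψ a)⁻¹ * (ψ b)⁻¹ := fun a ha b hb ha' hb' => by
    rw [← C.comm_Q ha' hb', hψ.map_mul (mul_mem (mul_mem ha hb) (inv_mem ha)) (inv_mem hb),
      hψ.map_conj ha hb, hψ.map_inv hb]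
  have hd := finrank_perp C.nd (Submodule.span (ZMod p) {C.ν l})
  rw [finrank_span_singleton hν] at hd
  have d4 := C.dim
  have hP : ∀ v ∈ perp C.ω (Submodule.span (ZMod p) {C.ν l}), ∃ a ∈ CS S l, a ∈ Q ∧ C.ν a = v :=
    fun v hv => by
      obtain ⟨a, ha, rfl⟩ := C.ν_surj v
      exact ⟨a, mem_CS.2 ⟨C.le ha, (C.comm_iff ha hl).2 (hv _ (Submodule.mem_span_singleton_self _))⟩,
        ha, rfl⟩
  have niso : ¬ ∀ a ∈ CS S l, ∀ b ∈ CS S l, a ∈ Q → b ∈ Q → C.ω (C.ν a) (C.ν b) = 0 := fun h => by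
    have := iso_dim_of_nd C.nd _ fun v hv w hw => by
      obtain ⟨a, ha, ha', rfl⟩ := hP v hv
      obtain ⟨b, hb, hb', rfl⟩ := hP w hw
      exact h a ha b hb ha' hb'
    omega
  have zQ : ψ (C.ζ 1) ∈ Q := by
    by_contra hn
    refine niso fun a ha b hb ha' hb' => ?_
    have h1 := C.comm_mem (hψ.maps ha) (hψ.maps hb)
    rw [← hc a ha b hb ha' hb', C.ζ_eq_pow, hψ.map_pow (hz 1), C.pow_mem_iff (hψ.maps (hz 1)) hn,
      ← ZMod.natCast_eq_zero_iff, ZMod.natCast_zmod_val] at h1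
    exact h1
  let R : Subgroup Ω :=
    { carrier := {a | a ∈ CS S l ∧ a ∈ Q ∧ ψ a ∈ Q}
      one_mem' := ⟨one_mem _, one_mem _, by rw [hψ.map_one]; exact one_mem _⟩
      mul_mem' := fun ha hb => ⟨mul_mem ha.1 hb.1, mul_mem ha.2.1 hb.2.1,
        hψ.map_mul ha.1 hb.1 ▸ mul_mem ha.2.2 hb.2.2⟩
      inv_mem' := fun ha => ⟨inv_mem ha.1, inv_mem ha.2.1, hψ.map_inv ha.1 ▸ inv_mem ha.2.2⟩ }
  have ab : ∀ a ∈ R, ∀ b ∈ R, C.ω (C.ν a) (C.ν b) = 0 := fun a ha b hb =>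
    key _ _ ((hc a ha.1 b hb.1 ha.2.1 hb.2.1).trans (C.comm_Q ha.2.2 hb.2.2))
  obtain ⟨c, c1, c2, c3⟩ : ∃ c ∈ CS S l, c ∈ Q ∧ ψ c ∉ Q := by
    by_contra! h
    exact niso fun a ha b hb ha' hb' => ab a ⟨ha, ha', h a ha ha'⟩ b ⟨hb, hb', h b hb hb'⟩
  have dec : ∀ a ∈ CS S l, a ∈ Q → ∃ r ∈ R, ∃ k : ZMod p, C.ν a = C.ν r + k • C.ν c :=
    fun a ha ha' => by
      obtain ⟨b, hb, i, -, e⟩ := C.gen (hψ.maps c1) c3 (hψ.maps ha)
      have h1 := Subgroup.pow_mem _ c1 i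
      have h2 := Q.pow_mem c2 i
      refine ⟨a * (c ^ i)⁻¹, ⟨mul_mem ha (inv_mem h1), mul_mem ha' (inv_mem h2), ?_⟩, i, ?_⟩
      · rwa [hψ.map_mul ha (inv_mem h1), hψ.map_inv h1, hψ.map_pow c1, e, mul_inv_cancel_right]
      · rw [C.ν_mul _ ha' _ (inv_mem h2), C.ν_inv h2, C.ν_pow c2, neg_add_cancel_right]
  have hR : R ≤ Q := fun _ h => h.2.1
  obtain ⟨r, hr, r1⟩ : ∃ r ∈ R, C.ω (C.ν c) (C.ν r) = 1 := by
    by_contra! h
    have h0 : ∀ r ∈ R, C.ω (C.ν c) (C.ν r) = 0 := fun r hr => by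
      by_contra hn
      exact h _ (R.pow_mem hr (C.ω (C.ν c) (C.ν r))⁻¹.val) (by
        rw [C.ν_pow_val (hR hr), map_smul, smul_eq_mul, inv_mul_cancel₀ hn])
    refine niso fun a ha b hb ha' hb' => ?_
    obtain ⟨r, hr, k, e⟩ := dec a ha ha'
    obtain ⟨r', hr', k', e'⟩ := dec b hb hb'
    simp [e, e', ab r hr r' hr', C.alt, h0 r' hr', C.skew (C.ν r) (C.ν c), h0 r hr]
  refine ⟨?_, ⟨zQ, fun e => ?_, ψ c, hψ.maps c1, c3, ?_, C.ν (ψ r), ?_, ?_⟩, c, c2,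
    (mem_CS.1 c1).2, c3⟩
  · have h1 := iso_dim_of_nd C.nd (C.im R hR) (by
      rintro _ ⟨a, ha, rfl⟩ _ ⟨b, hb, rfl⟩
      exact ab a ha b hb)
    have h2 := Submodule.finrank_mono (show perp C.ω (Submodule.span (ZMod p) {C.ν l}) ≤
      C.im R hR ⊔ Submodule.span (ZMod p) {C.ν c} from fun v hv => by
        obtain ⟨a, ha, ha', rfl⟩ := hP v hv
        obtain ⟨r, hr, k, e⟩ := dec a ha ha'
        exact e ▸ Submodule.add_mem_sup ⟨r, hr, rfl⟩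
          (Submodule.smul_mem _ _ (Submodule.mem_span_singleton_self _)))
    have h3 := Submodule.finrank_add_le_finrank_add_finrank (C.im R hR)
      (Submodule.span (ZMod p) {C.ν c})
    have h4 := finrank_span_le_card (R := ZMod p) ({C.ν c} : Set W)
    rw [Set.toFinset_singleton, Finset.card_singleton] at h4
    omega
  · obtain ⟨s, hs⟩ := C.ν_ker _ zQ e
    exact one_ne_zero (key 1 s hs)
  · rw [← hψ.map_mul c1 (hz 1), ← hψ.map_mul (hz 1) c1, C.ζ_cen c (C.le c2)]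
  · rw [← C.ν_comm (hψ.maps c1) hr.2.2, ← hc c c1 r hr.1 c2 hr.2.1, r1]
  · refine (C.comm_iff hr.2.2 zQ).1 ?_
    rw [← hψ.map_mul hr.1 (hz 1), ← hψ.map_mul (hz 1) hr.1, C.ζ_cen r (C.le hr.2.1)]

end Co

end Cfsg.Lib.XS
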