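import Cfsg.Agent.XS.Bas

/-! An element of `Q` conjugate into the centre: assembly. -/

set_option autoImplicit false

universe u

namespace Cfsg.Lib.XS

open Cfsg Cfsg.FusionSystem Cfsg.Lib.Fus Module Subgroup Equiv

variable {p : ℕ} [hp : Fact p.Prime] {Ω : Type u} [Group Ω] {S Q : Subgroup Ω} {W : Type}
  [AddCommGroup W] [Module (ZMod p) W] (C : Co p S Q W) {F : FusionSystem S}

theorem QG.mult {f : End (ZMod p) W} (h : finrank (ZMod p) (LinearMap.ker f) = 1) {v w : W} (v0 : v ≠ 0)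
    (hv : f v = 0) (hw : f w = 0) : ∃ c : ZMod p, c • v = w :=
  ((finrank_eq_one_iff_of_nonzero' (⟨v, hv⟩ : LinearMap.ker f) fun e => v0 (congrArg Subtype.val e)).1 h
    ⟨w, hw⟩).imp fun _ => congrArg Subtype.val

theorem Co.wQ [Finite S] [Finite W] (hF : F.IsSaturated p) (h1 : C.WQ1 F) (hJ : ∀ e, LJor C.ω (C.u e))
    (hE : C.WExp F) (hC : C.WChar F) (hV : C.WV F) : C.WQ F := by
  intro hN
  simp only [Co.NQ, not_forall] at hN
  obtain ⟨l0, hl0, hz0, n0⟩ := hN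
  obtain ⟨ψ0, t0, hψ0, e0⟩ := hz0.ext hF
  obtain ⟨d4, sp, -⟩ := h1 l0 ψ0 t0 hl0 n0 hψ0 e0
  have hz : C.Zc F (ψ0 (C.ζ 1)) := (Co.zc_iff hψ0 (C.ζ_mem_CS (C.le hl0) 1)).2 (Co.zc_ζ 1)
  generalize ψ0 (C.ζ 1) = l at sp hz
  obtain ⟨ψ, t, hψ, e1⟩ := hz.ext hF
  obtain ⟨-, sp2, c, hc, cl, cq⟩ := h1 l ψ t sp.1 sp.2.1 hψ e1
  obtain ⟨hl, l0, e, he, hq, el, b, hb, hb'⟩ := id sp
  obtain ⟨hl2, l2, e', he', hq', el', -⟩ := id sp2
  have fl := C.f_of_comm he hl el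
  have hr := (C.u e - 1).finrank_range_add_finrank_ker
  have L : (∃ i : ZMod p, i • C.ν l = C.ν (ψ (C.ζ 1))) → (∀ w, C.ω w (C.ν l) = 0 → C.π w = 0) →
      finrank (ZMod p) (LinearMap.ker (C.u e - 1)) ≤ 2 → C.π = 0 := by
    rintro ⟨i, hi⟩ hπ hk
    obtain ⟨g, hg, g1, g2⟩ := hE l ψ t hl l0 ⟨e, he, hq, el⟩ hψ e1
      ⟨i.val, C.ν_eq hl2 (Q.pow_mem hl _) (by rw [C.ν_pow_val hl, hi])⟩
    obtain ⟨h, μ, I⟩ := hC e he hq (by omega) g hg
    obtain rfl : μ = -1 := by simpa using C.ζ_injective ((I.ζ 1).symm.trans (g2 1))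
    have h2 : h (C.ν l) = -C.ν l := by rw [← I.ν l hl, g1, C.ν_inv hl]
    ext x
    have h3 := I.ω x (C.ν l)
    have h4 := hπ (h x - x) (by
      rw [h2, map_neg] at h3
      rw [map_sub, LinearMap.sub_apply]; linear_combination -h3)
    rw [map_sub, I.π] at h4
    exact mul_left_cancel₀ C.two (by rw [LinearMap.zero_apply]; linear_combination -h4)
  rcases hJ e (C.sy he) d4 b (hb ▸ l0) (hb ▸ fl) (hb ▸ hb') with T | T
  · have hk := T.finrank_ker (C.sy he)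
    have hπ := L (QG.mult hk l0 fl (C.f_eq_zero he' hq' he (C.f_of_comm he' hl2 el'))) (fun w hw => by
      obtain ⟨x, rfl⟩ := (C.sy he).mem_range (v := w) fun v hv => by
        obtain ⟨j, rfl⟩ := QG.mult hk l0 fl hv
        rw [map_smul, hw, smul_zero]
      exact C.π_f he x) (by omega)
    have cP : c ∈ CS S l := mem_CS.2 ⟨C.le hc, cl⟩
    have zP := C.ζ_mem_CS (C.le hl) 1
    have cS := hψ.maps cP
    have T' := C.t4 he cS cq T
    have c2 : Commute (ψ c) (ψ (C.ζ 1)) := by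
      rw [Commute, SemiconjBy, ← hψ.map_mul cP zP, C.ζ_cen c (C.le hc), hψ.map_mul zP cP]
    refine ⟨ψ c, cS, cq, by rw [← hψ.map_pow cP, (C.pow_eq_one hc).2 (by rw [hπ]; rfl), hψ.map_one], hπ,
      fun a ha h => ?_, .inl T'⟩
    obtain ⟨j, hj⟩ := QG.mult (T'.finrank_ker (C.sy cS)) l2 (C.f_of_comm cS hl2 c2) h
    obtain ⟨r, rfl⟩ := C.ν_eq ha (Q.pow_mem hl2 j.val) (by rw [C.ν_pow_val hl2, hj])
    exact (c2.pow_right _).mul_right (C.commute_ζ cS r)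
  · obtain ⟨⟨x, hx, xq, xp, xc⟩, p1, p2⟩ := hV l ψ t sp sp2 hψ e1 fun x hx xq => C.t22 he hq hx xq T
    refine ⟨x, hx, xq, xp, ?_, xc, .inr (C.t22 he hq hx xq T)⟩
    by_cases H : ∀ y, C.ω y (C.ν l) = 0 → C.ω y (C.ν (ψ (C.ζ 1))) = 0
    · obtain ⟨y, hy⟩ := not_forall.1 (mt (C.nd _) l0)
      rw [C.skew, neg_eq_zero] at hy
      refine L ⟨C.ω y (C.ν (ψ (C.ζ 1))) / C.ω y (C.ν l), sub_eq_zero.1 (C.nd _ fun w => ?_)⟩ p1 T.finrank_ker.le
      have := H (w - (C.ω w (C.ν l) / C.ω y (C.ν l)) • y) (by simp [div_mul_cancel₀ _ hy])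
      rw [C.skew]
      simp only [map_sub, map_smul, LinearMap.sub_apply, LinearMap.smul_apply, smul_eq_mul] at this ⊢
      linear_combination this
    · simp only [not_forall] at H
      obtain ⟨y, y1, y2⟩ := H
      ext w
      have := p2 (w - (C.ω w (C.ν (ψ (C.ζ 1))) / C.ω y (C.ν (ψ (C.ζ 1)))) • y) (by simp [div_mul_cancel₀ _ y2])
      simpa [p1 y y1] using this

end Cfsg.Lib.XS
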