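import Cfsg.Agent.XS.Bas

/-! The unitary configuration. -/

set_option autoImplicit false

universe u

namespace Cfsg.Lib.XS

open Cfsg Cfsg.FusionSystem Cfsg.Lib.Fus Module Subgroup Equiv

variable {p : ℕ} [hp : Fact p.Prime] {Ω : Type u} [Group Ω] {S Q : Subgroup Ω} {W : Type}
  [AddCommGroup W] [Module (ZMod p) W] [Finite W]

theorem wR2 [Finite S] (C : Co p S Q W) {F : FusionSystem S} (hF : F.IsSaturated p)
    (h : ∀ (A : Submodule (ZMod p) W) (Γ : Subgroup (VV p A ≃ₗ[ZMod p] VV p A)), LR2 Γ)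
    (hC : C.WChar F) : C.WR2 F := by
  intro e g hn A X kp ls hA ht hκ
  have sy := C.sy hn.mem
  have two := C.two
  have hr : A = LinearMap.range (C.u e - 1) := hA.trans ht.ker_eq
  have mem : ∀ w, (C.u e - 1) w ∈ A := fun w => hr ▸ ⟨w, rfl⟩
  have memk : ∀ d : A, (C.u e - 1) d = 0 := fun d => kp.ker d d.2
  obtain ⟨sg, hsg⟩ := ((C.u e - 1).codRestrict A mem).exists_rightInverse_of_surjective
    (LinearMap.range_eq_top.2 fun d => by
      obtain ⟨w, hw⟩ : (d : W) ∈ LinearMap.range (C.u e - 1) := hr ▸ d.2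
      exact ⟨w, Subtype.ext hw⟩)
  have fs : ∀ b : A, (C.u e - 1) (sg b) = b := fun b =>
    congrArg Subtype.val (LinearMap.congr_fun hsg b)
  let B : BF p A := (-C.ω).compl₁₂ sg A.subtype
  have hB : ∀ b d : A, B b d = -C.ω (sg b) d := fun _ _ => rfl
  obtain ⟨k, ⟨k', hk, hkk⟩, μ, μ0, hμ⟩ := h A X.Gam ls (hA ▸ ht.finrank_ker) B
    (fun b d => by
      have h1 := sy.adj (sg b) (sg d)
      rw [fs, fs, kp.iso _ b.2 _ d.2, C.skew b] at h1
      rw [hB, hB]
      linear_combination -h1)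
    (fun d hd => by
      have h1 := (kp.zero (sg d) (mem _)).1 (by rw [hκ, fs, ← hB, hd, zero_div])
      exact Subtype.ext (by rw [← fs d]; exact kp.ker _ h1))
    (fun b => by
      obtain ⟨t, h1, h2⟩ := X.exists_t (mem (-sg b))
      refine ⟨t, h1, fun s d r => ?_⟩
      have h3 : (⟨(C.u e - 1) (-sg b), mem _⟩ : A) = -b := Subtype.ext (by
        simp only [map_neg, fs, Submodule.coe_neg])
      rw [h2, h3, hκ, hB, hB]
      simp only [map_neg, fs, LinearMap.neg_apply, neg_neg, smul_neg, sub_neg_eq_add])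
  have heE : e ∈ CS S e := self_mem_CS hn.mem
  have elE : ∀ v, X.el v ∈ CS S e := fun v => (X.el_mem _).2 ⟨v, rfl⟩
  have hx : S ≤ extd S (CS S e) k' := fun s hs => by
    obtain ⟨y, hy, i, -, rfl⟩ := C.gen hn.mem hn.out hs
    refine mul_mem ?_ (hk.mor.le_extd (pow_mem heE i))
    obtain ⟨y', hy', h1⟩ := C.ν_surj (-μ • C.ν y)
    refine mem_extd.2 ⟨C.le hy, (X.mem_normalizer hy (mem _)).2, y', C.le hy', fun x hx => ?_⟩
    obtain ⟨⟨s, d, r⟩, rfl⟩ := (X.el_mem x).1 hx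
    have h3 : (⟨(C.u e - 1) (C.ν y'), mem _⟩ : A) = -μ • ⟨(C.u e - 1) (C.ν y), mem _⟩ :=
      Subtype.ext (by simp only [h1, map_smul, Submodule.coe_smul])
    rw [X.conj y hy (mem _), hkk, hkk, hμ, hμ, X.conj y' hy' (mem _), h3, hκ, hκ, h1]
    congr 1
    simp only [map_smul, LinearMap.smul_apply, smul_eq_mul, smul_smul, Submodule.coe_neg, map_neg,
      Prod.mk.injEq, and_true]
    constructor
    · field_simp
    · rw [show μ⁻¹ * r * -μ = -r by field_simp, neg_smul, neg_sub, sub_neg_eq_add, neg_add_eq_sub]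
  obtain ⟨G, hG, hGk⟩ := hk.exists_ext_le (sat_receptive C.pgrp hF hn.fn) hx
  obtain ⟨h', μ', I⟩ := hC e hn.mem hn.out (by
    rw [← hr, hA, ht.finrank_ker]) G hG.piso_top
  obtain rfl : μ' = μ := by
    have h1 := I.ζ 1
    rw [← X.el_z 1, hGk _ (elE _), hkk, hμ, neg_zero, mul_zero, X.el_z] at h1
    simpa using (C.ζ_injective h1).symm
  have hd : ∀ d : A, h' d = -d := fun d => by
    rw [← X.el_ν 0 d, ← I.ν _ ((X.el_Q _).2 rfl), hGk _ (elE _), hkk, hμ, mul_zero μ'⁻¹, X.el_ν,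
      X.el_ν, Submodule.coe_neg]
  refine ⟨hn.mem, hn.out, hn.pow e heE, LinearMap.ext fun w => ?_,
    fun a ha h0 => (X.memA a ha).1 (hA ▸ h0), Or.inr ht⟩
  obtain ⟨x, hx⟩ := sy.mem_range (v := h' w + μ' • w) fun d hd' => by
    have h1 := I.ω w d
    rw [hd ⟨d, hA ▸ hd'⟩, map_neg] at h1
    rw [map_add, map_smul, LinearMap.add_apply, LinearMap.smul_apply, smul_eq_mul, ← h1,
      add_neg_cancel]
  have h2 := C.π_f hn.mem x
  rw [hx, map_add, I.π, map_smul, smul_eq_mul, ← two_mul, mul_eq_zero, mul_eq_zero] at h2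
  exact (h2.resolve_left two).resolve_left μ0

end Cfsg.Lib.XS
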