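import Cfsg.Agent.XS.Defs
import Cfsg.Agent.Fus.Alperin

/-! Extension of automorphisms stabilising a chain. -/

set_option autoImplicit false

universe u

namespace Cfsg.Lib.XS

open Cfsg Cfsg.FusionSystem Cfsg.Lib.Fus Subgroup Equiv

theorem wUp {Ω : Type u} [Group Ω] {S : Subgroup Ω} [Finite S] {p : ℕ} [Fact p.Prime] {F : FusionSystem S}
    (hS : IsPGroup p S) (hF : F.IsSaturated p) : WUp F := by
  intro R τ n c hR hτ c0 cn mono hτc hN
  have hRS := hτ.le_left
  have : Finite R := finite_of_le hRS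
  have cR : ∀ j ≤ n, c j ≤ R := fun j hj => by
    obtain ⟨d, rfl⟩ := Nat.exists_eq_add_of_le hj
    rw [← cn]
    clear cn hτc hN hj
    induction d with
    | zero => rfl
    | succ d ih => exact (ih fun k hk => mono k (by omega)).trans (mono _ (by omega))
  let M : Submonoid (MulAut R) :=
    { carrier := {α | ∀ j < n, ∀ x ∈ c (j + 1), pext R α x * x⁻¹ ∈ c j}
      one_mem' := fun j _ x _ => by simp
      mul_mem' := fun {α β} ha hb j hj x hx => by
        have h1 := hb j hj x hx
        have h2 := ha j hj _ (mul_mem (mono j hj h1) hx)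
        rw [inv_mul_cancel_right] at h2
        simpa [mul_assoc] using mul_mem h2 h1 }
  let H : Subgroup (MulAut R) :=
    ⟨M, fun {α} ha => Submonoid.powers_le.2 ha
      ((isOfFinOrder_of_finite α).mem_powers_iff_mem_zpowers.2 (inv_mem (mem_zpowers α)))⟩
  have hH : ∀ {α}, α ∈ H ↔ ∀ j < n, ∀ x ∈ c (j + 1), pext R α x * x⁻¹ ∈ c j := Iff.rfl
  obtain ⟨m, hm⟩ := IsPGroup.iff_card.1 hS
  have hp : IsPGroup p H := fun ⟨α, ha⟩ => by
    have key : ∀ j ≤ n, ∃ a, ∀ x ∈ c j, pext R (α ^ p ^ a) x = x := by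
      intro j hj
      induction j with
      | zero => exact ⟨0, fun x hx => by rw [c0, mem_bot] at hx; rw [hx, (mulOn_pext _).map_one]⟩
      | succ j ih =>
        obtain ⟨a, h1⟩ := ih (by omega)
        refine ⟨a + m, fun x hx => ?_⟩
        have h2 := hH.1 (pow_mem ha (p ^ a)) j hj x hx
        rw [pow_add, pow_mul]
        generalize α ^ p ^ a = β at h1 h2
        have h3 : ∀ k, pext R (β ^ k) x = (pext R β x * x⁻¹) ^ k * x := fun k => by
          induction k with
          | zero => simp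
          | succ k ih => rw [pow_succ', map_mul, Perm.mul_apply, ih, (mulOn_pext β).map_mul
              (cR j (by omega) (pow_mem h2 k)) (cR _ hj hx), h1 _ (pow_mem h2 k), pow_succ, mul_assoc,
              inv_mul_cancel_right]
        rw [h3, ← hm, show (pext R β x * x⁻¹) ^ Nat.card S = 1 from congrArg Subtype.val
          (pow_card_eq_one' (x := (⟨_, hRS (cR j (by omega) h2)⟩ : S))), one_mul]
    obtain ⟨a, h1⟩ := key n le_rfl
    exact ⟨a, Subtype.ext (aut_ext_pext fun x hx => by simpa using h1 x (cn ▸ hx))⟩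
  have hT := sat_sylIn hS hF hR
  have hTH : autInducedBy S R ≤ H := fun α ha => hH.2 fun j hj x hx => by
    obtain ⟨g, hg, e⟩ := mem_autInducedBy_pext.1 ha
    rw [e x (cR _ hj hx)]
    exact hN j hj g ⟨hg, mem_normalizer_of_pext e⟩ x hx
  have e1 := hT.max (H ⊓ F.autGroup R) (le_inf hTH hT.le) inf_le_right hp.to_inf_left
  have e2 : normalizerIn S R ≤ extd S R τ := fun a ha => by
    rw [← extd_congr fun x hx => hτ.pext_aut hx, mem_extd_pext_iff ha, ← e1]
    have h1 : conjAut R a ha.2 ∈ autInducedBy S R := mem_autInducedBy_pext.2 ⟨a, ha.1, fun x => pext_conjAut ha.2⟩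
    refine ⟨hH.2 fun j hj x hx => ?_, Subgroup.mul_mem _ (mul_mem hτ.aut_mem (hT.le h1))
      (Subgroup.inv_mem _ hτ.aut_mem)⟩
    have h2 := ((hτ.mor.restrict (cR _ hj)).piso_of_maps (hτc _ hj)).inv_maps hx
    have h3 := cR _ hj h2
    have h4 := (pext_mem_iff (conjAut R a ha.2) _).2 h3
    rw [← perm_apply_inv τ x, ← hτ.pext_aut h3, pext_conj_apply, hτ.pext_aut h3, hτ.pext_aut h4,
      ← hτ.mor.map_inv h3, ← hτ.map_mul h4 (inv_mem h3)]
    exact hτc j hj.le _ (hH.1 (hTH h1) j hj _ h2)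
  obtain ⟨g, hg, e⟩ := hτ.exists_ext_le (sat_receptive hS hF hR) e2
  exact ⟨g, hg.piso_of_maps ((hτ.congr fun x hx => (e x hx).symm).normalizer_maps hg), e⟩

end Cfsg.Lib.XS
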