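import Cfsg.Agent.XS.Bas
import Cfsg.Agent.S0120

/-! Two Jordan blocks: the abelian subgroup of order `p ^ 4`. -/

set_option autoImplicit false

universe u

namespace Cfsg.Lib.XS

open Cfsg Cfsg.FusionSystem Cfsg.Lib.Fus Module Subgroup Equiv
open scoped commutatorElement

variable {p : ℕ} [hp : Fact p.Prime] {Ω : Type u} [Group Ω] {S Q : Subgroup Ω} {W : Type}
  [AddCommGroup W] [Module (ZMod p) W] [Finite W] {C : Co p S Q W} {e l d a x y v w s : Ω}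

namespace V

/-- An element outside `Q` of type `(2,2)` centralising the preimage of its fixed space. -/
structure Ref (C : Co p S Q W) (e : Ω) : Prop where
  mem : e ∈ S
  out : e ∉ Q
  ty : T22 (C.u e)
  cen : C.Cen e

/-- Centralising the preimage of the fixed space. -/
def InV (C : Co p S Q W) (e v : Ω) : Prop :=
  v ∈ S ∧ ∀ a ∈ Q, (C.u e - 1) (C.ν a) = 0 → v * a = a * v

omit [Finite W] in
theorem InV.mul (hv : InV C e v) (hw : InV C e w) : InV C e (v * w) :=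
  ⟨S.mul_mem hv.1 hw.1, fun a ha h =>
    (Commute.mul_left (hv.2 a ha h) (hw.2 a ha h) : Commute (v * w) a)⟩

omit [Finite W] in
theorem InV.pow (hv : InV C e v) (n : ℕ) : InV C e (v ^ n) :=
  ⟨S.pow_mem hv.1 n, fun a ha h => (Commute.pow_left (hv.2 a ha h) n : Commute (v ^ n) a)⟩

omit [Finite W] in
theorem InV.inv (hv : InV C e v) : InV C e v⁻¹ :=
  ⟨S.inv_mem hv.1, fun a ha h => (Commute.inv_left (hv.2 a ha h) : Commute v⁻¹ a)⟩

namespace Ref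

variable (R : Ref C e)
include R

omit [Finite W] in
theorem smul (hs : s ∈ S) : ∃ j : ZMod p, C.u s - 1 = j • (C.u e - 1) := by
  obtain ⟨a, ha, i, -, rfl⟩ := C.gen R.mem R.out hs
  refine ⟨i, ?_⟩
  rw [C.u_Q_mul ha (S.pow_mem R.mem i), C.u_pow R.mem]
  clear hs
  induction i with
  | zero => simp
  | succ i ih =>
    have h2 : (C.u e - 1) * (C.u e - 1) = 0 := by rw [← pow_two, R.ty.2.1]
    have : C.u e ^ (i + 1) - 1 = (C.u e ^ i - 1) * (C.u e - 1) + (C.u e ^ i - 1) + (C.u e - 1) := by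
      rw [pow_succ]; noncomm_ring
    rw [this, ih, smul_mul_assoc, h2, smul_zero, zero_add, Nat.cast_succ, add_smul, one_smul]

omit [Finite W] in
theorem self : InV C e e := ⟨R.mem, R.cen⟩

omit [Finite W] in
theorem of_ker (ha : a ∈ Q) (h : (C.u e - 1) (C.ν a) = 0) : InV C e a :=
  ⟨C.le ha, fun b hb h' => (C.comm_iff ha hb).2 (by
    obtain ⟨c, hc⟩ := R.ty.2.2 _ h
    rw [← hc, (C.sy R.mem).perp h'])⟩

theorem ker (hv : InV C e v) (hq : v ∈ Q) : (C.u e - 1) (C.ν v) = 0 := by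
  obtain ⟨c, hc⟩ := (C.sy R.mem).mem_range (v := C.ν v) fun w hw => by
    obtain ⟨a, ha, rfl⟩ := C.ν_surj w
    exact (C.comm_iff hq ha).1 (hv.2 a ha hw)
  rw [← hc, R.ty.ff]

theorem dec (hv : InV C e v) : ∃ a ∈ Q, (C.u e - 1) (C.ν a) = 0 ∧ ∃ j : ℕ, v = a * e ^ j := by
  obtain ⟨a, ha, j, -, rfl⟩ := C.gen R.mem R.out hv.1
  exact ⟨a, ha, R.ker (by simpa using hv.mul (R.self.pow j).inv) ha, j, rfl⟩

theorem comm (hv : InV C e v) (hw : InV C e w) : Commute v w := by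
  obtain ⟨a, ha, h1, j, rfl⟩ := R.dec hv
  obtain ⟨b, hb, h2, k, rfl⟩ := R.dec hw
  have h3 : Commute e a := R.cen a ha h1
  have h4 : Commute e b := R.cen b hb h2
  have h5 : Commute a b := (R.of_ker ha h1).2 b hb h2
  exact (h5.mul_right (h3.symm.pow_right k)).mul_left
    ((h4.pow_left j).mul_right ((Commute.refl e).pow_pow j k))

omit [Finite W] in
theorem pow_ker (ha : a ∈ Q) (h : (C.u e - 1) (C.ν a) = 0) : a ^ p = 1 := by
  obtain ⟨c, hc⟩ := R.ty.2.2 _ h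
  rw [C.pow_eq_one ha, ← hc, C.π_f R.mem]

theorem pow (he : e ^ p = 1) (hv : InV C e v) : v ^ p = 1 := by
  obtain ⟨a, ha, h1, j, rfl⟩ := R.dec hv
  have h3 : Commute e a := R.cen a ha h1
  rw [(h3.symm.pow_right j).mul_pow, R.pow_ker ha h1, ← pow_mul, mul_comm, pow_mul, he, one_pow,
    one_mul]

end Ref

/-- A frame attached to a special element. -/
structure Fr (C : Co p S Q W) (e l d a : Ω) : Prop where
  lq : l ∈ Q
  l0 : C.ν l ≠ 0
  lk : (C.u e - 1) (C.ν l) = 0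
  dq : d ∈ Q
  df : (C.u e - 1) (C.ν d) = C.ν l
  dl : C.ω (C.ν d) (C.ν l) = 0
  aq : a ∈ Q
  ak : (C.u e - 1) (C.ν a) = 0
  da : C.ω (C.ν d) (C.ν a) = 1
  span : ∀ w, (C.u e - 1) w = 0 → ∃ α β : ZMod p, w = α • C.ν a + β • C.ν l

theorem Ref.exists_fr (R : Ref C e) (hl : C.Sp l) : ∃ d a, Fr C e l d a := by
  obtain ⟨lq, l0, e', he', -, -, b, hb, hbl⟩ := hl
  obtain ⟨j, hj⟩ := R.smul he'
  obtain ⟨d, dq, hd⟩ := C.ν_surj (j • b)
  have df : (C.u e - 1) (C.ν d) = C.ν l := by rw [hd, map_smul, ← hb, hj]; rfl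
  have dl : C.ω (C.ν d) (C.ν l) = 0 := by rw [hd, map_smul, LinearMap.smul_apply, hbl, smul_zero]
  have lk : (C.u e - 1) (C.ν l) = 0 := by rw [← df, R.ty.ff]
  obtain ⟨w, hw, h0⟩ : ∃ w, (C.u e - 1) w = 0 ∧ C.ω (C.ν d) w ≠ 0 := by
    by_contra! hc
    obtain ⟨c, hc⟩ := (C.sy R.mem).mem_range hc
    exact l0 (by rw [← df, ← hc, R.ty.ff])
  obtain ⟨a, aq, ha⟩ := C.ν_surj ((C.ω (C.ν d) w)⁻¹ • w)
  have ak : (C.u e - 1) (C.ν a) = 0 := by rw [ha, map_smul, hw, smul_zero]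
  have da : C.ω (C.ν d) (C.ν a) = 1 := by rw [ha, map_smul, smul_eq_mul, inv_mul_cancel₀ h0]
  refine ⟨d, a, lq, l0, lk, dq, df, dl, aq, ak, da, fun w hw => ?_⟩
  have hli : LinearIndependent (ZMod p) ![C.ν a, C.ν l] := by
    rw [LinearIndependent.pair_iff]
    intro α β h
    have h1 := congrArg (C.ω (C.ν d)) h
    simp only [map_add, map_smul, da, dl, smul_eq_mul, mul_one, mul_zero, add_zero, map_zero] at h1
    rw [h1, zero_smul, zero_add] at h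
    exact ⟨h1, (smul_eq_zero.1 h).resolve_right l0⟩
  have hle : Submodule.span (ZMod p) (Set.range ![C.ν a, C.ν l]) ≤ LinearMap.ker (C.u e - 1) := by
    rw [Submodule.span_le]
    rintro _ ⟨i, rfl⟩
    fin_cases i
    · exact ak
    · exact lk
  have he := Submodule.eq_of_le_of_finrank_le hle (by
    rw [finrank_span_eq_card hli, R.ty.finrank_ker]; rfl)
  have hm : w ∈ Submodule.span (ZMod p) (Set.range ![C.ν a, C.ν l]) := he ▸ hw
  rw [Matrix.range_cons, Matrix.range_cons, Matrix.range_empty, Set.union_empty,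
    Set.singleton_union, Submodule.mem_span_pair] at hm
  obtain ⟨α, β, h⟩ := hm
  exact ⟨α, β, h.symm⟩

namespace Fr

variable (R : Ref C e) (h : Fr C e l d a)
include R h

omit [Finite W] in
theorem chi (hs : s ∈ S) : ∃ c, s * a * s⁻¹ = C.ζ c * a := by
  obtain ⟨c, hc⟩ := C.ν_ker _ (C.comm_mem hs (C.le h.aq))
    (by rw [C.ν_comm hs h.aq, C.f_eq_zero R.mem R.out hs h.ak])
  exact ⟨c, by rw [← hc, inv_mul_cancel_right]⟩

omit [Finite W] R in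
theorem lift (hy : y ∈ Q) (hk : (C.u e - 1) (C.ν y) = 0) :
    ∃ (α β : ZMod p) (r : ZMod p), y = a ^ α.val * l ^ β.val * C.ζ r := by
  obtain ⟨α, β, h1⟩ := h.span _ hk
  obtain ⟨r, hr⟩ := C.ν_eq hy (Q.mul_mem (Q.pow_mem h.aq α.val) (Q.pow_mem h.lq β.val)) (by
    rw [C.ν_mul _ (Q.pow_mem h.aq _) _ (Q.pow_mem h.lq _), C.ν_pow_val h.aq, C.ν_pow_val h.lq, h1])
  exact ⟨α, β, r, hr⟩

omit [Finite W] R in
theorem inV (hx : x ∈ CS S l) (ha : x * a = a * x) : InV C e x := by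
  refine ⟨CS_le hx, fun y hy hk => ?_⟩
  obtain ⟨α, β, r, rfl⟩ := h.lift hy hk
  exact (((show Commute x a from ha).pow_right _).mul_right
    ((show Commute x l from (mem_CS.1 hx).2).pow_right _)).mul_right (C.commute_ζ (CS_le hx) r)

omit [Finite W] R in
theorem d_mem : d ∈ CS S l := mem_CS.2 ⟨C.le h.dq, (C.comm_iff h.dq h.lq).2 h.dl⟩

omit [Finite W] R in
theorem mem_of_inV (hv : InV C e v) : v ∈ CS S l := mem_CS.2 ⟨hv.1, hv.2 l h.lq h.lk⟩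

omit [Finite W] R h in
theorem conj_pow_of {c : ZMod p} (hx : x ∈ S) (h1 : x * a * x⁻¹ = C.ζ c * a) (n : ℕ) :
    x ^ n * a * (x ^ n)⁻¹ = C.ζ (n * c) * a := by
  induction n with
  | zero => simp [C.ζ_zero]
  | succ n ih =>
    have : x ^ (n + 1) * a * (x ^ (n + 1))⁻¹ = x * (x ^ n * a * (x ^ n)⁻¹) * x⁻¹ := by group
    rw [this, ih, ← conj_mul, C.conj_ζ hx, h1, ← mul_assoc, ← C.ζ_add, Nat.cast_succ, add_mul,
      one_mul]

omit [Finite W] in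
/-- Decomposition with respect to an element outside the abelian subgroup. -/
theorem dec (hx : x ∈ CS S l) (hn : ¬ InV C e x) (hy : y ∈ CS S l) :
    ∃ i : ℕ, InV C e ((x ^ i)⁻¹ * y) := by
  obtain ⟨c, hc⟩ := h.chi R (CS_le hx)
  obtain ⟨c', hc'⟩ := h.chi R (CS_le hy)
  have c0 : c ≠ 0 := by
    rintro rfl
    rw [C.ζ_zero, one_mul, mul_inv_eq_iff_eq_mul] at hc
    exact hn (h.inV hx hc)
  refine ⟨(c' / c).val, h.inV (mul_mem (inv_mem (pow_mem hx _)) hy) ?_⟩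
  have h1 := conj_pow_of (CS_le hx) hc (c' / c).val
  rw [ZMod.natCast_zmod_val, div_mul_cancel₀ _ c0, ← hc'] at h1
  set X := x ^ (c' / c).val
  calc X⁻¹ * y * a = X⁻¹ * (y * a * y⁻¹) * y := by group
    _ = a * (X⁻¹ * y) := by rw [← h1]; group

omit [Finite W] R in
theorem d_not : ¬ InV C e d := fun hd => by
  have := (C.comm_iff h.dq h.aq).1 (hd.2 a h.aq h.ak)
  rw [h.da] at this
  exact one_ne_zero this

theorem cent (hx : x ∈ CS S l) (hn : ¬ InV C e x) (hy : y ∈ CS S l) (hc : Commute x y) :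
    ∃ (k : ℕ) (β r : ZMod p), y = x ^ k * (l ^ β.val * C.ζ r) := by
  obtain ⟨k, hw⟩ := h.dec R hx hn hy
  obtain ⟨i, hv⟩ := h.dec R h.d_mem h.d_not hx
  set w := (x ^ k)⁻¹ * y with hw'
  have h1 : Commute x w := ((Commute.refl x).pow_right k).inv_right.mul_right hc
  have h2 : Commute (d ^ i) w := by
    have := h1.mul_left (R.comm hv.inv hw)
    rwa [mul_inv_rev, inv_inv, mul_inv_cancel_left] at this
  have i0 : (i : ZMod p) ≠ 0 := fun h0 => hn (by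
    have := (R.of_ker (Q.pow_mem h.dq i) (by rw [C.ν_pow h.dq, h0, zero_smul, map_zero])).mul hv
    rwa [mul_inv_cancel_left] at this)
  have wq : w ∈ Q := by
    by_contra wq
    have h3 := C.f_eq_zero hw.1 wq R.mem (C.f_of_comm hw.1 (Q.pow_mem h.dq i) h2.symm)
    rw [C.ν_pow h.dq, map_smul, h.df] at h3
    exact h.l0 ((smul_eq_zero.1 h3).resolve_left i0)
  obtain ⟨α, β, r, h4⟩ := h.lift wq (R.ker hw wq)
  have h5 := (C.comm_iff (Q.pow_mem h.dq i) wq).1 h2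
  rw [h4, C.ν_mul_ζ (Q.mul_mem (Q.pow_mem h.aq _) (Q.pow_mem h.lq _)),
    C.ν_mul _ (Q.pow_mem h.aq _) _ (Q.pow_mem h.lq _), C.ν_pow_val h.aq, C.ν_pow_val h.lq,
    C.ν_pow h.dq] at h5
  simp only [map_add, map_smul, LinearMap.smul_apply, h.da, h.dl, smul_eq_mul, mul_one, mul_zero,
    add_zero] at h5
  obtain rfl : α = 0 := (mul_eq_zero.1 h5).resolve_right i0
  refine ⟨k, β, r, ?_⟩
  rw [ZMod.val_zero, pow_zero, one_mul] at h4
  rw [← h4, hw', mul_inv_cancel_left]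

theorem pow_eq (he : e ^ p = 1) (hv : InV C e v) (i : ℕ) :
    (d ^ i * v) ^ p = C.ζ (i * C.π (C.ν d)) := by
  have hd := Q.pow_mem h.dq i
  obtain ⟨j, hj⟩ := R.smul hv.1
  obtain ⟨r, hr⟩ := C.ν_eq (C.comm_mem hv.1 (C.le hd)) (Q.pow_mem h.lq (j * i).val) (by
    rw [C.ν_comm hv.1 hd, hj, C.ν_pow h.dq, C.ν_pow_val h.lq, LinearMap.smul_apply, map_smul, h.df,
      smul_smul])
  have hc : ∀ x ∈ CS S l, Commute ⁅v, d ^ i⁆ x := fun x hx => by
    rw [commutatorElement_def, hr]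
    exact ((show Commute x l from (mem_CS.1 hx).2).symm.pow_left _).mul_left
      (C.commute_ζ (CS_le hx) r).symm
  have h1 : ⁅v, d ^ i⁆ ^ p = 1 := by
    rw [commutatorElement_def, hr, (C.commute_ζ (S.pow_mem (C.le h.lq) _) r).mul_pow, C.ζ_pow_p,
      ← pow_mul, mul_comm, pow_mul, R.pow_ker h.lq h.lk, one_pow, one_mul]
  obtain ⟨m, hm⟩ : p ∣ p.choose 2 :=
    hp.out.dvd_choose_self two_ne_zero (lt_of_le_of_ne hp.out.two_le C.odd.symm)
  rw [(Cfsg.Agent.S0120.mul_pow_of_commute_commutator _ _ (hc _ (pow_mem h.d_mem i))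
    (hc _ (h.mem_of_inV hv)) p).1, hm, pow_mul, h1, one_pow, mul_one, R.pow he hv, mul_one,
    C.pow _ hd, C.ν_pow h.dq, map_smul, smul_eq_mul]

theorem pi_zero (h0 : C.π (C.ν d) = 0) (w : W) (hw : C.ω w (C.ν l) = 0) : C.π w = 0 := by
  obtain ⟨y, hy, rfl⟩ := C.ν_surj w
  obtain ⟨i, hv⟩ := h.dec R h.d_mem h.d_not (mem_CS.2 ⟨C.le hy, (C.comm_iff hy h.lq).2 hw⟩)
  have hd := Q.pow_mem h.dq i
  have hq := Q.mul_mem (Q.inv_mem hd) hy
  have h1 := (C.pow_eq_one hq).1 (R.pow_ker hq (R.ker hv hq))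
  rwa [C.ν_mul _ (Q.inv_mem hd) _ hy, C.ν_inv hd, C.ν_pow h.dq, map_add, map_neg, map_smul, h0,
    smul_zero, neg_zero, zero_add] at h1

end Fr

end V

open V

theorem wV (C : Co p S Q W) {F : FusionSystem S} : C.WV F := by
  intro l ψ t hl hl2 hψ ht h22
  obtain ⟨e0, he0, hq0⟩ := C.exists_out
  obtain ⟨a1, ha1, hc1⟩ := C.exists_cen he0
  have m1 := S.mul_mem (C.le ha1) he0
  have q1 : a1 * e0 ∉ Q := fun h => hq0 ((Q.mul_mem_cancel_left ha1).1 h)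
  have R : Ref C (a1 * e0) := ⟨m1, q1, h22 _ m1 q1, hc1⟩
  generalize a1 * e0 = e1 at R
  obtain ⟨d, a, h⟩ := R.exists_fr hl
  obtain ⟨d2, a2, h2⟩ := R.exists_fr hl2
  have hz := C.ζ_mem_CS (C.le h.lq)
  have hlP : l ∈ CS S l := self_mem_CS (C.le h.lq)
  have maps : ∀ x ∈ CS S l, ψ x ∈ CS S (ψ (C.ζ 1)) := fun x hx => mem_CS.2 ⟨hψ.maps hx, by
    rw [← hψ.map_mul hx (hz 1), ← hψ.map_mul (hz 1) hx, C.ζ_cen x (CS_le hx)]⟩
  have t0 : t ≠ 0 := by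
    rintro rfl
    rw [C.ζ_zero, hψ.eq_one_iff hlP] at ht
    exact h.l0 (ht ▸ C.ν_one)
  have hζ : ∀ r, ψ (C.ζ r) = ψ (C.ζ 1) ^ r.val := fun r => by
    rw [C.ζ_eq_pow r, hψ.map_pow (hz 1)]
  have aV := R.of_ker h.aq h.ak
  have aP := h.mem_of_inV aV
  have eP := h.mem_of_inV R.self
  have k1 : InV C e1 (ψ a) := by
    by_contra hn
    obtain ⟨k, β, r, h3⟩ := h2.cent R (maps a aP) hn (maps e1 eP) (by
      rw [Commute, SemiconjBy, ← hψ.map_mul aP eP, ← hψ.map_mul eP aP, R.comm aV R.self])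
    have h4 : C.ζ r = ψ (l ^ (r / t).val) := by
      rw [hψ.map_pow hlP, ht, C.ζ_pow, ZMod.natCast_zmod_val, div_mul_cancel₀ _ t0]
    rw [h4, ← hζ, ← hψ.map_pow aP, ← hψ.map_mul (hz _) (pow_mem hlP _),
      ← hψ.map_mul (pow_mem aP _) (mul_mem (hz _) (pow_mem hlP _))] at h3
    refine R.out (hψ.injOn eP (mul_mem (pow_mem aP _) (mul_mem (hz _) (pow_mem hlP _))) h3 ▸ ?_)
    exact Q.mul_mem (Q.pow_mem h.aq _) (Q.mul_mem (C.ζ_mem _) (Q.pow_mem h.lq _))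
  have k2 : ψ d * ψ a * (ψ d)⁻¹ * (ψ a)⁻¹ = ψ (C.ζ 1) := by
    rw [← h.da, ← C.comm_Q h.dq h.aq, hψ.map_mul (mul_mem (mul_mem h.d_mem aP) (inv_mem h.d_mem))
      (inv_mem aP), hψ.map_conj h.d_mem aP, hψ.map_inv aP]
  have k3 : ψ a ∉ Q := fun hq => h2.l0 (by
    rw [← k2, C.ν_comm (hψ.maps h.d_mem) hq, C.f_eq_zero R.mem R.out (hψ.maps h.d_mem) (R.ker k1 hq)])
  have k4 : ψ a ^ p = 1 := by rw [← hψ.map_pow aP, R.pow_ker h.aq h.ak, hψ.map_one]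
  have k5 : ¬ InV C e1 (ψ d) := fun hv => h2.l0 (by
    rw [← k2, R.comm hv k1, mul_inv_cancel_right, mul_inv_cancel, C.ν_one])
  have k6 : C.Cen (ψ a) := fun y hy hk => k1.2 y hy (C.f_eq_zero k1.1 k3 R.mem hk)
  have R' : Ref C (ψ a) := ⟨k1.1, k3, h22 _ k1.1 k3, k6⟩
  obtain ⟨d3, a3, h3⟩ := R'.exists_fr hl2
  have tr : ∀ x, InV C (ψ a) x → InV C e1 x := fun x hx =>
    ⟨hx.1, fun y hy hk => hx.2 y hy (C.f_eq_zero R.mem R.out k1.1 hk)⟩
  obtain ⟨i, hv⟩ := h3.dec R' h3.d_mem h3.d_not (maps d h.d_mem)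
  have k7 := h3.pow_eq R' k4 hv i
  rw [mul_inv_cancel_left, ← hψ.map_pow h.d_mem, C.pow d h.dq, hζ] at k7
  have k8 : C.π (C.ν d) = 0 := by
    have := congrArg C.ν k7
    rw [C.ν_pow_val h2.lq, C.ν_ζ] at this
    exact (smul_eq_zero.1 this).resolve_right h2.l0
  rw [k8, ZMod.val_zero, pow_zero] at k7
  have i0 : (i : ZMod p) ≠ 0 := fun h0 => k5 (tr _ (by
    have := (R'.of_ker (Q.pow_mem h3.dq i) (by rw [C.ν_pow h3.dq, h0, zero_smul, map_zero])).mul hv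
    rwa [mul_inv_cancel_left] at this))
  exact ⟨⟨ψ a, k1.1, k3, k4, k6⟩, h.pi_zero R k8,
    h3.pi_zero R' ((mul_eq_zero.1 (C.ζ_inj _ k7.symm)).resolve_left i0)⟩

end Cfsg.Lib.XS
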