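import Cfsg.Agent.XS.Lin
import Mathlib.Algebra.Ring.GeomSum

/-! Basic computations in the coordinates. -/

set_option autoImplicit false

universe u

namespace Cfsg.Lib.XS

open Cfsg Cfsg.FusionSystem Cfsg.Lib.Fus Module Subgroup Equiv

variable {p : ℕ} [hp : Fact p.Prime] {Ω : Type u} [Group Ω] {S Q : Subgroup Ω} {W : Type}
  [AddCommGroup W] [Module (ZMod p) W]

theorem mem_CS {x g : Ω} : g ∈ CS S x ↔ g ∈ S ∧ g * x = x * g := by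
  rw [CS, mem_centralizerIn']
  refine and_congr_right fun _ => ⟨fun h => ?_, fun h y hy => ?_⟩
  · exact mul_inv_eq_iff_eq_mul.1 (h x (mem_zpowers x))
  · obtain ⟨k, rfl⟩ := mem_zpowers_iff.1 hy
    exact mul_inv_eq_iff_eq_mul.2 ((show Commute g x from h).zpow_right k)

theorem CS_le {x : Ω} : CS S x ≤ S := fun _ h => (mem_CS.1 h).1

theorem self_mem_CS {x : Ω} (hx : x ∈ S) : x ∈ CS S x := mem_CS.2 ⟨hx, rfl⟩

namespace Co

variable (C : Co p S Q W) {a b s t e e' x : Ω}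

include C in
theorem two : (2 : ZMod p) ≠ 0 := two_ne C.odd

theorem skew (v w : W) : C.ω v w = -C.ω w v := skew_of_alt C.alt v w

theorem ν_one : C.ν 1 = 0 := by simpa using C.ν_mul 1 Q.one_mem 1 Q.one_mem

theorem ν_inv (ha : a ∈ Q) : C.ν a⁻¹ = -C.ν a := by
  have h2 := C.ν_mul a⁻¹ (Q.inv_mem ha) a ha
  rw [inv_mul_cancel, C.ν_one] at h2
  exact eq_neg_of_add_eq_zero_left h2.symm

theorem ν_pow (ha : a ∈ Q) (n : ℕ) : C.ν (a ^ n) = (n : ZMod p) • C.ν a := by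
  induction n with
  | zero => simp [C.ν_one]
  | succ n ih => rw [pow_succ, C.ν_mul _ (Q.pow_mem ha n) _ ha, ih, Nat.cast_succ, add_smul, one_smul]

theorem ν_pow_val (ha : a ∈ Q) (r : ZMod p) : C.ν (a ^ r.val) = r • C.ν a := by
  rw [C.ν_pow ha, ZMod.natCast_zmod_val]

theorem ζ_zero : C.ζ 0 = 1 := by simpa using C.ζ_add 0 0

theorem ζ_neg (r : ZMod p) : C.ζ (-r) = (C.ζ r)⁻¹ :=
  eq_inv_of_mul_eq_one_left (by rw [← C.ζ_add, neg_add_cancel, C.ζ_zero])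

theorem ζ_pow (r : ZMod p) (n : ℕ) : C.ζ r ^ n = C.ζ (n * r) := by
  induction n with
  | zero => simp [C.ζ_zero]
  | succ n ih => rw [pow_succ, ih, ← C.ζ_add, Nat.cast_succ, add_mul, one_mul]

theorem ζ_pow_p (r : ZMod p) : C.ζ r ^ p = 1 := by rw [C.ζ_pow, ZMod.natCast_self, zero_mul, C.ζ_zero]

theorem ζ_eq_pow (r : ZMod p) : C.ζ r = C.ζ 1 ^ r.val := by
  rw [C.ζ_pow, ZMod.natCast_zmod_val, mul_one]

theorem ζ_injective : Function.Injective C.ζ := fun r r' h => by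
  have := C.ζ_inj (r - r') (by rw [sub_eq_add_neg, C.ζ_add, C.ζ_neg, h, mul_inv_cancel])
  exact sub_eq_zero.1 this

theorem ζ_memS (r : ZMod p) : C.ζ r ∈ S := C.le (C.ζ_mem r)

theorem ζ_mem_CS (hx : x ∈ S) (r : ZMod p) : C.ζ r ∈ CS S x :=
  mem_CS.2 ⟨C.ζ_memS r, (C.ζ_cen x hx r).symm⟩

theorem conj_ζ (hs : s ∈ S) (r : ZMod p) : s * C.ζ r * s⁻¹ = C.ζ r := by
  rw [C.ζ_cen s hs, mul_inv_cancel_right]

theorem commute_ζ (hs : s ∈ S) (r : ZMod p) : Commute s (C.ζ r) := C.ζ_cen s hs r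

theorem ν_mul_ζ (ha : a ∈ Q) (r : ZMod p) : C.ν (a * C.ζ r) = C.ν a := by
  rw [C.ν_mul a ha _ (C.ζ_mem r), C.ν_ζ, add_zero]

theorem ν_ζ_mul (ha : a ∈ Q) (r : ZMod p) : C.ν (C.ζ r * a) = C.ν a := by
  rw [C.ν_mul _ (C.ζ_mem r) a ha, C.ν_ζ, zero_add]

theorem ν_eq (ha : a ∈ Q) (hb : b ∈ Q) (h : C.ν a = C.ν b) : ∃ r, a = b * C.ζ r := by
  obtain ⟨r, hr⟩ := C.ν_ker (b⁻¹ * a) (Q.mul_mem (Q.inv_mem hb) ha)
    (by rw [C.ν_mul _ (Q.inv_mem hb) _ ha, C.ν_inv hb, h, neg_add_cancel])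
  exact ⟨r, by rw [← hr, mul_inv_cancel_left]⟩

theorem conj_Q (ha : a ∈ Q) (hb : b ∈ Q) : a * b * a⁻¹ = C.ζ (C.ω (C.ν a) (C.ν b)) * b := by
  rw [C.comm a ha b hb]; group

theorem comm_Q (ha : a ∈ Q) (hb : b ∈ Q) : a * b * a⁻¹ * b⁻¹ = C.ζ (C.ω (C.ν a) (C.ν b)) := by
  rw [C.conj_Q ha hb, mul_inv_cancel_right]

theorem comm_iff (ha : a ∈ Q) (hb : b ∈ Q) : a * b = b * a ↔ C.ω (C.ν a) (C.ν b) = 0 := by
  refine ⟨fun h => C.ζ_inj _ ?_, fun h => by rw [C.comm a ha b hb, h, C.ζ_zero, one_mul]⟩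
  rw [← C.comm_Q ha hb, h]; group

theorem pow_eq_one (ha : a ∈ Q) : a ^ p = 1 ↔ C.π (C.ν a) = 0 := by
  rw [C.pow a ha]
  exact ⟨C.ζ_inj _, fun h => by rw [h, C.ζ_zero]⟩

include C in
theorem normal : (Q.subgroupOf S).Normal :=
  ⟨fun a ha s => C.nrm s s.2 a ha⟩

include C in
theorem nrm' (hs : s ∈ S) (ha : a ∈ Q) : s⁻¹ * a * s ∈ Q := by
  simpa using C.nrm s⁻¹ (S.inv_mem hs) a ha

include C in
theorem pow_mem (hs : s ∈ S) : s ^ p ∈ Q := by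
  have := C.normal
  have h := Subgroup.pow_index_mem (Q.subgroupOf S) ⟨s, hs⟩
  rw [show (Q.subgroupOf S).index = p from C.idx] at h
  exact h

include C in
theorem pow_mem_iff (he : e ∈ S) (hq : e ∉ Q) {i : ℕ} : e ^ i ∈ Q ↔ p ∣ i := by
  refine ⟨fun h => by_contra fun hn => hq ?_, by rintro ⟨k, rfl⟩; exact pow_mul e p k ▸ Q.pow_mem (C.pow_mem he) k⟩
  obtain ⟨m, hm⟩ := Nat.exists_mul_mod_eq_one_of_coprime
    ((hp.out.coprime_iff_not_dvd.2 hn).symm) hp.out.one_lt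
  have h1 := Q.pow_mem h m
  rw [← pow_mul, ← Nat.div_add_mod (i * m) p, hm.2, pow_add, pow_one, pow_mul] at h1
  exact (Q.mul_mem_cancel_left (Q.pow_mem (C.pow_mem he) _)).1 h1

include C in
theorem gen (he : e ∈ S) (hq : e ∉ Q) (hs : s ∈ S) : ∃ a ∈ Q, ∃ i < p, s = a * e ^ i := by
  have := C.normal
  have hc : Nat.card (S ⧸ Q.subgroupOf S) = p := C.idx
  have h1 : (QuotientGroup.mk ⟨e, he⟩ : S ⧸ Q.subgroupOf S) ≠ 1 := by
    rw [ne_eq, QuotientGroup.eq_one_iff]; exact hq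
  have : Finite (S ⧸ Q.subgroupOf S) := Nat.finite_of_card_ne_zero (hc ▸ hp.out.ne_zero)
  have h2 := mem_powers_of_prime_card hc h1 (g' := QuotientGroup.mk ⟨s, hs⟩)
  obtain ⟨i, hi⟩ := h2
  simp only at hi
  rw [← QuotientGroup.mk_pow, QuotientGroup.eq] at hi
  have h3 : (e ^ i)⁻¹ * s ∈ Q := hi
  have h4 : e ^ i * ((e ^ i)⁻¹ * s) * (e ^ i)⁻¹ ∈ Q := C.nrm _ (S.pow_mem he i) _ h3
  refine ⟨s * (e ^ i)⁻¹ * (e ^ p) ^ (i / p), Q.mul_mem (by simpa using h4)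
    (Q.pow_mem (C.pow_mem he) _), i % p, Nat.mod_lt _ hp.out.pos, ?_⟩
  rw [← pow_mul, mul_assoc, ← pow_add, Nat.div_add_mod, inv_mul_cancel_right]

include C in
theorem exists_out : ∃ e ∈ S, e ∉ Q := by
  by_contra! h
  have := C.idx
  rw [relIndex_eq_one.2 h] at this
  exact hp.out.one_lt.ne this

include C in
theorem comm_mem (hs : s ∈ S) (ht : t ∈ S) : s * t * s⁻¹ * t⁻¹ ∈ Q := by
  obtain ⟨e, he, hq⟩ := C.exists_out
  obtain ⟨a, ha, i, -, rfl⟩ := C.gen he hq hs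
  obtain ⟨b, hb, j, -, rfl⟩ := C.gen he hq ht
  have h1 : a * e ^ i * (b * e ^ j) * (a * e ^ i)⁻¹ * (b * e ^ j)⁻¹ =
      a * (e ^ i * b * (e ^ i)⁻¹) * (e ^ j * a⁻¹ * (e ^ j)⁻¹) * b⁻¹ := by group
  rw [h1]
  exact Q.mul_mem (Q.mul_mem (Q.mul_mem ha (C.nrm _ (S.pow_mem he i) _ hb))
    (C.nrm _ (S.pow_mem he j) _ (Q.inv_mem ha))) (Q.inv_mem hb)

theorem end_ext {f g : End (ZMod p) W} (h : ∀ a ∈ Q, f (C.ν a) = g (C.ν a)) : f = g :=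
  LinearMap.ext fun w => by obtain ⟨a, ha, rfl⟩ := C.ν_surj w; exact h a ha

theorem u_mul (hs : s ∈ S) (ht : t ∈ S) : C.u (s * t) = C.u s * C.u t := C.end_ext fun a ha => by
  rw [End.mul_apply, ← C.conj _ (S.mul_mem hs ht) a ha, ← C.conj t ht a ha,
    ← C.conj s hs _ (C.nrm t ht a ha)]
  congr 1; group

theorem u_Q (ha : a ∈ Q) : C.u a = 1 := C.end_ext fun b hb => by
  rw [← C.conj a (C.le ha) b hb, C.conj_Q ha hb, C.ν_ζ_mul hb]; rfl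

theorem u_one : C.u 1 = 1 := C.u_Q Q.one_mem

theorem u_pow (hs : s ∈ S) (n : ℕ) : C.u (s ^ n) = C.u s ^ n := by
  induction n with
  | zero => simp [C.u_one]
  | succ n ih => rw [pow_succ, C.u_mul (S.pow_mem hs n) hs, ih, pow_succ]

theorem u_Q_mul (ha : a ∈ Q) (hs : s ∈ S) : C.u (a * s) = C.u s := by
  rw [C.u_mul (C.le ha) hs, C.u_Q ha, one_mul]

theorem u_iso (hs : s ∈ S) (v w : W) : C.ω (C.u s v) (C.u s w) = C.ω v w := by
  obtain ⟨a, ha, rfl⟩ := C.ν_surj v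
  obtain ⟨b, hb, rfl⟩ := C.ν_surj w
  apply C.ζ_injective
  rw [← C.conj s hs a ha, ← C.conj s hs b hb, ← C.comm_Q (C.nrm s hs a ha) (C.nrm s hs b hb),
    ← C.conj_ζ hs, ← C.comm_Q ha hb]
  group

theorem sy (hs : s ∈ S) : Sy C.ω (C.u s) where
  odd := C.odd
  alt := C.alt
  nd := C.nd
  iso := C.u_iso hs
  nil := by
    by_cases hW : Nontrivial (End (ZMod p) W)
    · have : CharP (End (ZMod p) W) p := charP_of_injective_algebraMap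
        (algebraMap (ZMod p) (End (ZMod p) W)).injective p
      rw [sub_pow_char_of_commute p (Commute.one_right _), one_pow, ← C.u_pow hs,
        C.u_Q (C.pow_mem hs), sub_self]
    · rw [not_nontrivial_iff_subsingleton] at hW
      exact Subsingleton.elim _ _

theorem π_u (hs : s ∈ S) (w : W) : C.π (C.u s w) = C.π w := by
  obtain ⟨a, ha, rfl⟩ := C.ν_surj w
  apply C.ζ_injective
  rw [← C.conj s hs a ha, ← C.pow _ (C.nrm s hs a ha), conj_pow, C.pow a ha, C.conj_ζ hs]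

theorem π_f (hs : s ∈ S) (w : W) : C.π ((C.u s - 1) w) = 0 := by
  rw [sub_one_apply, map_sub, C.π_u hs, sub_self]

theorem ν_comm (hs : s ∈ S) (ha : a ∈ Q) : C.ν (s * a * s⁻¹ * a⁻¹) = (C.u s - 1) (C.ν a) := by
  rw [C.ν_mul _ (C.nrm s hs a ha) _ (Q.inv_mem ha), C.conj s hs a ha, C.ν_inv ha, sub_one_apply,
    sub_eq_add_neg]

include C in
theorem comm_mem' (hs : s ∈ S) (ha : a ∈ Q) : a * s * a⁻¹ * s⁻¹ ∈ Q := C.comm_mem (C.le ha) hs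

theorem ν_comm' (hs : s ∈ S) (ha : a ∈ Q) : C.ν (a * s * a⁻¹ * s⁻¹) = -(C.u s - 1) (C.ν a) := by
  rw [← C.ν_comm hs ha, ← C.ν_inv (C.comm_mem hs (C.le ha))]
  congr 1; group

theorem f_of_comm (hs : s ∈ S) (ha : a ∈ Q) (h : s * a = a * s) : (C.u s - 1) (C.ν a) = 0 := by
  rw [← C.ν_comm hs ha, h, mul_inv_cancel_right, mul_inv_cancel, C.ν_one]

theorem central (hs : s ∈ S) (h : ∀ a ∈ Q, s * a = a * s) : ∃ r, s = C.ζ r := by
  have hq : s ∈ Q := by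
    by_contra hq
    refine C.ctr s hs hq (sub_eq_zero.1 (C.end_ext fun a ha => ?_))
    exact C.f_of_comm hs ha (h a ha)
  refine C.ν_ker s hq (C.nd _ fun v => ?_)
  obtain ⟨a, ha, rfl⟩ := C.ν_surj v
  exact (C.comm_iff hq ha).1 (h a ha)

/-- The nilpotent parts of two elements outside `Q` are associated. -/
theorem exists_mul (he : e ∈ S) (hq : e ∉ Q) (he' : e' ∈ S) :
    ∃ θ : End (ZMod p) W, Commute θ (C.u e - 1) ∧ C.u e' - 1 = θ * (C.u e - 1) := by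
  obtain ⟨a, ha, i, -, rfl⟩ := C.gen he hq he'
  refine ⟨∑ j ∈ Finset.range i, C.u e ^ j, Commute.sum_left _ _ _ fun j _ =>
    ((Commute.refl _).pow_left j).sub_right (Commute.one_right _), ?_⟩
  rw [C.u_Q_mul ha (S.pow_mem he i), C.u_pow he, geom_sum_mul]

theorem pow_f_eq_zero (he : e ∈ S) (hq : e ∉ Q) (he' : e' ∈ S) {k : ℕ} {w : W}
    (h : ((C.u e - 1) ^ k) w = 0) : ((C.u e' - 1) ^ k) w = 0 := by
  obtain ⟨θ, hc, h1⟩ := C.exists_mul he hq he'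
  rw [h1, hc.mul_pow, End.mul_apply, h, map_zero]

theorem f_eq_zero (he : e ∈ S) (hq : e ∉ Q) (he' : e' ∈ S) {w : W}
    (h : (C.u e - 1) w = 0) : (C.u e' - 1) w = 0 := by
  simpa using C.pow_f_eq_zero he hq he' (k := 1) (by simpa using h)

/-- Every element of `S` lowers the kernels of the powers. -/
theorem pow_f_comm (he : e ∈ S) (hq : e ∉ Q) (hs : s ∈ S) {k : ℕ} {w : W}
    (h : ((C.u e - 1) ^ (k + 1)) w = 0) : ((C.u e - 1) ^ k) ((C.u s - 1) w) = 0 := by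
  obtain ⟨θ, hc, h1⟩ := C.exists_mul he hq hs
  rw [h1, ← End.mul_apply, ← mul_assoc, ← (hc.pow_right k).eq, mul_assoc, ← pow_succ,
    End.mul_apply, h, map_zero]

theorem range_le (he : e ∈ S) (hq : e ∉ Q) (he' : e' ∈ S) (w : W) :
    ∃ v, (C.u e - 1) v = (C.u e' - 1) w := by
  obtain ⟨θ, hc, h1⟩ := C.exists_mul he hq he'
  exact ⟨θ w, by rw [h1, hc.eq]; rfl⟩

theorem ker_pow_eq (he : e ∈ S) (hq : e ∉ Q) (he' : e' ∈ S) (hq' : e' ∉ Q) (k : ℕ) :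
    LinearMap.ker ((C.u e - 1) ^ k) = LinearMap.ker ((C.u e' - 1) ^ k) :=
  le_antisymm (fun _ h => C.pow_f_eq_zero he hq he' h) fun _ h => C.pow_f_eq_zero he' hq' he h

theorem ker_eq (he : e ∈ S) (hq : e ∉ Q) (he' : e' ∈ S) (hq' : e' ∉ Q) :
    LinearMap.ker (C.u e - 1) = LinearMap.ker (C.u e' - 1) :=
  le_antisymm (fun _ h => C.f_eq_zero he hq he' h) fun _ h => C.f_eq_zero he' hq' he h

theorem range_eq (he : e ∈ S) (hq : e ∉ Q) (he' : e' ∈ S) (hq' : e' ∉ Q) :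
    LinearMap.range (C.u e - 1) = LinearMap.range (C.u e' - 1) :=
  le_antisymm (by rintro _ ⟨w, rfl⟩; exact C.range_le he' hq' he w)
    (by rintro _ ⟨w, rfl⟩; exact C.range_le he hq he' w)

theorem t4 (he : e ∈ S) (he' : e' ∈ S) (hq' : e' ∉ Q) (h : T4 (C.u e)) : T4 (C.u e') :=
  ⟨h.1, fun h3 => h.2 (LinearMap.ext fun w => C.pow_f_eq_zero he' hq' he (by rw [h3]; rfl))⟩

theorem t22 (he : e ∈ S) (hq : e ∉ Q) (he' : e' ∈ S) (hq' : e' ∉ Q) (h : T22 (C.u e)) :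
    T22 (C.u e') := by
  refine ⟨h.1, LinearMap.ext fun w => C.pow_f_eq_zero he hq he' (by rw [h.2.1]; rfl), fun w hw => ?_⟩
  obtain ⟨v, rfl⟩ := h.2.2 w (C.f_eq_zero he' hq' he hw)
  exact C.range_le he' hq' he v

theorem mem_Kh {i : ℕ} : a ∈ C.Kh e i ↔ a ∈ Q ∧ ((C.u e - 1) ^ i) (C.ν a) = 0 := Iff.rfl

theorem Kh_le (i : ℕ) : C.Kh e i ≤ Q := fun _ h => h.1

theorem Kh_mono (e : Ω) : Monotone (C.Kh e) := monotone_nat_of_le_succ fun i a ha =>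
  ⟨ha.1, by rw [pow_succ', End.mul_apply, ha.2, map_zero]⟩

theorem ζ_mem_Kh (r : ZMod p) (i : ℕ) : C.ζ r ∈ C.Kh e i := ⟨C.ζ_mem r, by rw [C.ν_ζ, map_zero]⟩

theorem mem_Kh_zero : a ∈ C.Kh e 0 ↔ ∃ r, a = C.ζ r :=
  ⟨fun h => C.ν_ker a h.1 (by simpa using h.2), by rintro ⟨r, rfl⟩; exact C.ζ_mem_Kh r 0⟩

theorem Kh_eq (he : e ∈ S) (hq : e ∉ Q) (he' : e' ∈ S) (hq' : e' ∉ Q) (i : ℕ) :
    C.Kh e i = C.Kh e' i :=
  le_antisymm (fun _ h => ⟨h.1, C.pow_f_eq_zero he hq he' h.2⟩)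
    fun _ h => ⟨h.1, C.pow_f_eq_zero he' hq' he h.2⟩

theorem comm_mem_Kh (he : e ∈ S) (hq : e ∉ Q) (hs : s ∈ S) {i : ℕ} (ha : a ∈ C.Kh e (i + 1)) :
    s * a * s⁻¹ * a⁻¹ ∈ C.Kh e i :=
  ⟨C.comm_mem hs (C.le ha.1), by rw [C.ν_comm hs ha.1]; exact C.pow_f_comm he hq hs ha.2⟩

theorem Rh_le (he : e ∈ S) (i : ℕ) : C.Rh e i ≤ S :=
  sup_le ((C.Kh_le i).trans C.le) (zpowers_le.2 he)

/-- The preimage of a subspace. -/
def pre (B : Submodule (ZMod p) W) : Subgroup Ω where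
  carrier := {a | a ∈ Q ∧ C.ν a ∈ B}
  one_mem' := ⟨Q.one_mem, C.ν_one ▸ B.zero_mem⟩
  mul_mem' := fun ha hb => ⟨Q.mul_mem ha.1 hb.1, C.ν_mul _ ha.1 _ hb.1 ▸ B.add_mem ha.2 hb.2⟩
  inv_mem' := fun ha => ⟨Q.inv_mem ha.1, C.ν_inv ha.1 ▸ B.neg_mem ha.2⟩

theorem mem_pre {B : Submodule (ZMod p) W} : a ∈ C.pre B ↔ a ∈ Q ∧ C.ν a ∈ B := Iff.rfl

theorem Kh_eq_pre (i : ℕ) : C.Kh e i = C.pre (LinearMap.ker ((C.u e - 1) ^ i)) := rfl

/-- The image of a subgroup of `Q`. -/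
def im (R : Subgroup Ω) (hR : R ≤ Q) : Submodule (ZMod p) W where
  carrier := {w | ∃ a ∈ R, C.ν a = w}
  zero_mem' := ⟨1, R.one_mem, C.ν_one⟩
  add_mem' := by
    rintro _ _ ⟨a, ha, rfl⟩ ⟨b, hb, rfl⟩
    exact ⟨a * b, R.mul_mem ha hb, C.ν_mul a (hR ha) b (hR hb)⟩
  smul_mem' := by
    rintro c _ ⟨a, ha, rfl⟩
    exact ⟨a ^ c.val, R.pow_mem ha _, C.ν_pow_val (hR ha) c⟩

theorem mem_im {R : Subgroup Ω} {hR : R ≤ Q} {w : W} : w ∈ C.im R hR ↔ ∃ a ∈ R, C.ν a = w := Iff.rfl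

theorem le_pre_im {R : Subgroup Ω} (hR : R ≤ Q) : R ≤ C.pre (C.im R hR) :=
  fun a ha => ⟨hR ha, a, ha, rfl⟩

theorem pre_im {R : Subgroup Ω} (hR : R ≤ Q) (hz : ∀ r, C.ζ r ∈ R) : C.pre (C.im R hR) = R := by
  refine le_antisymm ?_ (C.le_pre_im hR)
  rintro a ⟨ha, b, hb, h⟩
  obtain ⟨r, rfl⟩ := C.ν_eq ha (hR hb) h.symm
  exact R.mul_mem hb (hz r)

theorem card_pre [Finite W] (B : Submodule (ZMod p) W) :
    Nat.card (C.pre B) = p ^ (finrank (ZMod p) B + 1) := by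
  choose σ hσ hν using C.ν_surj
  have hb : Function.Bijective (fun x : B × ZMod p => (⟨σ x.1 * C.ζ x.2,
      Q.mul_mem (hσ _) (C.ζ_mem _), by rw [C.ν_mul_ζ (hσ _), hν]; exact x.1.2⟩ : C.pre B)) := by
    constructor
    · rintro ⟨v, r⟩ ⟨w, r'⟩ h
      have h1 : σ v * C.ζ r = σ w * C.ζ r' := congrArg Subtype.val h
      have h2 := congrArg C.ν h1
      rw [C.ν_mul_ζ (hσ _), C.ν_mul_ζ (hσ _), hν, hν] at h2
      obtain rfl : v = w := Subtype.ext h2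
      rw [C.ζ_injective (mul_left_cancel h1)]
    · rintro ⟨a, ha, hB⟩
      obtain ⟨r, hr⟩ := C.ν_eq ha (hσ (C.ν a)) (hν _).symm
      exact ⟨(⟨_, hB⟩, r), Subtype.ext hr.symm⟩
  rw [← Nat.card_eq_of_bijective _ hb, Nat.card_prod, Nat.card_zmod, pow_succ,
    Module.natCard_eq_pow_finrank (K := ZMod p), Nat.card_zmod]

theorem pre_top : C.pre ⊤ = Q := le_antisymm (fun _ h => h.1) fun _ h => ⟨h, trivial⟩

include C in
theorem card_Q [Finite W] : Nat.card Q = p ^ (finrank (ZMod p) W + 1) := by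
  rw [← C.pre_top, C.card_pre, finrank_top]

include C in
theorem card_S [Finite W] : Nat.card S = p ^ (finrank (ZMod p) W + 2) := by
  rw [← (Q.subgroupOf S).card_mul_index, show (Q.subgroupOf S).index = p from C.idx,
    Nat.card_congr (subgroupOfEquivOfLe C.le).toEquiv, C.card_Q, ← pow_succ]

/-- Some element of the coset of `e` centralises the preimage of the fixed space. -/
theorem exists_cen [Finite W] (he : e ∈ S) : ∃ a ∈ Q, C.Cen (a * e) := by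
  choose σ hσ hν using C.ν_surj
  have key : ∀ y ∈ Q, (C.u e - 1) (C.ν y) = 0 → ∃ r, e * y * e⁻¹ * y⁻¹ = C.ζ r := fun y hy h =>
    C.ν_ker _ (C.comm_mem he (C.le hy)) (by rw [C.ν_comm he hy, h])
  choose μ hμ using fun w : LinearMap.ker (C.u e - 1) => key (σ w) (hσ w) (by rw [hν]; exact w.2)
  have hμ' : ∀ y ∈ Q, ∀ w : LinearMap.ker (C.u e - 1), C.ν y = w →
      e * y * e⁻¹ = C.ζ (μ w) * y := fun y hy w h => by
    obtain ⟨r, rfl⟩ := C.ν_eq hy (hσ w) (h.trans (hν _).symm)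
    rw [← hμ, ← mul_assoc, mul_assoc _ (C.ζ r), ← C.ζ_cen _ (S.inv_mem he)]
    group
  have hadd : ∀ v w, μ (v + w) = μ v + μ w := fun v w => by
    have h1 := hμ' (σ v * σ w) (Q.mul_mem (hσ _) (hσ _)) (v + w)
      (by rw [C.ν_mul _ (hσ _) _ (hσ _), hν, hν]; rfl)
    rw [← conj_mul, hμ' _ (hσ _) v (hν _), hμ' _ (hσ _) w (hν _), mul_assoc, ← mul_assoc (σ v),
      C.ζ_cen _ (C.le (hσ _)), mul_assoc, ← mul_assoc, ← C.ζ_add] at h1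
    exact (C.ζ_injective (mul_right_cancel h1)).symm
  obtain ⟨μ', e1⟩ := ((AddMonoidHom.mk' μ hadd).toZModLinearMap p).exists_extend
  obtain ⟨v, hv⟩ := rep_of_nd C.nd (-μ')
  refine ⟨σ v, hσ v, fun y hy h => ?_⟩
  rw [C.u_Q_mul (hσ v) he] at h
  have h2 : C.ω v (C.ν y) = -μ ⟨_, h⟩ := by
    rw [hv, LinearMap.neg_apply]
    exact congrArg Neg.neg (LinearMap.congr_fun e1 ⟨_, h⟩)
  have h3 := hμ' y hy ⟨_, h⟩ rfl
  rw [mul_inv_eq_iff_eq_mul] at h3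
  rw [mul_assoc, h3, ← mul_assoc, ← mul_assoc, C.ζ_cen _ (C.le (hσ v)), mul_assoc (C.ζ _),
    C.comm _ (hσ v) y hy, hν, h2, ← mul_assoc (C.ζ _), ← C.ζ_add, add_neg_cancel, C.ζ_zero,
    one_mul, mul_assoc]

variable {C} {F : FusionSystem S}

theorem zc_ζ (r : ZMod p) : C.Zc F (C.ζ r) := ⟨r, isConjElt_refl F (C.ζ_memS r)⟩

theorem Zc.mem (h : C.Zc F x) : x ∈ S := let ⟨_, h⟩ := h; isConjElt_mem_left h

theorem zc_iff {P : Subgroup Ω} {k : Ω → Ω} (hk : Mor F P k) (hx : x ∈ P) :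
    C.Zc F (k x) ↔ C.Zc F x :=
  ⟨fun ⟨r, h⟩ => ⟨r, isConjElt_trans (hk.isConjElt hx) h⟩,
    fun ⟨r, h⟩ => ⟨r, isConjElt_trans (isConjElt_symm (hk.isConjElt hx)) h⟩⟩

theorem zc_conj (hs : s ∈ S) (hx : x ∈ S) : C.Zc F (s * x * s⁻¹) ↔ C.Zc F x :=
  zc_iff (Mor.conj F le_rfl hs) hx

theorem Zc.pow (h : C.Zc F x) (n : ℕ) : C.Zc F (x ^ n) := by
  obtain ⟨r, h⟩ := h
  obtain ⟨k, hk, e1⟩ := isConjElt_iff.1 h
  refine (zc_iff hk (Subgroup.pow_mem _ (mem_zpowers x) n)).1 ?_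
  rw [hk.map_pow (mem_zpowers x), e1, C.ζ_pow]
  exact zc_ζ _

/-- A map into the centre extends to the centraliser. -/
theorem Zc.ext [Finite S] (hF : F.IsSaturated p) (h : C.Zc F x) :
    ∃ (ψ : Perm Ω) (r : ZMod p), Mor F (CS S x) ψ ∧ ψ x = C.ζ r := by
  obtain ⟨r, h⟩ := h
  obtain ⟨k, hk, e1⟩ := isConjElt_iff.1 h
  obtain ⟨f, hf, e2⟩ := hk.exists_perm
  have e3 : f x = C.ζ r := (e2 x (mem_zpowers x)).trans e1
  obtain ⟨g, hg, e4⟩ := sat_ext_centralizer C.pgrp hF hf.piso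
    (isFullyCentralized_of_le_centralizer hf.img_le (by
      rw [img_zpowers hf.mulOn (mem_zpowers x), e3]
      intro s hs y hy
      obtain ⟨j, rfl⟩ := mem_zpowers_iff.1 hy
      exact ((C.commute_ζ hs r).zpow_right j).symm))
  exact ⟨g, r, hg.restrict le_sup_right, (e4 x (mem_zpowers x)).trans e3⟩

theorem EC.mem_Gam {A : Submodule (ZMod p) W} {X : C.EC F e A} {γ : VV p A ≃ₗ[ZMod p] VV p A} :
    γ ∈ X.Gam ↔ ∃ k : Perm Ω, PIso F k (CS S e) (CS S e) ∧ ∀ v, k (X.el v) = X.el (γ v) := Iff.rfl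

theorem EC.mem_normalizer [Finite S] {A : Submodule (ZMod p) W} (X : C.EC F e A) {y : Ω}
    (hy : y ∈ Q) (h : (C.u e - 1) (C.ν y) ∈ A) : y ∈ normalizerIn S (CS S e) := by
  have : Finite (CS S e) := finite_of_le CS_le
  refine mem_normalizerIn_of_finite (C.le hy) fun x hx => ?_
  obtain ⟨⟨s, d, r⟩, rfl⟩ := (X.el_mem x).1 hx
  exact (X.el_mem _).2 ⟨_, (X.conj y hy h s d r).symm⟩

/-- Conjugation by an element of `Q` in coordinates. -/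
theorem EC.exists_t [Finite S] {A : Submodule (ZMod p) W} (X : C.EC F e A) {w : W}
    (h : (C.u e - 1) w ∈ A) : ∃ t ∈ X.Gam, ∀ s d r,
      t (s, d, r) = (s + C.ω w d + r * X.κ w, d - r • ⟨_, h⟩, r) := by
  obtain ⟨y, hy, rfl⟩ := C.ν_surj w
  have hi := PIso.cj F CS_le (X.mem_normalizer hy h)
  obtain ⟨γ, hγ⟩ := X.lin _ hi
  exact ⟨γ, ⟨_, hi, hγ⟩, fun s d r => X.el_inj (by rw [← hγ, ← X.conj y hy h]; rfl)⟩

end Co

end Cfsg.Lib.XS
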