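import Cfsg.Agent.Fus.Normal
import Cfsg.Prelude.Def_Transfer
import Cfsg.Prelude.Def_Classical
import Cfsg.Prelude.Def_G2
import Mathlib.LinearAlgebra.BilinearForm.Basic
import Mathlib.LinearAlgebra.Dimension.Finrank
import Mathlib.Algebra.Field.ZMod

/-! Fusion systems on a `p`-group with an extraspecial subgroup of index `p`: definitions and the
statements of the steps. -/

set_option autoImplicit false

universe u

namespace Cfsg.Lib.XS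

open Cfsg Cfsg.FusionSystem Cfsg.Lib.Fus Module Subgroup Equiv

section Lin

variable {p : ℕ} [Fact p.Prime] {W W' : Type} [AddCommGroup W] [Module (ZMod p) W]
  [AddCommGroup W'] [Module (ZMod p) W']

/-- Bilinear forms over the prime field. -/
abbrev BF (p : ℕ) (W : Type) [AddCommGroup W] [Module (ZMod p) W] := W →ₗ[ZMod p] W →ₗ[ZMod p] ZMod p

/-- A symplectic space with a unipotent isometry. -/
structure Sy (ω : BF p W) (u : End (ZMod p) W) : Prop where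
  odd : p ≠ 2
  alt : ∀ w, ω w w = 0
  nd : ∀ w, (∀ v, ω w v = 0) → w = 0
  iso : ∀ v w, ω (u v) (u w) = ω v w
  nil : (u - 1) ^ p = 0

/-- One Jordan block of size four. -/
def T4 (u : End (ZMod p) W) : Prop := finrank (ZMod p) W = 4 ∧ (u - 1) ^ 3 ≠ 0

/-- Two Jordan blocks of size two. -/
def T22 (u : End (ZMod p) W) : Prop :=
  finrank (ZMod p) W = 4 ∧ (u - 1) ^ 2 = 0 ∧ ∀ w, (u - 1) w = 0 → ∃ v, (u - 1) v = w

/-- The form `ω v ((u - 1) w)` is isotropic. -/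
def Iso (ω : BF p W) (u : End (ZMod p) W) : Prop := ∃ v, (u - 1) v ≠ 0 ∧ ω v ((u - 1) v) = 0

/-- Equivalence up to a similitude. -/
def Eqv (ω : BF p W) (u : End (ZMod p) W) (ω' : BF p W') (u' : End (ZMod p) W') : Prop :=
  ∃ (φ : W ≃ₗ[ZMod p] W') (c : ZMod p), c ≠ 0 ∧ (∀ w, φ (u w) = u' (φ w)) ∧
    ∀ v w, ω' (φ v) (φ w) = c * ω v w

/-- Elements of a group `G` satisfying the relations of the split extension. -/
structure Mod (G : Type) [Group G] (ω : BF p W) (u : End (ZMod p) W) where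
  /-- the section -/
  σ : W → G
  /-- the centre -/
  ζ : ZMod p → G
  /-- the element acting as `u` -/
  e : G
  ζ_add : ∀ s t, ζ (s + t) = ζ s * ζ t
  ζ_inj : ∀ t, ζ t = 1 → t = 0
  mul : ∀ v w, σ v * σ w = σ (v + w) * ζ (ω v w / 2)
  ζσ : ∀ t w, ζ t * σ w = σ w * ζ t
  ζe : ∀ t, e * ζ t = ζ t * e
  conj : ∀ w, e * σ w = σ (u w) * e
  pow : e ^ p = 1

/-- The function measuring the action on the element outside the extraspecial group. -/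
structure Kp (ω : BF p W) (u : End (ZMod p) W) (A : Submodule (ZMod p) W) (κ : W → ZMod p) :
    Prop where
  ker : ∀ w ∈ A, (u - 1) w = 0
  iso : ∀ v ∈ A, ∀ w ∈ A, ω v w = 0
  cod : ∃ μ : W →ₗ[ZMod p] ZMod p, ∀ w, (u - 1) w = 0 → μ w = 0 → w ∈ A
  add : ∀ v w, (u - 1) v ∈ A → (u - 1) w ∈ A → κ (v + w) = κ v + κ w - ω v ((u - 1) w)
  zero : ∀ v, (u - 1) v ∈ A → (κ v = 0 ↔ v ∈ A)

/-- Coordinates on an elementary abelian essential subgroup. -/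
abbrev VV (p : ℕ) (D : Type) := ZMod p × D × ZMod p

/-- A linear group whose orbit of the first axis meets the hyperplane `r = 0` only there. -/
structure LS (Γ : Subgroup (VV p W ≃ₗ[ZMod p] VV p W)) : Prop where
  odd : p ≠ 2
  om : ∀ γ ∈ Γ, (γ (1, 0, 0)).2.2 = 0 → (γ (1, 0, 0)).2.1 = 0
  gg : ∃ g ∈ Γ, g (1, 0, 0) = (0, 0, 1) ∧ ∀ s d, (g (s, d, 0)).1 = 0

/-- Jordan types allowed by a special vector. -/
def LJor (ω : BF p W) (u : End (ZMod p) W) : Prop :=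
  Sy ω u → finrank (ZMod p) W = 4 → ∀ b, (u - 1) b ≠ 0 → (u - 1) ((u - 1) b) = 0 →
    ω b ((u - 1) b) = 0 → T4 u ∨ T22 u

/-- Uniqueness for one Jordan block. -/
def L4 (ω : BF p W) (u : End (ZMod p) W) (ω' : BF p W') (u' : End (ZMod p) W') : Prop :=
  Sy ω u → Sy ω' u' → T4 u → T4 u' → Eqv ω u ω' u'

/-- Uniqueness for two Jordan blocks. -/
def L22 (ω : BF p W) (u : End (ZMod p) W) (ω' : BF p W') (u' : End (ZMod p) W') : Prop :=
  Sy ω u → Sy ω' u' → T22 u → T22 u' → (Iso ω u ↔ Iso ω' u') → Eqv ω u ω' u'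

/-- The quadratic function without zeros. -/
def LNa (ω : BF p W) (u : End (ZMod p) W) (A : Submodule (ZMod p) W) (κ : W → ZMod p) : Prop :=
  Sy ω u → Kp ω u A κ →
    finrank (ZMod p) (A.comap (u - 1)) ≤ finrank (ZMod p) A + 1 ∨
      finrank (ZMod p) (A.comap (u - 1)) ≤ finrank (ZMod p) A + 2 ∧
        ∀ v, (u - 1) v ∈ A → κ v = -ω v ((u - 1) v) / 2

/-- The three configurations. -/
def LNb (ω : BF p W) (u : End (ZMod p) W) (A : Submodule (ZMod p) W) (κ : W → ZMod p) : Prop :=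
  Sy ω u → Kp ω u A κ → 4 ≤ finrank (ZMod p) W → u ≠ 1 →
    A = ⊥ ∧ finrank (ZMod p) (LinearMap.ker (u - 1)) = 1 ∨
      A = LinearMap.ker (u - 1) ∧ finrank (ZMod p) (LinearMap.ker (u - 1)) = 1 ∨
      A = LinearMap.ker (u - 1) ∧ T22 u ∧ ∀ v, κ v = -ω v ((u - 1) v) / 2

/-- No transvection with a centre off the axis point. -/
def LR1 (Γ : Subgroup (VV p W ≃ₗ[ZMod p] VV p W)) : Prop :=
  LS Γ → ∀ t ∈ Γ, ∀ (a : W) (k : ZMod p), a ≠ 0 → k ≠ 0 →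
    ¬ ∀ s d r, t (s, d, r) = (s + r * k, d + r • a, r)

/-- The elliptic quadric. -/
def LR2 (Γ : Subgroup (VV p W ≃ₗ[ZMod p] VV p W)) : Prop :=
  LS Γ → finrank (ZMod p) W = 2 → ∀ B : BF p W, (∀ b d, B b d = B d b) →
    (∀ d, B d d = 0 → d = 0) →
    (∀ b, ∃ t ∈ Γ, ∀ s d r, t (s, d, r) = (s + B b d + r * (B b b / 2), d + r • b, r)) →
    ∃ h ∈ Γ, ∃ μ : ZMod p, μ ≠ 0 ∧ ∀ s d r, h (s, d, r) = (μ * s, -d, μ⁻¹ * r)

/-- The torus of the special linear group of the plane. -/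
def LP0 (Γ : Subgroup (VV p W ≃ₗ[ZMod p] VV p W)) : Prop :=
  LS Γ → (∀ d : W, d = 0) → ∀ t ∈ Γ, ∀ k : ZMod p, k ≠ 0 →
    (∀ s d r, t (s, d, r) = (s + r * k, d, r)) →
    ∀ l : ZMod p, l ≠ 0 → ∃ τ ∈ Γ, ∀ s d r, τ (s, d, r) = (l⁻¹ * s, d, l * r)

/-- The weights of the torus on one Jordan block. -/
def LP3 (ω : BF p W) (u : End (ZMod p) W) : Prop :=
  Sy ω u → finrank (ZMod p) (LinearMap.ker (u - 1)) = 1 →
    ∀ (π : W →ₗ[ZMod p] ZMod p) (h : W ≃ₗ[ZMod p] W) (l : ZMod p), l ≠ 0 →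
      (∀ w, π ((u - 1) w) = 0) → (∀ w, h (u w) = (u ^ l.val) (h w)) →
      (∀ v w, ω (h v) (h w) = l⁻¹ * ω v w) → (∀ w, π (h w) = l⁻¹ * π w) →
      (∀ w, (u - 1) w = 0 → h w = (l⁻¹ * l⁻¹) • w) →
      l ^ (finrank (ZMod p) W + 2) = 1 ∧ (π ≠ 0 → l ^ finrank (ZMod p) W = 1)

end Lin

section Models

variable (p : ℕ) [Fact p.Prime]

/-- A model of the given type inside `G`, of the order of a Sylow subgroup. -/
def HasMod (G : Type) [Group G]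
    (T : ∀ (W : Type) [AddCommGroup W] [Module (ZMod p) W], BF p W → End (ZMod p) W → Prop) :
    Prop :=
  Finite G ∧ ¬ p ^ 7 ∣ Nat.card G ∧
    ∃ (W : Type) (_ : AddCommGroup W) (_ : Module (ZMod p) W) (_ : Finite W) (ω : BF p W)
      (u : End (ZMod p) W), Sy ω u ∧ T W ω u ∧ Nonempty (Mod G ω u)

/-- The model in the special linear group. -/
def MSL : Prop := p ≠ 2 →
  HasMod p (Matrix.SpecialLinearGroup (Fin 4) (ZMod p)) fun _ _ _ ω u => T22 u ∧ Iso ω u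

/-- The model in the special unitary group. -/
def MSU : Prop := p ≠ 2 →
  ∃ (K : Type) (_ : Field K) (_ : Fintype K), Fintype.card K = p ^ 2 ∧
    HasMod p (SU 4 K p) fun _ _ _ ω u => T22 u ∧ ¬ Iso ω u

/-- The model in the exceptional group. -/
def MG2 : Prop := 5 ≤ p → HasMod p (Lie.G2 (ZMod p)) fun _ _ _ _ u => T4 u

end Models

/-- Coordinates for a `p`-group `S` with an extraspecial subgroup `Q` of index `p`. -/
structure Co (p : ℕ) [Fact p.Prime] {Ω : Type u} [Group Ω] (S Q : Subgroup Ω) (W : Type)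
    [AddCommGroup W] [Module (ZMod p) W] where
  /-- the projection of `Q` onto its central quotient -/
  ν : Ω → W
  /-- the centre -/
  ζ : ZMod p → Ω
  /-- the commutator form -/
  ω : BF p W
  /-- the power map -/
  π : W →ₗ[ZMod p] ZMod p
  /-- the action of `S` -/
  u : Ω → End (ZMod p) W
  odd : p ≠ 2
  pgrp : IsPGroup p S
  le : Q ≤ S
  idx : Q.relIndex S = p
  dim : 4 ≤ finrank (ZMod p) W
  ν_mul : ∀ a ∈ Q, ∀ b ∈ Q, ν (a * b) = ν a + ν b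
  ν_surj : ∀ w, ∃ a ∈ Q, ν a = w
  ν_ker : ∀ a ∈ Q, ν a = 0 → ∃ t, a = ζ t
  ν_ζ : ∀ t, ν (ζ t) = 0
  ζ_add : ∀ s t, ζ (s + t) = ζ s * ζ t
  ζ_inj : ∀ t, ζ t = 1 → t = 0
  ζ_mem : ∀ t, ζ t ∈ Q
  ζ_cen : ∀ s ∈ S, ∀ t, s * ζ t = ζ t * s
  comm : ∀ a ∈ Q, ∀ b ∈ Q, a * b = ζ (ω (ν a) (ν b)) * (b * a)
  alt : ∀ w, ω w w = 0
  nd : ∀ w, (∀ v, ω w v = 0) → w = 0
  pow : ∀ a ∈ Q, a ^ p = ζ (π (ν a))
  nrm : ∀ s ∈ S, ∀ a ∈ Q, s * a * s⁻¹ ∈ Q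
  conj : ∀ s ∈ S, ∀ a ∈ Q, ν (s * a * s⁻¹) = u s (ν a)
  ctr : ∀ e ∈ S, e ∉ Q → u e ≠ 1

/-- Existence of the coordinates. -/
def WCo : Prop :=
  ∀ {Ω : Type u} [Group Ω] {S : Subgroup Ω} [Finite S] (p : ℕ) [Fact p.Prime], p ≠ 2 →
    IsPGroup p S → ∀ Q : Subgroup Ω, Q ≤ S → IsExtraspecial p Q → Q.relIndex S = p →
    p ^ 6 ≤ Nat.card S → S ⊓ centralizer (S : Set Ω) = Q ⊓ centralizer (Q : Set Ω) →
    ∃ m : ℕ, Nonempty (Co p S Q (Fin m → ZMod p))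

/-- The centraliser in `S` of an element. -/
def CS {Ω : Type u} [Group Ω] (S : Subgroup Ω) (x : Ω) : Subgroup Ω := centralizerIn S (zpowers x)

/-- Extension of an automorphism stabilising a chain to the normaliser. -/
def WUp {Ω : Type u} [Group Ω] {S : Subgroup Ω} (F : FusionSystem S) : Prop :=
  ∀ (R : Subgroup Ω) (τ : Perm Ω) (n : ℕ) (c : ℕ → Subgroup Ω), F.IsFullyNormalized R →
    PIso F τ R R → c 0 = ⊥ → c n = R → (∀ j < n, c j ≤ c (j + 1)) →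
    (∀ j ≤ n, ∀ x ∈ c j, τ x ∈ c j) →
    (∀ j < n, ∀ s ∈ normalizerIn S R, ∀ x ∈ c (j + 1), s * x * s⁻¹ * x⁻¹ ∈ c j) →
    ∃ g : Perm Ω, PIso F g (normalizerIn S R) (normalizerIn S R) ∧ ∀ x ∈ R, g x = τ x

namespace Co

variable {p : ℕ} [Fact p.Prime] {Ω : Type u} [Group Ω] {S Q : Subgroup Ω} {W : Type}
  [AddCommGroup W] [Module (ZMod p) W] (C : Co p S Q W) (F : FusionSystem S)

/-- Conjugate in the system into the centre. -/
def Zc (x : Ω) : Prop := ∃ t, F.IsConjElt x (C.ζ t)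

/-- No element of `Q` outside the centre is conjugate into the centre. -/
def NQ : Prop := ∀ a ∈ Q, C.Zc F a → C.ν a = 0

/-- Special elements of `Q`. -/
def Sp (l : Ω) : Prop :=
  l ∈ Q ∧ C.ν l ≠ 0 ∧ ∃ e ∈ S, e ∉ Q ∧ e * l = l * e ∧
    ∃ b, (C.u e - 1) b = C.ν l ∧ C.ω b (C.ν l) = 0

/-- `e` centralises the preimage of its fixed space. -/
def Cen (e : Ω) : Prop := ∀ a ∈ Q, (C.u e - 1) (C.ν a) = 0 → e * a = a * e

/-- The hypotheses of the recognition of `S`. -/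
structure Good (e : Ω) : Prop where
  mem : e ∈ S
  out : e ∉ Q
  pow : e ^ p = 1
  pi : C.π = 0
  cen : C.Cen e
  ty : T4 (C.u e) ∨ T22 (C.u e)

/-- An equivariant section. -/
def Spl (e : Ω) : Prop :=
  ∃ σ : W → Ω, (∀ w, σ w ∈ Q) ∧ (∀ w, C.ν (σ w) = w) ∧
    (∀ v w, σ v * σ w = σ (v + w) * C.ζ (C.ω v w / 2)) ∧ ∀ w, e * σ w = σ (C.u e w) * e

/-- The linear map and the multiplier induced by an automorphism of `S`. -/
structure Ind (g : Perm Ω) (h : W ≃ₗ[ZMod p] W) (μ : ZMod p) : Prop where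
  mem : ∀ a ∈ Q, g a ∈ Q
  ν : ∀ a ∈ Q, C.ν (g a) = h (C.ν a)
  ne : μ ≠ 0
  ζ : ∀ t, g (C.ζ t) = C.ζ (μ * t)
  ω : ∀ v w, C.ω (h v) (h w) = μ * C.ω v w
  π : ∀ w, C.π (h w) = μ * C.π w
  u : ∀ s ∈ S, ∀ w, h (C.u s w) = C.u (g s) (h w)

/-- An elementary abelian essential subgroup `C_S(e)` moving the centre out of `Q`. -/
structure Ne (e : Ω) (g : Perm Ω) : Prop where
  mem : e ∈ S
  out : e ∉ Q
  fn : F.IsFullyNormalized (CS S e)
  iso : PIso F g (CS S e) (CS S e)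
  gz : g (C.ζ 1) = e
  comm : ∀ a ∈ CS S e, ∀ b ∈ CS S e, a * b = b * a
  pow : ∀ a ∈ CS S e, a ^ p = 1

/-- Linear coordinates on `C_S(e)`. -/
structure EC (e : Ω) (A : Submodule (ZMod p) W) where
  /-- the coordinates -/
  el : VV p A → Ω
  /-- the central coordinate of the conjugates of `e` -/
  κ : W → ZMod p
  memA : ∀ a ∈ Q, C.ν a ∈ A ↔ e * a = a * e
  el_add : ∀ v w, el (v + w) = el v * el w
  el_inj : Function.Injective el
  el_mem : ∀ x, x ∈ CS S e ↔ ∃ v, el v = x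
  el_z : ∀ s, el (s, 0, 0) = C.ζ s
  el_e : ∀ r : ZMod p, el (0, 0, r) = e ^ r.val
  el_Q : ∀ v, el v ∈ Q ↔ v.2.2 = 0
  el_ν : ∀ s d, C.ν (el (s, d, 0)) = d
  lin : ∀ k : Perm Ω, PIso F k (CS S e) (CS S e) →
    ∃ γ : VV p A ≃ₗ[ZMod p] VV p A, ∀ v, k (el v) = el (γ v)
  gg : ∃ (g : Perm Ω) (γ : VV p A ≃ₗ[ZMod p] VV p A), PIso F g (CS S e) (CS S e) ∧
    (∀ v, g (el v) = el (γ v)) ∧ γ (1, 0, 0) = (0, 0, 1) ∧ ∀ s d, (γ (s, d, 0)).1 = 0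
  conj : ∀ y ∈ Q, ∀ (h : (C.u e - 1) (C.ν y) ∈ A) (s : ZMod p) (d : A) (r : ZMod p),
    y * el (s, d, r) * y⁻¹ = el (s + C.ω (C.ν y) d + r * κ (C.ν y), d - r • ⟨_, h⟩, r)

/-- The automiser in coordinates. -/
def EC.Gam {C : Co p S Q W} {F : FusionSystem S} {e : Ω} {A : Submodule (ZMod p) W}
    (X : C.EC F e A) : Subgroup (VV p A ≃ₗ[ZMod p] VV p A) where
  carrier := {γ | ∃ k : Perm Ω, PIso F k (CS S e) (CS S e) ∧ ∀ v, k (X.el v) = X.el (γ v)}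
  one_mem' := by
    obtain ⟨g, -, hg, -⟩ := X.gg
    exact ⟨1, PIso.refl F hg.le_left, fun _ => rfl⟩
  mul_mem' := by
    rintro φ ψ ⟨f, hf, e⟩ ⟨g, hg, e'⟩
    exact ⟨f * g, hg.trans hf, fun v => by rw [Perm.mul_apply, e', e]; rfl⟩
  inv_mem' := by
    rintro φ ⟨f, hf, e⟩
    refine ⟨f⁻¹, hf.symm, fun v => ?_⟩
    rw [Perm.inv_eq_iff_eq, e]
    exact congrArg X.el (φ.apply_symm_apply v).symm

/-- A pearl. -/
structure Pl (e : Ω) : Prop where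
  mem : e ∈ S
  out : e ∉ Q
  pow : e ^ p = 1
  one : finrank (ZMod p) (LinearMap.ker (C.u e - 1)) = 1
  cen : ∀ a ∈ Q, e * a = a * e → C.ν a = 0

/-- The preimage of the kernel of a power of `u e - 1`. -/
def Kh (e : Ω) (i : ℕ) : Subgroup Ω where
  carrier := {a | a ∈ Q ∧ ((C.u e - 1) ^ i) (C.ν a) = 0}
  one_mem' := ⟨Q.one_mem, by
    have : C.ν 1 = 0 := by simpa using C.ν_mul 1 Q.one_mem 1 Q.one_mem
    rw [this, map_zero]⟩
  mul_mem' := by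
    rintro a b ⟨ha, e1⟩ ⟨hb, e2⟩
    exact ⟨Q.mul_mem ha hb, by rw [C.ν_mul a ha b hb, map_add, e1, e2, add_zero]⟩
  inv_mem' := by
    rintro a ⟨ha, e1⟩
    refine ⟨Q.inv_mem ha, ?_⟩
    have h1 : C.ν 1 = 0 := by simpa using C.ν_mul 1 Q.one_mem 1 Q.one_mem
    have h2 := C.ν_mul a⁻¹ (Q.inv_mem ha) a ha
    rw [inv_mul_cancel, h1] at h2
    rw [eq_neg_of_add_eq_zero_left h2.symm, map_neg, e1, neg_zero]

/-- The tower above a pearl. -/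
def Rh (e : Ω) (i : ℕ) : Subgroup Ω := C.Kh e i ⊔ zpowers e

/-- The section exists. -/
def WSpl : Prop := ∀ e ∈ S, e ∉ Q → C.π = 0 → C.Cen e → C.Spl e

/-- Embedding into a model. -/
def WEmb : Prop :=
  ∀ e ∈ S, e ∉ Q → e ^ p = 1 → C.Spl e → ∀ (W' : Type) [AddCommGroup W'] [Module (ZMod p) W']
    (ω' : BF p W') (u' : End (ZMod p) W') (G : Type) [Group G], Eqv C.ω (C.u e) ω' u' →
    Nonempty (Mod G ω' u') → ∃ φ : S →* G, Function.Injective φ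

/-- Automorphisms of `S` act on the coordinates. -/
def WChar : Prop :=
  ∀ e ∈ S, e ∉ Q → 2 ≤ finrank (ZMod p) (LinearMap.range (C.u e - 1)) →
    ∀ g : Perm Ω, PIso F g S S → ∃ h μ, C.Ind g h μ

/-- An element of `Q` conjugate into the centre. -/
def WQ1 : Prop :=
  ∀ (l : Ω) (ψ : Perm Ω) (t : ZMod p), l ∈ Q → C.ν l ≠ 0 → Mor F (CS S l) ψ → ψ l = C.ζ t →
    finrank (ZMod p) W = 4 ∧ C.Sp (ψ (C.ζ 1)) ∧ ∃ c ∈ Q, c * l = l * c ∧ ψ c ∉ Q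

/-- The central involution of the rank one group extends to `S`. -/
def WExp : Prop :=
  ∀ (l : Ω) (ψ : Perm Ω) (t : ZMod p), l ∈ Q → C.ν l ≠ 0 → (∃ e ∈ S, e ∉ Q ∧ e * l = l * e) →
    Mor F (CS S l) ψ → ψ l = C.ζ t → (∃ (i : ℕ) (s : ZMod p), ψ (C.ζ 1) = l ^ i * C.ζ s) →
    ∃ g : Perm Ω, PIso F g S S ∧ g l = l⁻¹ ∧ ∀ s, g (C.ζ s) = C.ζ (-s)

/-- The abelian subgroup of order `p ^ 4` for two Jordan blocks. -/
def WV : Prop :=
  ∀ (l : Ω) (ψ : Perm Ω) (t : ZMod p), C.Sp l → C.Sp (ψ (C.ζ 1)) → Mor F (CS S l) ψ →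
    ψ l = C.ζ t → (∀ e ∈ S, e ∉ Q → T22 (C.u e)) →
    (∃ e ∈ S, e ∉ Q ∧ e ^ p = 1 ∧ C.Cen e) ∧ (∀ w, C.ω w (C.ν l) = 0 → C.π w = 0) ∧
      ∀ w, C.ω w (C.ν (ψ (C.ζ 1))) = 0 → C.π w = 0

/-- The case of an element of `Q` conjugate into the centre. -/
def WQ : Prop := ¬ C.NQ F → ∃ e, C.Good e

/-- The essential subgroup moving the centre. -/
def WN1 : Prop := F.core = ⊥ → C.NQ F → ∃ e g, C.Ne F e g

/-- The coordinates on it exist. -/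
def WEC : Prop := C.NQ F → ∀ e g, C.Ne F e g → ∃ A, Nonempty (C.EC F e A)

/-- The central coordinate has no zeros. -/
def WKap : Prop :=
  C.NQ F → ∀ e g, C.Ne F e g → ∀ (A : Submodule (ZMod p) W) (X : C.EC F e A),
    Kp C.ω (C.u e) A X.κ ∧ LS X.Gam

/-- The first configuration does not occur. -/
def WR1 : Prop :=
  ∀ e ∈ S, e ∉ Q → ∀ (A : Submodule (ZMod p) W) (X : C.EC F e A), Kp C.ω (C.u e) A X.κ →
    LS X.Gam → A = LinearMap.ker (C.u e - 1) →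
    finrank (ZMod p) (LinearMap.ker (C.u e - 1)) ≠ 1

/-- The unitary configuration. -/
def WR2 : Prop :=
  ∀ e g, C.Ne F e g → ∀ (A : Submodule (ZMod p) W) (X : C.EC F e A), Kp C.ω (C.u e) A X.κ →
    LS X.Gam → A = LinearMap.ker (C.u e - 1) → T22 (C.u e) →
    (∀ v, X.κ v = -C.ω v ((C.u e - 1) v) / 2) → C.Good e

/-- The torus acting on the pearl. -/
def WP0 : Prop :=
  ∀ e g, C.Ne F e g → ∀ X : C.EC F e ⊥, Kp C.ω (C.u e) ⊥ X.κ → LS X.Gam →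
    finrank (ZMod p) (LinearMap.ker (C.u e - 1)) = 1 →
    C.Pl e ∧ ∀ l : ZMod p, l ≠ 0 → ∃ τ : Perm Ω, PIso F τ (CS S e) (CS S e) ∧
      (∀ s, τ (C.ζ s) = C.ζ (l⁻¹ * s)) ∧ τ e = e ^ l.val

/-- The tower above an element with one Jordan block. -/
def WP1a : Prop :=
  ∀ e ∈ S, e ∉ Q → e ^ p = 1 → finrank (ZMod p) (LinearMap.ker (C.u e - 1)) = 1 →
    C.Rh e (finrank (ZMod p) W) = S ∧
    (∀ w, ((C.u e - 1) ^ (finrank (ZMod p) W - 1)) w = 0 → ∃ v, (C.u e - 1) v = w) ∧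
    (∀ i < finrank (ZMod p) W, normalizerIn S (C.Rh e i) = C.Rh e (i + 1)) ∧
    ∀ i ≤ finrank (ZMod p) W, Nat.card (C.Rh e i) = p ^ (i + 2) ∧ C.Rh e i ⊓ Q = C.Kh e i ∧
      ∀ B : Subgroup Ω, B ≤ Q → (∀ t, C.ζ t ∈ B) → (∀ x ∈ B, e * x * e⁻¹ ∈ B) →
        Nat.card B = p ^ (i + 1) → B = C.Kh e i

/-- The tower above a pearl in the fusion system. -/
def WP1b : Prop :=
  C.NQ F → ∀ e, C.Pl e → C.Zc F e → ∀ i, 1 ≤ i → i < finrank (ZMod p) W →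
    F.IsFullyNormalized (C.Rh e i) ∧
      ∀ φ : Perm Ω, PIso F φ (C.Rh e i) (C.Rh e i) → ∀ j ≤ i, ∀ x ∈ C.Kh e j, φ x ∈ C.Kh e j

/-- The torus extends to `S`. -/
def WP2 : Prop :=
  C.NQ F → ∀ e, C.Pl e → C.Zc F e → F.IsFullyNormalized (CS S e) → ∀ (τ : Perm Ω) (m : ZMod p),
    PIso F τ (CS S e) (CS S e) → (∀ s, τ (C.ζ s) = C.ζ (m * s)) →
    ∃ g : Perm Ω, PIso F g S S ∧ ∀ x ∈ CS S e, g x = τ x

/-- The order and the exponent of `Q` for a pearl. -/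
def WP3 : Prop :=
  ∀ e, C.Pl e → (∀ l : ZMod p, l ≠ 0 → ∃ g : Perm Ω, PIso F g S S ∧
    (∀ s, g (C.ζ s) = C.ζ (l⁻¹ * s)) ∧ g e = e ^ l.val) →
    finrank (ZMod p) W + 3 = p ∧ C.π = 0

/-- The class and the exponent of `S` for one Jordan block. -/
def WP4 [Group.IsNilpotent S] : Prop :=
  ∀ e ∈ S, e ∉ Q → finrank (ZMod p) (LinearMap.ker (C.u e - 1)) = 1 →
    Group.nilpotencyClass S = finrank (ZMod p) W + 1 ∧
      (finrank (ZMod p) W + 3 = p → C.π = 0 → e ^ p = 1 → ∀ x ∈ S, x ^ p = 1)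

end Co

end Cfsg.Lib.XS
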