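import Cfsg.Agent.XS.Defs
import Mathlib.LinearAlgebra.Dual.Lemmas
import Mathlib.LinearAlgebra.BilinearForm.Orthogonal
import Mathlib.LinearAlgebra.Charpoly.Basic
import Mathlib.LinearAlgebra.Eigenspace.Zero

/-! Symplectic spaces with a unipotent isometry. -/

set_option autoImplicit false

namespace Cfsg.Lib.XS

open Module

variable {p : ℕ} [Fact p.Prime] {W : Type} [AddCommGroup W] [Module (ZMod p) W]
  {ω : BF p W} {u : End (ZMod p) W}

theorem two_ne (h : p ≠ 2) : (2 : ZMod p) ≠ 0 := by
  intro e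
  have : (p : ℕ) ∣ 2 := (ZMod.natCast_eq_zero_iff 2 p).1 (by exact_mod_cast e)
  exact h ((Nat.prime_dvd_prime_iff_eq Fact.out Nat.prime_two).1 this)

theorem skew_of_alt (h : ∀ w, ω w w = 0) (v w : W) : ω v w = -ω w v := by
  have := h (v + w)
  simp only [map_add, LinearMap.add_apply, h] at this
  linear_combination this

theorem sub_one_apply (u : End (ZMod p) W) (w : W) : (u - 1) w = u w - w := rfl

/-- Every functional is represented by the form. -/
theorem rep_of_nd [Finite W] (h : ∀ w, (∀ v, ω w v = 0) → w = 0) (μ : W →ₗ[ZMod p] ZMod p) :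
    ∃ a, ω a = μ := by
  have hi : Function.Injective (ω : W →ₗ[ZMod p] Dual (ZMod p) W) := by
    rw [← LinearMap.ker_eq_bot, LinearMap.ker_eq_bot']
    intro w hw
    exact h w fun v => by rw [show ω w = 0 from hw]; rfl
  exact (LinearMap.injective_iff_surjective_of_finrank_eq_finrank
    (Subspace.dual_finrank_eq (K := ZMod p) (V := W)).symm).1 hi μ

/-- The orthogonal of a subspace. -/
def perp (ω : BF p W) (B : Submodule (ZMod p) W) : Submodule (ZMod p) W where
  carrier := {v | ∀ w ∈ B, ω v w = 0}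
  zero_mem' := fun w _ => by simp
  add_mem' := fun ha hb w hw => by rw [map_add, LinearMap.add_apply, ha w hw, hb w hw, add_zero]
  smul_mem' := fun c v hv w hw => by rw [map_smul, LinearMap.smul_apply, hv w hw, smul_zero]

theorem mem_perp {B : Submodule (ZMod p) W} {v : W} : v ∈ perp ω B ↔ ∀ w ∈ B, ω v w = 0 := Iff.rfl

theorem finrank_perp [Finite W] (h : ∀ w, (∀ v, ω w v = 0) → w = 0) (B : Submodule (ZMod p) W) :
    finrank (ZMod p) (perp ω B) + finrank (ZMod p) B = finrank (ZMod p) W := by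
  let φ : W →ₗ[ZMod p] Dual (ZMod p) B := B.subtype.dualMap ∘ₗ ω
  have hk : LinearMap.ker φ = perp ω B := by
    ext v
    rw [LinearMap.mem_ker, mem_perp]
    exact ⟨fun e w hw => by simpa [φ] using LinearMap.congr_fun e ⟨w, hw⟩,
      fun e => LinearMap.ext fun w => by simpa [φ] using e w w.2⟩
  have hs : LinearMap.range φ = ⊤ := by
    rw [LinearMap.range_eq_top]
    intro μ
    obtain ⟨μ', e⟩ := LinearMap.dualMap_surjective_of_injective B.injective_subtype μ
    obtain ⟨a, rfl⟩ := rep_of_nd h μ'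
    exact ⟨a, e⟩
  have := φ.finrank_range_add_finrank_ker
  rw [hk, hs, finrank_top, Subspace.dual_finrank_eq] at this
  omega

theorem iso_dim_of_nd [Finite W] (h : ∀ w, (∀ v, ω w v = 0) → w = 0) (B : Submodule (ZMod p) W)
    (hB : ∀ v ∈ B, ∀ w ∈ B, ω v w = 0) : 2 * finrank (ZMod p) B ≤ finrank (ZMod p) W := by
  have h1 := finrank_perp h B
  have h2 : finrank (ZMod p) B ≤ finrank (ZMod p) (perp ω B) := Submodule.finrank_mono hB
  omega

namespace Sy

variable (h : Sy ω u)
include h

theorem two : (2 : ZMod p) ≠ 0 := two_ne h.odd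

theorem skew (v w : W) : ω v w = -ω w v := skew_of_alt h.alt v w

theorem adj (v w : W) : ω ((u - 1) v) w + ω v ((u - 1) w) + ω ((u - 1) v) ((u - 1) w) = 0 := by
  have := h.iso v w
  simp only [map_sub, LinearMap.sub_apply, End.one_apply]
  linear_combination this

theorem perp {w : W} (hw : (u - 1) w = 0) (v : W) : ω ((u - 1) v) w = 0 := by
  simpa [hw] using h.adj v w

theorem perp' {w : W} (hw : (u - 1) w = 0) (v : W) : ω w ((u - 1) v) = 0 := by
  rw [h.skew, h.perp hw, neg_zero]

theorem pow_p : u ^ p = 1 := by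
  have e := h.nil
  have : ExpChar (ZMod p) p := ExpChar.prime Fact.out
  by_cases hW : Nontrivial (End (ZMod p) W)
  · have : CharP (End (ZMod p) W) p := charP_of_injective_algebraMap
      (algebraMap (ZMod p) (End (ZMod p) W)).injective p
    rw [sub_pow_char_of_commute p (Commute.one_right u), one_pow, sub_eq_zero] at e
    exact e
  · rw [not_nontrivial_iff_subsingleton] at hW
    exact Subsingleton.elim _ _

variable [Finite W]

theorem rep (μ : W →ₗ[ZMod p] ZMod p) : ∃ a, ω a = μ := rep_of_nd h.nd μ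

theorem iso_dim (B : Submodule (ZMod p) W) (hB : ∀ v ∈ B, ∀ w ∈ B, ω v w = 0) :
    2 * finrank (ZMod p) B ≤ finrank (ZMod p) W := iso_dim_of_nd h.nd B hB

theorem range_eq : LinearMap.range (u - 1) = XS.perp ω (LinearMap.ker (u - 1)) := by
  apply Submodule.eq_of_le_of_finrank_le
  · rintro _ ⟨v, rfl⟩ w hw
    exact h.perp hw v
  · have h1 := finrank_perp h.nd (LinearMap.ker (u - 1))
    have h2 := (u - 1).finrank_range_add_finrank_ker
    omega

theorem mem_range {v : W} (hv : ∀ w, (u - 1) w = 0 → ω v w = 0) : ∃ x, (u - 1) x = v := by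
  have : v ∈ LinearMap.range (u - 1) := h.range_eq ▸ fun w hw => hv w hw
  exact this

/-- The kernel is the orthogonal of the range. -/
theorem mem_ker {w : W} (hw : ∀ v, ω w ((u - 1) v) = 0) : (u - 1) w = 0 := by
  apply h.nd
  intro v
  have hi : Function.Injective u := by
    rw [← LinearMap.ker_eq_bot, LinearMap.ker_eq_bot']
    intro x hx
    exact h.nd x fun y => by rw [← h.iso, hx]; simp
  obtain ⟨x, rfl⟩ := LinearMap.surjective_of_injective hi v
  have e := h.adj w x
  rw [hw, add_zero, ← map_add] at e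
  simpa [sub_one_apply] using e

theorem nilp : (u - 1) ^ finrank (ZMod p) W = 0 := by
  have hn : IsNilpotent (u - 1) := ⟨p, h.nil⟩
  have := (u - 1).aeval_self_charpoly
  rwa [hn.charpoly_eq_X_pow_finrank, map_pow, Polynomial.aeval_X] at this

end Sy

theorem finrank_ker_pow_le [Finite W] (f : End (ZMod p) W) (k : ℕ) :
    finrank (ZMod p) (LinearMap.ker (f ^ k)) ≤ k * finrank (ZMod p) (LinearMap.ker f) := by
  induction k with
  | zero => simp [End.one_eq_id]
  | succ k ih =>
    let φ : LinearMap.ker (f ^ (k + 1)) →ₗ[ZMod p] LinearMap.ker (f ^ k) :=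
      f.restrict fun x hx => by rwa [LinearMap.mem_ker, ← End.mul_apply, ← pow_succ]
    have h1 := φ.finrank_range_add_finrank_ker
    have h2 : finrank (ZMod p) (LinearMap.range φ) ≤ finrank (ZMod p) (LinearMap.ker (f ^ k)) :=
      Submodule.finrank_le _
    let ψ : LinearMap.ker φ →ₗ[ZMod p] LinearMap.ker f :=
      LinearMap.codRestrict _ ((LinearMap.ker (f ^ (k + 1))).subtype ∘ₗ (LinearMap.ker φ).subtype)
        fun x => congrArg Subtype.val x.2
    have h3 : finrank (ZMod p) (LinearMap.ker φ) ≤ finrank (ZMod p) (LinearMap.ker f) :=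
      LinearMap.finrank_le_finrank_of_injective (f := ψ) fun x y e =>
        Subtype.ext (Subtype.ext (congrArg (fun z : LinearMap.ker f => (z : W)) e))
    rw [Nat.succ_mul]
    omega

theorem T4.finrank_ker [Finite W] (h : Sy ω u) (h4 : T4 u) :
    finrank (ZMod p) (LinearMap.ker (u - 1)) = 1 := by
  obtain ⟨hd, h3⟩ := h4
  have hn := h.nilp
  rw [hd] at hn
  set f : End (ZMod p) W := u - 1
  obtain ⟨x, hx⟩ : ∃ x, (f ^ 3) x ≠ 0 := by
    by_contra! hc
    exact h3 (LinearMap.ext hc)
  have key : ∀ k j, k + j = 3 → finrank (ZMod p) (LinearMap.ker (f ^ k)) <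
      finrank (ZMod p) (LinearMap.ker (f ^ (k + 1))) := fun k j e => by
    refine Submodule.finrank_lt_finrank_of_lt (lt_of_le_of_ne (fun w hw => ?_) fun e' => hx ?_)
    · rw [LinearMap.mem_ker] at hw ⊢
      rw [pow_succ', End.mul_apply, hw, map_zero]
    · have : (f ^ j) x ∈ LinearMap.ker (f ^ (k + 1)) := by
        rw [LinearMap.mem_ker, ← End.mul_apply, ← pow_add, show k + 1 + j = 4 by omega, hn]
        rfl
      rwa [← e', LinearMap.mem_ker, ← End.mul_apply, ← pow_add, e] at this
  have k0 := key 0 3 rfl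
  have k1 := key 1 2 rfl
  have k2 := key 2 1 rfl
  have k3 := key 3 0 rfl
  have k4 : finrank (ZMod p) (LinearMap.ker (f ^ (3 + 1))) ≤ 4 := hd ▸ Submodule.finrank_le _
  simp only [Nat.reduceAdd] at k0 k1 k2 k3 k4
  have k5 : finrank (ZMod p) (LinearMap.ker (f ^ 1)) = finrank (ZMod p) (LinearMap.ker f) := by
    rw [pow_one]
  omega

theorem T22.ker_eq (h : T22 u) : LinearMap.ker (u - 1) = LinearMap.range (u - 1) := by
  refine le_antisymm (fun w hw => h.2.2 w hw) ?_
  rintro _ ⟨v, rfl⟩
  rw [LinearMap.mem_ker, ← End.mul_apply, ← pow_two, h.2.1]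
  rfl

theorem T22.finrank_ker [Finite W] (h : T22 u) : finrank (ZMod p) (LinearMap.ker (u - 1)) = 2 := by
  have h2 := (u - 1).finrank_range_add_finrank_ker
  rw [← h.ker_eq, h.1] at h2
  omega

theorem T22.ff (h : T22 u) (w : W) : (u - 1) ((u - 1) w) = 0 := by
  rw [← End.mul_apply, ← pow_two, h.2.1]
  rfl

end Cfsg.Lib.XS
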