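import Cfsg.Agent.XS.Bas

/-! The tower above a pearl in the fusion system. -/

set_option autoImplicit false

universe u

namespace Cfsg.Lib.XS.Co

open Cfsg Cfsg.FusionSystem Cfsg.Lib.Fus Module Subgroup Equiv

variable {p : ℕ} [hp : Fact p.Prime] {Ω : Type u} [Group Ω] {S Q : Subgroup Ω} {W : Type}
  [AddCommGroup W] [Module (ZMod p) W] {C : Co p S Q W} {F : FusionSystem S} {e a : Ω}
  {φ : Perm Ω} {i : ℕ}

namespace P1b

theorem exy (h : C.Pl e) : ∃ y ∈ C.Kh e 1, ∃ c, c ≠ 0 ∧ e * y * e⁻¹ * y⁻¹ = C.ζ c := by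
  obtain ⟨⟨w, hw⟩, h1, -⟩ := finrank_eq_one_iff'.1 h.one
  obtain ⟨y, hy, rfl⟩ := C.ν_surj w
  obtain ⟨c, hc⟩ := C.ν_ker _ (C.comm_mem h.mem (C.le hy)) ((C.ν_comm h.mem hy).trans hw)
  refine ⟨y, ⟨hy, by rw [pow_one]; exact hw⟩, c, fun h0 => h1 (Subtype.ext (h.cen y hy ?_)), hc⟩
  rwa [h0, C.ζ_zero, mul_inv_eq_one, mul_inv_eq_iff_eq_mul] at hc

theorem cls0 (h : C.Pl e) (s : ZMod p) : ∃ y ∈ Q, y * e * y⁻¹ = C.ζ s * e := by
  obtain ⟨y, hy, c, hc, h1⟩ := exy h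
  have h2 : y⁻¹ * e * y = C.ζ c * e := by
    rw [← C.conj_ζ (Subgroup.inv_mem _ (C.le hy.1)), ← h1]
    group
  have h3 : ∀ n : ℕ, y⁻¹ ^ n * e * (y⁻¹ ^ n)⁻¹ = C.ζ (n * c) * e := fun n => by
    induction n with
    | zero => simp [C.ζ_zero]
    | succ n ih =>
      calc _ = y⁻¹ * (y⁻¹ ^ n * e * (y⁻¹ ^ n)⁻¹) * y := by group
        _ = C.ζ (n * c) * (y⁻¹ * e * y) := by
          rw [ih, ← mul_assoc, C.ζ_cen _ (Subgroup.inv_mem _ (C.le hy.1))]; group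
        _ = _ := by rw [h2, ← mul_assoc, ← C.ζ_add]; push_cast; rw [add_mul, one_mul]
  exact ⟨_, Subgroup.pow_mem _ (Subgroup.inv_mem _ hy.1) (s / c).val, by
    rw [h3, ZMod.natCast_zmod_val, div_mul_cancel₀ _ hc]⟩

theorem pl_pow (h : C.Pl e) {k : ℕ} (hk : e ^ k ∉ Q) : C.Pl (e ^ k) := by
  refine ⟨Subgroup.pow_mem _ h.mem k, hk, by rw [← pow_mul, mul_comm, pow_mul, h.pow, one_pow],
    C.ker_eq h.mem h.out (Subgroup.pow_mem _ h.mem k) hk ▸ h.one, fun a ha h1 => h.cen a ha ?_⟩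
  obtain ⟨m, hm⟩ := exists_pow_eq_self_of_coprime (x := e) (n := k)
    ((hp.out.coprime_iff_not_dvd.2 fun h2 => hk ((C.pow_mem_iff h.mem h.out).2 h2)).symm.coprime_dvd_right
      (orderOf_dvd_of_pow_eq_one h.pow))
  rw [← hm]
  exact (show Commute (e ^ k) a from h1).pow_left m

theorem cls (h : C.Pl e) (hz : C.Zc F e) (ha : a ∈ Q) {v : W} (hv : (C.u e - 1) v = C.ν a) :
    C.Zc F (a * e) := by
  obtain ⟨y, hy, h1⟩ := C.ν_surj (-v)
  obtain ⟨s, hs⟩ := C.ν_eq (C.comm_mem' h.mem hy) ha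
    (by rw [C.ν_comm' h.mem hy, h1, map_neg, neg_neg, hv])
  obtain ⟨x, hx, h2⟩ := cls0 h (-s)
  have h3 : y * x * e * (y * x)⁻¹ = a * e := by
    calc _ = y * (x * e * x⁻¹) * y⁻¹ := by group
      _ = C.ζ (-s) * (y * e * y⁻¹ * e⁻¹) * e := by
        rw [h2, ← mul_assoc, C.ζ_cen _ (C.le hy)]; group
      _ = _ := by rw [hs, C.ζ_cen _ (C.le ha), C.ζ_neg]; group
  exact h3 ▸ (zc_conj (C.le (Subgroup.mul_mem _ hy hx)) h.mem).2 hz

theorem e_mem : e ∈ C.Rh e i := mem_sup_right (mem_zpowers e)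

theorem zeta (hN : C.NQ F) (h : C.Pl e) (hi : 1 ≤ i) (hφ : Mor F (C.Rh e i) φ) (t : ZMod p) :
    ∃ r, φ (C.ζ t) = C.ζ r := by
  obtain ⟨y, hy, c, hc, h1⟩ := exy h
  have h2 : y ∈ C.Rh e i := mem_sup_left (C.Kh_mono e hi hy)
  have h3 : ∀ t, C.ζ t ∈ C.Rh e i := fun t => mem_sup_left (C.ζ_mem_Kh t i)
  have h4 : φ (C.ζ c) ∈ Q := by
    rw [← h1, hφ.mulOn.map_mul (Subgroup.mul_mem _ (Subgroup.mul_mem _ e_mem h2) (Subgroup.inv_mem _ e_mem)) (Subgroup.inv_mem _ h2),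
      hφ.mulOn.map_conj e_mem h2, hφ.mulOn.map_inv h2]
    exact C.comm_mem (hφ.maps e_mem) (hφ.maps h2)
  have h5 : φ (C.ζ t) ∈ Q := by
    have := Subgroup.pow_mem _ h4 (t / c).val
    rwa [← hφ.mulOn.map_pow (h3 c), C.ζ_pow, ZMod.natCast_zmod_val, div_mul_cancel₀ _ hc] at this
  exact C.ν_ker _ h5 (hN _ h5 ((zc_iff hφ (h3 t)).2 (zc_ζ t)))

theorem zeta' (hN : C.NQ F) (h : C.Pl e) (hi : 1 ≤ i) (hφ : Mor F (C.Rh e i) φ) (r : ZMod p) :
    ∃ t, φ (C.ζ t) = C.ζ r := by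
  choose f hf using zeta hN h hi hφ
  obtain ⟨t, rfl⟩ := Finite.injective_iff_surjective.1 (fun s t e => C.ζ_injective
    (φ.injective (by rw [hf, hf, e])) : Function.Injective f) r
  exact ⟨t, hf t⟩

theorem out (hN : C.NQ F) (h : C.Pl e) (hz : C.Zc F e) (hi : 1 ≤ i) (hφ : Mor F (C.Rh e i) φ) :
    φ e ∉ Q := fun h1 => by
  obtain ⟨r, hr⟩ := C.ν_ker _ h1 (hN _ h1 ((zc_iff hφ e_mem).2 hz))
  obtain ⟨t, ht⟩ := zeta' hN h hi hφ r
  exact h.out (φ.injective (ht.trans hr.symm) ▸ C.ζ_mem t)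

theorem card_inf (C : Co p S Q W) {R : Subgroup Ω} (hR : R ≤ S) (he : e ∈ R) (hq : e ∉ Q) :
    Nat.card (Q ⊓ R : Subgroup Ω) * p = Nat.card R := by
  have := C.normal
  have h1 := relIndex_dvd_index_of_normal (Q.subgroupOf S) (R.subgroupOf S)
  rw [relIndex_subgroupOf hR, show (Q.subgroupOf S).index = p from C.idx] at h1
  have h2 := (hp.out.eq_one_or_self_of_dvd _ h1).resolve_left fun h => hq (relIndex_eq_one.1 h he)
  rw [← (Q.subgroupOf R).card_mul_index, show (Q.subgroupOf R).index = p from h2,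
    ← inf_subgroupOf_right, Nat.card_congr (subgroupOfEquivOfLe inf_le_right).toEquiv]

end P1b

open P1b

theorem wP1b [Finite S] (C : Co p S Q W) {F : FusionSystem S} (ha : C.WP1a) : C.WP1b F := by
  intro hN e h hz i hi hd
  obtain ⟨-, h1, h2, h3⟩ := ha e h.mem h.out h.pow h.one
  refine ⟨isFullyNormalized_iff_piso.2 ⟨C.Rh_le h.mem i, fun R φ hφ => ?_⟩, fun φ hφ => ?_⟩
  · have m1 := hφ.mor.maps e_mem
    have q1 := out hN h hz hi hφ.mor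
    have r1 := hφ.maps e_mem
    obtain ⟨-, -, h4, h5⟩ := ha _ m1 q1 (by rw [← hφ.mor.mulOn.map_pow e_mem, h.pow,
      hφ.mor.mulOn.map_one]) (C.ker_eq h.mem h.out m1 q1 ▸ h.one)
    have h6 : Nat.card R = p ^ (i + 2) := hφ.card_eq.trans (h3 i hd.le).1
    have h7 := (h5 i hd.le).2.2 (Q ⊓ R) inf_le_left (fun t => ⟨C.ζ_mem t, by
        obtain ⟨s, hs⟩ := zeta' hN h hi hφ.mor t
        exact hs ▸ hφ.maps (mem_sup_left (C.ζ_mem_Kh s i))⟩)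
      (fun x hx => ⟨C.nrm _ m1 x hx.1, Subgroup.mul_mem _ (Subgroup.mul_mem _ r1 hx.2) (Subgroup.inv_mem _ r1)⟩)
      (Nat.eq_of_mul_eq_mul_right hp.out.pos (by
        rw [card_inf C hφ.le_right r1 q1, h6, ← pow_succ]))
    have : Finite R := Finite.of_injective _ (inclusion_injective hφ.le_right)
    have h8 : C.Rh (φ e) i = R := eq_of_le_of_card_ge
      (sup_le (h7.ge.trans inf_le_right) (zpowers_le.2 r1)) (by rw [h6, (h5 i hd.le).1])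
    rw [← h8, h4 i hd, h2 i hd, (h5 _ hd).1, (h3 _ hd).1]
  · have m1 := hφ.mor.maps e_mem
    have q1 := out hN h hz hi hφ.mor
    have h4 : ∀ x ∈ C.Kh e i, φ x ∈ Q := fun x hx => by
      by_contra h5
      have h6 := hφ.maps (mem_sup_left hx)
      obtain ⟨a, ha, k, -, h7⟩ := C.gen h.mem h.out (hφ.le_left h6)
      have h8 : e ^ k ∉ Q := fun h9 => h5 (h7 ▸ Subgroup.mul_mem _ ha h9)
      have h9 : a ∈ C.Kh e i := (h3 i hd.le).2.1.le
        ⟨(mul_mem_cancel_right (Subgroup.pow_mem _ e_mem k)).1 (h7 ▸ h6), ha⟩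
      obtain ⟨v, hv⟩ := (C.range_eq h.mem h.out (Subgroup.pow_mem _ h.mem k) h8).le
        (h1 _ (C.Kh_mono e (Nat.le_sub_one_of_lt hd) h9).2)
      have h10 := cls (pl_pow h h8) (hz.pow k) ha hv
      rw [← h7, zc_iff hφ.mor (mem_sup_left hx)] at h10
      obtain ⟨t, rfl⟩ := C.ν_ker x hx.1 (hN x hx.1 h10)
      obtain ⟨r, hr⟩ := zeta hN h hi hφ.mor t
      exact h5 (hr ▸ C.ζ_mem r)
    intro j
    induction j with
    | zero =>
      intro _ x hx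
      obtain ⟨t, rfl⟩ := C.mem_Kh_zero.1 hx
      exact C.mem_Kh_zero.2 (zeta hN h hi hφ.mor t)
    | succ j ih =>
      intro hj x hx
      have h5 := C.Kh_mono e hj hx
      have h6 : x ∈ C.Rh e i := mem_sup_left h5
      have h7 := ih (by omega) _ (C.comm_mem_Kh h.mem h.out h.mem hx)
      rw [hφ.map_mul (Subgroup.mul_mem _ (Subgroup.mul_mem _ e_mem h6) (Subgroup.inv_mem _ e_mem)) (Subgroup.inv_mem _ h6),
        hφ.map_conj e_mem h6, hφ.mor.mulOn.map_inv h6, C.Kh_eq h.mem h.out m1 q1] at h7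
      rw [C.Kh_eq h.mem h.out m1 q1]
      exact ⟨h4 x h5, by rw [pow_succ, End.mul_apply, ← C.ν_comm m1 (h4 x h5)]; exact h7.2⟩

end Cfsg.Lib.XS.Co
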